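import Mathlib

/-!
An injective integral extension preserves the Krull dimension.
-/

namespace Groth.Calg8

theorem ringKrullDim_eq_of_integral (A B : Type*) [CommRing A] [CommRing B] [Algebra A B]
    [Algebra.IsIntegral A B] (hinj : Function.Injective (algebraMap A B)) :
    ringKrullDim B = ringKrullDim A := by
  refine le_antisymm (Order.krullDim_le_of_strictMono (PrimeSpectrum.comap (algebraMap A B)) fun P Q hlt => ?_) ?_
  · obtain ⟨x, hxQ, hxP⟩ := Set.exists_of_ssubset (show (P.asIdeal : Set B) ⊂ Q.asIdeal from hlt)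
    exact Ideal.comap_lt_comap_of_integral_mem_sdiff (hIJ := hlt.le) ⟨hxQ, hxP⟩
      (Algebra.IsIntegral.isIntegral x)
  · refine iSup_le fun l => ?_
    have hker : RingHom.ker (algebraMap A B) = ⊥ := (RingHom.injective_iff_ker_eq_bot _).1 hinj
    obtain ⟨P, -, hP, hPl⟩ := Ideal.exists_ideal_over_prime_of_isIntegral (l.head).asIdeal (⊥ : Ideal B) (by
      rw [← RingHom.ker_eq_comap_bot, hker]; exact bot_le)
    have : P.LiesOver (RelSeries.head l).asIdeal := ⟨hPl.symm⟩
    obtain ⟨L, hL, -, -⟩ := Ideal.exists_ltSeries_of_hasGoingUp (S := B) l P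
    rw [← hL]
    exact Order.LTSeries.length_le_krullDim L

end Groth.Calg8
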