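import Groth.Agent.Calg8.Decaying

/-!
Decaying functions as completions of free modules.
-/

open W4c5adicflatcompl

namespace Groth.Calg8

variable {A : Type*} [CommRing A] {I : Ideal A} {Z : Type*}
variable {M : Type*} [AddCommGroup M] [Module A M]
variable {N : Type*} [AddCommGroup N] [Module A N]
variable {P : Type*} [AddCommGroup P] [Module A P]

theorem exists_mem_sub_of (x : AdicCompletion I M) (n : ℕ) :
    ∃ y : M, AdicCompletion.eval I M n (x - AdicCompletion.of I M y) = 0 := by
  obtain ⟨y, hy⟩ := Submodule.Quotient.mk_surjective _ (AdicCompletion.eval I M n x)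
  exact ⟨y, by rw [map_sub, AdicCompletion.eval_of, Submodule.mkQ_apply, hy, sub_self]⟩

theorem exists_retraction (I : Ideal A) (M : Type*) [AddCommGroup M] [Module A M] :
    ∃ ψ : AdicCompletion I (AdicCompletion I M) →ₗ[A] AdicCompletion I M,
      ψ ∘ₗ AdicCompletion.of I (AdicCompletion I M) = LinearMap.id := by
  let g : ∀ n, (AdicCompletion I M ⧸ (I ^ n • ⊤ : Submodule A (AdicCompletion I M))) →ₗ[A]
      M ⧸ (I ^ n • ⊤ : Submodule A M) := fun n =>
    Submodule.liftQ _ (AdicCompletion.eval I M n) (AdicCompletion.pow_smul_top_le_ker_eval I n)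
  refine ⟨AdicCompletion.lift I
    (fun n => g n ∘ₗ AdicCompletion.eval I (AdicCompletion I M) n) ?_, ?_⟩
  · intro m n hmn
    refine LinearMap.ext fun z => ?_
    simp only [LinearMap.coe_comp, Function.comp_apply, AdicCompletion.eval_apply]
    rw [← z.property hmn]
    induction z.val n using Submodule.Quotient.induction_on with
    | _ x => simp [g]
  · refine LinearMap.ext fun x => AdicCompletion.ext fun n => ?_
    simp [g]

/-- If the completion is complete, kernels of evaluations are as expected. -/
theorem ker_eval_le [IsAdicComplete I (AdicCompletion I M)] (n : ℕ) (x : AdicCompletion I M)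
    (hx : AdicCompletion.eval I M n x = 0) :
    x ∈ (I ^ n • ⊤ : Submodule A (AdicCompletion I M)) := by
  choose y hy using fun k => exists_mem_sub_of x k
  have hy' : ∀ k, Submodule.Quotient.mk (y k) = AdicCompletion.eval I M k x := fun k => by
    have := hy k
    rw [map_sub, AdicCompletion.eval_of, Submodule.mkQ_apply, sub_eq_zero] at this
    exact this.symm
  obtain ⟨L, hL⟩ := IsPrecomplete.prec (I := I) (M := AdicCompletion I M) inferInstance
    (f := fun k => AdicCompletion.of I M (y k)) (fun {a b} hab => SModEq.sub_mem.2 (by
      rw [← map_sub]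
      refine map_mem_smul_top _ _ ((Submodule.Quotient.eq _).1 ?_)
      rw [hy', AdicCompletion.eval_apply, ← x.property hab, ← AdicCompletion.eval_apply, ← hy' b]
      simp))
  have hLx : L = x := AdicCompletion.ext fun k => by
    have := AdicCompletion.pow_smul_top_le_ker_eval I k (SModEq.sub_mem.1 (hL k))
    rw [LinearMap.mem_ker, map_sub, AdicCompletion.eval_of, sub_eq_zero, Submodule.mkQ_apply,
      hy'] at this
    exact this.symm
  have h0 : y n ∈ (I ^ n • ⊤ : Submodule A M) := by
    rw [← Submodule.Quotient.mk_eq_zero, hy', hx]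
  rw [← hLx]
  simpa using sub_mem (map_mem_smul_top (AdicCompletion.of I M) _ h0) (SModEq.sub_mem.1 (hL n))

theorem eval_eq_zero_iff [IsAdicComplete I (AdicCompletion I M)] (n : ℕ)
    (x : AdicCompletion I M) :
    AdicCompletion.eval I M n x = 0 ↔ x ∈ (I ^ n • ⊤ : Submodule A (AdicCompletion I M)) :=
  ⟨ker_eval_le n x, fun h => AdicCompletion.pow_smul_top_le_ker_eval I n h⟩

variable (I Z M) in
/-- The coordinate map from the completion of finitely supported functions. -/
noncomputable def coordMap : AdicCompletion I (Z →₀ M) →ₗ[A] (Z → AdicCompletion I M) :=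
  LinearMap.pi fun z : Z =>
    (AdicCompletion.map I (Finsupp.lapply (M := M) (R := A) z)).restrictScalars A

theorem coordMap_injective : Function.Injective (coordMap I Z M) := by
  rw [injective_iff_map_eq_zero]
  intro x hx
  refine AdicCompletion.ext fun n => ?_
  obtain ⟨f, hf⟩ := Submodule.Quotient.mk_surjective _ (x.val n)
  rw [← hf, AdicCompletion.val_zero_apply, Submodule.Quotient.mk_eq_zero, finsupp_mem_smul_top_iff]
  intro z
  have h := congrArg (fun g : Z → AdicCompletion I M => (g z).val n) hx
  simp only [coordMap, LinearMap.pi_apply, LinearMap.coe_restrictScalars,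
    AdicCompletion.map_val_apply, ← hf, LinearMap.reduceModIdeal_apply, Pi.zero_apply,
    AdicCompletion.val_zero_apply, Submodule.Quotient.mk_eq_zero] at h
  simpa using h

theorem range_coordMap [IsAdicComplete I (AdicCompletion I M)] :
    LinearMap.range (coordMap I Z M) = decaying I Z (AdicCompletion I M) := by
  classical
  refine le_antisymm ?_ ?_
  · rintro g ⟨x, rfl⟩ n
    obtain ⟨f, hf⟩ := Submodule.Quotient.mk_surjective _ (x.val n)
    refine f.support.finite_toSet.subset fun z hz => ?_
    by_contra hz'
    refine hz (ker_eval_le n _ ?_)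
    simp only [coordMap, LinearMap.pi_apply, LinearMap.coe_restrictScalars,
      AdicCompletion.eval_apply, AdicCompletion.map_val_apply, ← hf,
      LinearMap.reduceModIdeal_apply, Finsupp.lapply_apply]
    rw [Finsupp.notMem_support_iff.1 (by simpa using hz')]
    simp
  · intro g hg
    choose y hy using fun (n : ℕ) (z : Z) =>
      Submodule.Quotient.mk_surjective _ ((g z).val n)
    let F : ℕ → (Z →₀ M) := fun n => ∑ z ∈ (hg n).toFinset, Finsupp.single z (y n z)
    have hF : ∀ (n : ℕ) (z : Z),
        (Submodule.Quotient.mk (F n z) : M ⧸ (I ^ n • ⊤ : Submodule A M)) = (g z).val n := by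
      intro n z
      simp only [F, Finsupp.finsetSum_apply, Finsupp.single_apply, Finset.sum_ite_eq']
      split_ifs with h
      · exact hy n z
      · rw [Set.Finite.mem_toFinset, Set.mem_ofPred_eq, not_not] at h
        have := AdicCompletion.pow_smul_top_le_ker_eval I n h
        rw [LinearMap.mem_ker, AdicCompletion.eval_apply] at this
        simp [this]
    refine ⟨⟨fun n => Submodule.Quotient.mk (F n), fun {a b} hab => ?_⟩, funext fun z =>
      AdicCompletion.ext fun n => ?_⟩
    · show (Submodule.Quotient.mk (F b) : (Z →₀ M) ⧸ (I ^ a • ⊤ : Submodule A (Z →₀ M))) = _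
      rw [Submodule.Quotient.eq, finsupp_mem_smul_top_iff]
      intro z
      rw [Finsupp.sub_apply, ← Submodule.Quotient.eq, hF a z, ← (g z).property hab, ← hF b z]
      simp
    · exact hF n z

variable (I Z M) in
/-- The completion of finitely supported functions is the module of decaying functions. -/
noncomputable def complEquiv [IsAdicComplete I (AdicCompletion I M)] :
    AdicCompletion I (Z →₀ M) ≃ₗ[A] decaying I Z (AdicCompletion I M) :=
  (LinearEquiv.ofInjective _ coordMap_injective).trans (LinearEquiv.ofEq _ _ range_coordMap)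

theorem complEquiv_of_single [DecidableEq Z] [IsAdicComplete I (AdicCompletion I M)] (z : Z) (m : M) :
    complEquiv I Z M (AdicCompletion.of I _ (Finsupp.single z m)) =
      single I z (AdicCompletion.of I M m) := by
  refine Subtype.ext (funext fun w => ?_)
  show coordMap I Z M _ w = _
  rw [coe_single]
  simp only [coordMap, LinearMap.pi_apply, LinearMap.coe_restrictScalars, AdicCompletion.map_of]
  rcases eq_or_ne w z with rfl | hne
  · simp
  · simp [hne, hne.symm]

/-- Linear maps from a completion to a separated module are determined on the dense image. -/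
theorem completion_hom_ext [IsAdicComplete I (AdicCompletion I N)] [IsHausdorff I M]
    {φ ψ : AdicCompletion I N →ₗ[A] M}
    (h : φ ∘ₗ AdicCompletion.of I N = ψ ∘ₗ AdicCompletion.of I N) : φ = ψ := by
  refine LinearMap.ext fun x => sub_eq_zero.1 (eq_zero_of_forall_mem (I := I) fun n => ?_)
  obtain ⟨y, hy⟩ := exists_mem_sub_of x n
  have hc : φ (AdicCompletion.of I N y) = ψ (AdicCompletion.of I N y) := LinearMap.congr_fun h y
  have := map_mem_smul_top (φ - ψ) _ (ker_eval_le n _ hy)
  simpa [hc] using this

/-- The universal property of decaying functions. -/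
theorem existsUnique_linearMap_single (hI : I.FG) [DecidableEq Z] [IsAdicComplete I M]
    (f : Z → M) :
    ∃! φ : decaying I Z (AdicCompletion I A) →ₗ[A] M,
      ∀ z, φ (single I z (1 : AdicCompletion I A)) = f z := by
  have : IsAdicComplete I (AdicCompletion I A) := AdicCompletion.isAdicComplete hI
  have : IsAdicComplete I (AdicCompletion I (Z →₀ A)) := AdicCompletion.isAdicComplete hI
  let L : AdicCompletion I (Z →₀ A) →ₗ[A] M :=
    (AdicCompletion.ofLinearEquiv I M).symm.toLinearMap ∘ₗ
      (AdicCompletion.map I (Finsupp.linearCombination A f)).restrictScalars A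
  have hone : (1 : AdicCompletion I A) = AdicCompletion.of I A 1 := AdicCompletion.ext fun _ => rfl
  have hL : ∀ z, L (AdicCompletion.of I _ (Finsupp.single z 1)) = f z := by
    intro z
    simp [L, AdicCompletion.map_of]
  refine ⟨L ∘ₗ (complEquiv I Z A).symm.toLinearMap, fun z => ?_, fun φ hφ => ?_⟩
  · rw [LinearMap.comp_apply, LinearEquiv.coe_coe, hone, ← complEquiv_of_single z (1 : A),
      LinearEquiv.symm_apply_apply, hL]
  · rw [LinearEquiv.eq_comp_toLinearMap_symm]
    exact completion_hom_ext (Finsupp.lhom_ext fun z a => by
      have h1 : Finsupp.single z a = a • Finsupp.single z (1 : A) := by simp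
      simp only [LinearMap.comp_apply, LinearEquiv.coe_coe, h1, map_smul, hL,
        complEquiv_of_single, ← hone, hφ])

/-- A map which is bijective modulo every power is bijective on completions. -/
theorem completionMap_bijective (f : P →ₗ[A] N)
    (hs : ∀ (n : ℕ) (y : N), ∃ x, f x - y ∈ (I ^ n • ⊤ : Submodule A N))
    (hi : ∀ (n : ℕ) (x : P), f x ∈ (I ^ n • ⊤ : Submodule A N) → x ∈ (I ^ n • ⊤ : Submodule A P)) :
    Function.Bijective (AdicCompletion.map I f) := by
  have hb : ∀ n, Function.Bijective (f.reduceModIdeal (I ^ n)) := by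
    intro n
    constructor
    · rw [injective_iff_map_eq_zero]
      intro q
      induction q using Submodule.Quotient.induction_on with
      | _ x =>
        intro hx
        rw [LinearMap.reduceModIdeal_apply, Submodule.Quotient.mk_eq_zero] at hx
        exact (Submodule.Quotient.mk_eq_zero _).2 (hi n x hx)
    · intro q
      induction q using Submodule.Quotient.induction_on with
      | _ y =>
        obtain ⟨x, hx⟩ := hs n y
        exact ⟨Submodule.Quotient.mk x, (Submodule.Quotient.eq _).2 hx⟩
  constructor
  · intro x y hxy
    refine AdicCompletion.ext fun n => (hb n).1 ?_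
    simpa using congrArg (fun t => t.val n) hxy
  · intro y
    choose u hu using fun n => (hb n).2 (y.val n)
    refine ⟨⟨u, fun {a b} hab => (hb a).1 ?_⟩, AdicCompletion.ext fun n => hu n⟩
    rw [hu a, ← y.property hab, ← hu b]
    exact (LinearMap.congr_fun (AdicCompletion.transitionMap_comp_reduceModIdeal I f hab) (u b)).symm

/-- Decaying functions commute with linear equivalences. -/
noncomputable def decayingCongr (e : M ≃ₗ[A] N) : decaying I Z M ≃ₗ[A] decaying I Z N :=
  LinearEquiv.ofLinearMap
    (LinearMap.codRestrict _ ((e.toLinearMap.compLeft Z).comp (decaying I Z M).subtype)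
      (fun f => comp_mem_decaying e.toLinearMap f.2))
    (LinearMap.codRestrict _ ((e.symm.toLinearMap.compLeft Z).comp (decaying I Z N).subtype)
      (fun f => comp_mem_decaying e.symm.toLinearMap f.2))
    (LinearMap.ext fun f => Subtype.ext (funext fun z => e.apply_symm_apply ((f : Z → N) z)))
    (LinearMap.ext fun f => Subtype.ext (funext fun z => e.symm_apply_apply ((f : Z → M) z)))

end Groth.Calg8
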