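import Groth.Agent.S12906
import Mathlib

/-!
The Hilbert–Burch structure theorem over a UFD.
-/

universe u

namespace Groth.Calg8

variable {A : Type u} [CommRing A] {t : ℕ}

/-- Signed maximal minors of a `(t+1) × t` matrix. -/
noncomputable def minorVec (Ψ : Matrix (Fin (t + 1)) (Fin t) A) (i : Fin (t + 1)) : A :=
  (-1 : A) ^ (i : ℕ) * (Ψ.submatrix i.succAbove id).det

theorem minorVec_map {B : Type*} [CommRing B] (f : A →+* B) (Ψ : Matrix (Fin (t + 1)) (Fin t) A)
    (i : Fin (t + 1)) : minorVec (Ψ.map f) i = f (minorVec Ψ i) := by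
  simp [minorVec, RingHom.map_det, Matrix.submatrix_map]

theorem sum_minorVec_mul (Ψ : Matrix (Fin (t + 1)) (Fin t) A) (j : Fin t) :
    ∑ i, minorVec Ψ i * Ψ i j = 0 :=
  Groth.Agent.S12906.result t Ψ j

/-- Over a field, if all maximal minors vanish then the columns are dependent. -/
theorem not_linearIndependent_of_minorVec_eq_zero {K : Type u} [Field K]
    (Ψ : Matrix (Fin (t + 1)) (Fin t) K) (h : ∀ i, minorVec Ψ i = 0) :
    ¬ LinearIndependent K Ψ.col := by
  intro hli
  obtain ⟨w, hw⟩ : ∃ w, w ∉ Submodule.span K (Set.range Ψ.col) := by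
    by_contra! hall
    have h1 := finrank_span_eq_card hli
    rw [Submodule.eq_top_iff'.2 hall, finrank_top] at h1
    simp at h1
  have hli' := linearIndependent_finCons.2 ⟨hli, hw⟩
  let M : Matrix (Fin (t + 1)) (Fin (t + 1)) K := Matrix.of fun i j => (Fin.cons w Ψ.col : Fin (t + 1) → Fin (t + 1) → K) j i
  have hM : M.col = (Fin.cons w Ψ.col : Fin (t + 1) → Fin (t + 1) → K) := rfl
  have hdet : M.det = 0 := by
    rw [Matrix.det_succ_column_zero]
    refine Finset.sum_eq_zero fun i _ => ?_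
    have hs : M.submatrix i.succAbove Fin.succ = Ψ.submatrix i.succAbove id := by
      ext a b
      simp only [Matrix.submatrix_apply, M, Matrix.of_apply, Fin.cons_succ]
      rfl
    rw [hs, mul_right_comm]
    have := h i
    rw [minorVec] at this
    rw [this, zero_mul]
  have hu : IsUnit M := Matrix.linearIndependent_cols_iff_isUnit.1 (hM ▸ hli')
  exact ((Matrix.isUnit_iff_isUnit_det M).1 hu).ne_zero hdet

/-- Over a domain, if all maximal minors vanish then the matrix has nonzero kernel. -/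
theorem exists_mulVec_eq_zero_of_minorVec_eq_zero [IsDomain A]
    (Ψ : Matrix (Fin (t + 1)) (Fin t) A) (h : ∀ i, minorVec Ψ i = 0) :
    ∃ w, w ≠ 0 ∧ Ψ.mulVec w = 0 := by
  let f := algebraMap A (FractionRing A)
  by_contra! hc
  refine not_linearIndependent_of_minorVec_eq_zero (Ψ.map f)
    (fun i => by rw [minorVec_map, h i, map_zero]) ?_
  rw [← LinearIndependent.iff_fractionRing A (FractionRing A), Fintype.linearIndependent_iff]
  intro g hg
  have hw : Ψ.mulVec g = 0 := funext fun i => by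
    have h2 := congrFun hg i
    simp only [Finset.sum_apply, Pi.smul_apply, Pi.zero_apply] at h2
    simp only [Matrix.col_apply, Matrix.map_apply, Algebra.smul_def, f, ← map_mul, ← map_sum] at h2
    rw [← map_zero (algebraMap A (FractionRing A))] at h2
    have h3 := IsFractionRing.injective A (FractionRing A) h2
    simpa [Matrix.mulVec, dotProduct, mul_comm] using h3
  intro j
  have hg0 : g = 0 := by_contra fun hg0 => hc g hg0 hw
  rw [hg0]; rfl

/-- A vector annihilating the columns is proportional to the vector of signed minors. -/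
theorem minorVec_mul_eq_of_annihilates [IsDomain A] (Ψ : Matrix (Fin (t + 1)) (Fin t) A)
    (u : Fin (t + 1) → A) (hu : ∀ j, ∑ i, u i * Ψ i j = 0) (i₀ : Fin (t + 1))
    (h0 : minorVec Ψ i₀ ≠ 0) (j : Fin (t + 1)) :
    minorVec Ψ i₀ * u j = u i₀ * minorVec Ψ j := by
  set u' : Fin (t + 1) → A := fun l => minorVec Ψ i₀ * u l - u i₀ * minorVec Ψ l with hu'
  have hi₀ : u' i₀ = 0 := by simp [hu', mul_comm]
  have hann : ∀ c, ∑ l, u' l * Ψ l c = 0 := fun c => by
    simp only [hu', sub_mul, mul_assoc, Finset.sum_sub_distrib, ← Finset.mul_sum, hu c,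
      sum_minorVec_mul, mul_zero, sub_zero]
  have hvec : Matrix.vecMul (u' ∘ i₀.succAbove) (Ψ.submatrix i₀.succAbove id) = 0 := funext fun c => by
    have := hann c
    rw [Fin.sum_univ_succAbove _ i₀, hi₀, zero_mul, zero_add] at this
    simpa [Matrix.vecMul, dotProduct] using this
  have hdet : (Ψ.submatrix i₀.succAbove id).det ≠ 0 := fun h => h0 (by simp [minorVec, h])
  have hz := Matrix.eq_zero_of_vecMul_eq_zero hdet hvec
  have : u' j = 0 := by
    obtain rfl | ⟨l, rfl⟩ := Fin.eq_self_or_eq_succAbove i₀ j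
    · exact hi₀
    · exact congrFun hz l
  exact sub_eq_zero.1 this

/-- The Hilbert–Burch theorem over a UFD. -/
theorem hilbertBurch [IsDomain A] [UniqueFactorizationMonoid A]
    (Ψ : Matrix (Fin (t + 1)) (Fin t) A) (π : Fin (t + 1) → A)
    (hinj : ∀ w, Ψ.mulVec w = 0 → w = 0) (hrel : ∀ j, ∑ i, π i * Ψ i j = 0)
    (hker : ∀ z : Fin (t + 1) → A, ∑ i, π i * z i = 0 → ∃ w, Ψ.mulVec w = z) :
    ∃ a : A, ∀ i, π i = a * minorVec Ψ i := by
  obtain ⟨i₀, h0⟩ : ∃ i, minorVec Ψ i ≠ 0 := by
    by_contra! hall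
    obtain ⟨w, hw, hw0⟩ := exists_mulVec_eq_zero_of_minorVec_eq_zero Ψ hall
    exact hw (hinj w hw0)
  have hprop := minorVec_mul_eq_of_annihilates Ψ π hrel i₀ h0
  obtain ⟨a', b', c', hcop, ha, hb⟩ :=
    UniqueFactorizationMonoid.exists_reduced_factors (minorVec Ψ i₀) h0 (π i₀)
  have hc' : c' ≠ 0 := fun h => h0 (by rw [← ha, h, zero_mul])
  have heq : ∀ j, a' * π j = b' * minorVec Ψ j := fun j => by
    have := hprop j
    rw [← ha, ← hb, mul_assoc, mul_assoc] at this
    exact mul_left_cancel₀ hc' this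
  have hdvd : ∀ j, a' ∣ minorVec Ψ j := fun j =>
    hcop.dvd_of_dvd_mul_left ⟨π j, (heq j).symm⟩
  have hunit : IsUnit a' := by
    by_contra hnu
    have ha'0 : a' ≠ 0 := fun h => h0 (by rw [← ha, h, mul_zero])
    obtain ⟨p, hp, hpa⟩ := WfDvdMonoid.exists_irreducible_factor hnu ha'0
    have hprime : Prime p := UniqueFactorizationMonoid.irreducible_iff_prime.1 hp
    have : (Ideal.span {p}).IsPrime := (Ideal.span_singleton_prime hprime.ne_zero).2 hprime
    let q := Ideal.Quotient.mk (Ideal.span {p})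
    obtain ⟨w', hw', hw0⟩ := exists_mulVec_eq_zero_of_minorVec_eq_zero (Ψ.map q) fun i => by
      rw [minorVec_map]
      exact Ideal.Quotient.eq_zero_iff_mem.2 (Ideal.mem_span_singleton.2 (hpa.trans (hdvd i)))
    choose w hw using fun i => Ideal.Quotient.mk_surjective (w' i)
    have hmod : ∀ i, ∃ z, Ψ.mulVec w i = p * z := fun i => by
      rw [← dvd_def, ← Ideal.mem_span_singleton, ← Ideal.Quotient.eq_zero_iff_mem,
        RingHom.map_mulVec, show q ∘ w = w' from funext hw]
      exact congrFun hw0 i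
    choose z hz using hmod
    have hπz : ∑ i, π i * z i = 0 := by
      have h1 : ∑ i, π i * Ψ.mulVec w i = 0 := by
        simp only [Matrix.mulVec, dotProduct, Finset.mul_sum]
        rw [Finset.sum_comm]
        refine Finset.sum_eq_zero fun j _ => ?_
        simp only [← mul_assoc, ← Finset.sum_mul, hrel j, zero_mul]
      simp only [hz, mul_left_comm (π _) p, ← Finset.mul_sum] at h1
      exact (mul_eq_zero.1 h1).resolve_left hprime.ne_zero
    obtain ⟨v, hv⟩ := hker z hπz
    have hwv : w = p • v := sub_eq_zero.1 (hinj _ (by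
      rw [Matrix.mulVec_sub, Matrix.mulVec_smul, hv]
      funext i
      simp [hz]))
    refine hw' (funext fun i => ?_)
    rw [← hw i, hwv]
    exact Ideal.Quotient.eq_zero_iff_mem.2 (Ideal.mem_span_singleton.2 ⟨v i, rfl⟩)
  obtain ⟨u, rfl⟩ := hunit
  exact ⟨↑u⁻¹ * b', fun i => by rw [mul_assoc, ← heq i, Units.inv_mul_cancel_left]⟩

end Groth.Calg8
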