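import Groth.Prelude.Def_CAlgX
import Groth.Agent.Calg8.HilbertBurch
import Groth.Agent.S9284
import Mathlib

/-!
The Hilbert–Burch theorem over a Noetherian ring.
-/

universe u

namespace Groth.Calg8

variable {R : Type u} [CommRing R]

theorem minorIdeal_eq_span_minorVec {t : ℕ} (Ψ : Matrix (Fin (t + 1)) (Fin t) R) :
    CAlgX.minorIdeal Ψ t = Ideal.span (Set.range (minorVec Ψ)) := by
  classical
  refine le_antisymm ?_ ?_
  · rw [CAlgX.minorIdeal, Ideal.span_le]
    rintro _ ⟨⟨f, g⟩, rfl⟩
    show (Ψ.submatrix f g).det ∈ _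
    by_cases hf : Function.Injective f
    swap
    · obtain ⟨a, b, hab, hne⟩ := Function.not_injective_iff.1 hf
      rw [Matrix.det_zero_of_row_eq hne (funext fun c => by simp [hab])]
      exact zero_mem _
    by_cases hg : Function.Injective g
    swap
    · obtain ⟨a, b, hab, hne⟩ := Function.not_injective_iff.1 hg
      rw [Matrix.det_zero_of_column_eq hne fun c => by simp [hab]]
      exact zero_mem _
    obtain ⟨i, hi⟩ : ∃ i, ∀ a, f a ≠ i := by
      by_contra! hall
      have := Fintype.card_le_of_surjective f hall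
      simp at this
    choose σ hσ using fun a => Fin.exists_succAbove_eq (hi a)
    have hσi : Function.Injective σ := fun a b h => hf (by rw [← hσ a, ← hσ b, h])
    let σe := Equiv.ofBijective σ (Finite.injective_iff_bijective.1 hσi)
    let ge := Equiv.ofBijective g (Finite.injective_iff_bijective.1 hg)
    have he : Ψ.submatrix f g = ((Ψ.submatrix i.succAbove id).submatrix σe id).submatrix id ge := by
      ext a b
      simp [σe, ge, hσ]
    rw [he, Matrix.det_permute', Matrix.det_permute, show (Ψ.submatrix i.succAbove id).det =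
      (-1 : R) ^ (i : ℕ) * minorVec Ψ i by
        rw [minorVec, ← mul_assoc, ← mul_pow, neg_one_mul, neg_neg, one_pow, one_mul]]
    exact Ideal.mul_mem_left _ _ (Ideal.mul_mem_left _ _ (Ideal.mul_mem_left _ _ (Ideal.subset_span ⟨i, rfl⟩)))
  · rw [Ideal.span_le]
    rintro _ ⟨i, rfl⟩
    exact Ideal.mul_mem_left _ _ (Ideal.subset_span ⟨(i.succAbove, id), rfl⟩)

/-- `Δ i • z` is in the column span, if `z` is orthogonal to the vector `Δ` of minors. -/
theorem exists_mulVec_eq_minorVec_smul {t : ℕ} (Ψ : Matrix (Fin (t + 1)) (Fin t) R)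
    (z : Fin (t + 1) → R) (hz : ∑ i, minorVec Ψ i * z i = 0) (i : Fin (t + 1)) :
    ∃ w, Ψ.mulVec w = minorVec Ψ i • z := by
  classical
  let M : Matrix (Fin (t + 1)) (Fin (t + 1)) R := Matrix.of fun r => Fin.cons (z r) (Ψ r)
  have hsub : ∀ r : Fin (t + 1), M.submatrix r.succAbove Fin.succ = Ψ.submatrix r.succAbove id := fun r => by
    ext a b
    simp [M]
  have hdet : M.det = 0 := by
    rw [Matrix.det_succ_column_zero, ← hz]
    refine Finset.sum_congr rfl fun r _ => ?_
    rw [hsub, minorVec]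
    show (-1 : R) ^ (r : ℕ) * M r 0 * _ = _
    simp only [M, Matrix.of_apply, Fin.cons_zero]
    ring
  have hadj : M.adjugate 0 i = minorVec Ψ i := by
    rw [Matrix.adjugate_fin_succ_eq_det_submatrix, minorVec]
    simp only [Fin.val_zero, add_zero, Fin.succAbove_zero]
    rw [hsub]
  refine ⟨fun j => -(M.adjugate j.succ i), funext fun r => ?_⟩
  have h := congrFun (congrFun (Matrix.mul_adjugate M) r) i
  rw [hdet, zero_smul, Matrix.zero_apply, Matrix.mul_apply, Fin.sum_univ_succ, hadj] at h
  simp only [M, Matrix.of_apply, Fin.cons_zero, Fin.cons_succ] at h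
  simp only [Matrix.mulVec, dotProduct, Pi.smul_apply, smul_eq_mul, mul_neg, Finset.sum_neg_distrib]
  linear_combination -h

/-- The minors of a matrix annihilate its kernel. -/
theorem minorVec_mul_eq_zero_of_mulVec {t : ℕ} (Ψ : Matrix (Fin (t + 1)) (Fin t) R)
    (w : Fin t → R) (hw : Ψ.mulVec w = 0) (i : Fin (t + 1)) (j : Fin t) : minorVec Ψ i * w j = 0 := by
  have h1 : (Ψ.submatrix i.succAbove id).mulVec w = 0 := funext fun a => congrFun hw (i.succAbove a)
  have h2 := congrArg (fun v => (Matrix.adjugate (Ψ.submatrix i.succAbove id)).mulVec v) h1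
  simp only [Matrix.mulVec_mulVec, Matrix.adjugate_mul, Matrix.mulVec_zero] at h2
  have h3 := congrFun h2 j
  simp only [Matrix.smul_mulVec, Matrix.one_mulVec, Pi.smul_apply, smul_eq_mul, Pi.zero_apply] at h3
  rw [minorVec, mul_assoc, h3, mul_zero]

section Localization

/-- A local ring with a nonzero element killed by the maximal ideal: proper f.g. ideals have nonzero
annihilator. -/
theorem annihilator_ne_bot_of_socle {S : Type u} [CommRing S] [IsLocalRing S] {s : S} (hs : s ≠ 0)
    (hms : ∀ y ∈ IsLocalRing.maximalIdeal S, y * s = 0) :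
    ∀ I : Ideal S, I.FG → I ≠ ⊤ → I.annihilator ≠ ⊥ := fun I _ hI h => by
  have : s ∈ I.annihilator := Submodule.mem_annihilator.2 fun y hy => by
    rw [smul_eq_mul, mul_comm]
    exact hms y (IsLocalRing.le_maximalIdeal hI hy)
  rw [h, Submodule.mem_bot] at this
  exact hs this

/-- At an associated prime, finitely generated proper ideals have nonzero annihilators. -/
theorem annihilator_ne_bot_atPrime [IsNoetherianRing R] (P : Ideal R) [P.IsPrime]
    (hP : P ∈ associatedPrimes R R) :
    ∀ I : Ideal (Localization.AtPrime P), I.FG → I ≠ ⊤ → I.annihilator ≠ ⊥ := by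
  obtain ⟨-, x, hx⟩ := isAssociatedPrime_iff.1 hP
  have hmem : ∀ r, r ∈ P ↔ r * x = 0 := fun r => by
    rw [hx, Submodule.mem_colon_singleton, Submodule.mem_bot, smul_eq_mul]
  refine annihilator_ne_bot_of_socle (s := algebraMap R (Localization.AtPrime P) x) (fun h => ?_) fun y hy => ?_
  · obtain ⟨⟨c, hc⟩, hcx⟩ := (IsLocalization.map_eq_zero_iff P.primeCompl _ x).1 h
    exact hc ((hmem c).2 hcx)
  · rw [← Localization.AtPrime.map_eq_maximalIdeal] at hy
    refine Submodule.span_induction ?_ (zero_mul _) (fun a b _ _ ha hb => by rw [add_mul, ha, hb, add_zero])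
      (fun c a _ ha => by rw [smul_eq_mul, mul_assoc, ha, mul_zero]) hy
    rintro _ ⟨r, hr, rfl⟩
    rw [← map_mul, (hmem r).1 hr, map_zero]

theorem mulVec_map_injective {S : Type u} [CommRing S] [Algebra R S] (M : Submonoid R) [IsLocalization M S]
    {n m : ℕ} (Ψ : Matrix (Fin n) (Fin m) R) (hΨ : ∀ w, Ψ.mulVec w = 0 → w = 0)
    (w : Fin m → S) (hw : (Ψ.map (algebraMap R S)).mulVec w = 0) : w = 0 := by
  classical
  obtain ⟨b, hb⟩ := IsLocalization.exist_integer_multiples_of_finite M w
  choose w₀ hw₀ using hb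
  have hw₀' : (algebraMap R S ∘ w₀) = (algebraMap R S (b : R)) • w := funext fun j => by
    rw [Function.comp_apply, hw₀ j, Algebra.smul_def]; rfl
  have h1 : ∀ i, algebraMap R S (Ψ.mulVec w₀ i) = 0 := fun i => by
    rw [RingHom.map_mulVec, hw₀', Matrix.mulVec_smul, hw, smul_zero]
    rfl
  choose c hc using fun i => (IsLocalization.map_eq_zero_iff M S (Ψ.mulVec w₀ i)).1 (h1 i)
  let C : R := ∏ i, (c i : R)
  have h2 : Ψ.mulVec (C • w₀) = 0 := by
    rw [Matrix.mulVec_smul]
    funext i
    rw [Pi.smul_apply, smul_eq_mul, Pi.zero_apply,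
      show C = (∏ l ∈ Finset.univ.erase i, (c l : R)) * c i from (Finset.prod_erase_mul _ _ (Finset.mem_univ i)).symm,
      mul_assoc, hc i, mul_zero]
  have h3 := hΨ _ h2
  funext j
  have h4 := congrArg (algebraMap R S) (congrFun h3 j)
  rw [Pi.smul_apply, smul_eq_mul, map_mul, Pi.zero_apply, map_zero] at h4
  have hC : IsUnit (algebraMap R S C) := by
    rw [map_prod]
    exact IsUnit.prod_iff.2 fun i _ => IsLocalization.map_units S (c i)
  have h5 := hC.mul_right_eq_zero.1 h4
  rw [show algebraMap R S (w₀ j) = algebraMap R S b * w j from congrFun hw₀' j] at h5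
  exact (IsLocalization.map_units S b).mul_right_eq_zero.1 h5

/-- At an associated prime, an injective matrix has a left inverse. -/
theorem exists_leftInverse_atPrime [IsNoetherianRing R] (P : Ideal R) [P.IsPrime]
    (hP : P ∈ associatedPrimes R R) {n m : ℕ} (Ψ : Matrix (Fin n) (Fin m) R) (hΨ : ∀ w, Ψ.mulVec w = 0 → w = 0) :
    ∃ L : Matrix (Fin m) (Fin n) (Localization.AtPrime P),
      L * Ψ.map (algebraMap R (Localization.AtPrime P)) = 1 := by
  classical
  obtain ⟨ρ, hρ⟩ := Groth.Agent.S9284.exists_leftInverse _ (annihilator_ne_bot_atPrime P hP) m _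
    (Matrix.toLin' (Ψ.map (algebraMap R (Localization.AtPrime P)))) (by
      rw [injective_iff_map_eq_zero]
      intro w hw
      rw [Matrix.toLin'_apply] at hw
      exact mulVec_map_injective P.primeCompl Ψ hΨ w hw)
  refine ⟨LinearMap.toMatrix' ρ, ?_⟩
  have := congrArg LinearMap.toMatrix' hρ
  rwa [LinearMap.toMatrix'_comp, LinearMap.toMatrix'_toLin', LinearMap.toMatrix'_id] at this

/-- The maximal minors of an injective `(t+1) × t` matrix avoid every associated prime. -/
theorem exists_minorVec_notMem [IsNoetherianRing R] (P : Ideal R) [P.IsPrime]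
    (hP : P ∈ associatedPrimes R R) {t : ℕ} (Ψ : Matrix (Fin (t + 1)) (Fin t) R)
    (hΨ : ∀ w, Ψ.mulVec w = 0 → w = 0) : ∃ i, minorVec Ψ i ∉ P := by
  classical
  obtain ⟨L, hL⟩ := exists_leftInverse_atPrime P hP Ψ hΨ
  by_contra! hall
  let κ := IsLocalRing.residue (Localization.AtPrime P)
  apply not_linearIndependent_of_minorVec_eq_zero ((Ψ.map (algebraMap R (Localization.AtPrime P))).map κ)
  · intro i
    rw [minorVec_map, minorVec_map, IsLocalRing.residue_eq_zero_iff, ← Localization.AtPrime.map_eq_maximalIdeal]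
    exact Ideal.mem_map_of_mem _ (hall i)
  · rw [← Matrix.mulVec_injective_iff, Function.Injective]
    intro a b hab
    have h1 : (L.map κ) * (Ψ.map (algebraMap R (Localization.AtPrime P))).map κ = 1 := by
      rw [← Matrix.map_mul, hL, Matrix.map_one _ (map_zero κ) (map_one κ)]
    have h2 := congrArg (fun v => (L.map κ).mulVec v) hab
    simpa only [Matrix.mulVec_mulVec, h1, Matrix.one_mulVec] using h2

/-- An ideal contained in no associated prime contains a nonzerodivisor. -/
theorem exists_mem_nonZeroDivisors [IsNoetherianRing R] (J : Ideal R)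
    (h : ∀ P ∈ associatedPrimes R R, ¬ J ≤ P) : ∃ d ∈ J, d ∈ nonZeroDivisors R := by
  classical
  have hfin := associatedPrimes.finite R R
  by_contra! hall
  have hsub : (J : Set R) ⊆ ⋃ P ∈ (hfin.toFinset : Set (Ideal R)), (P : Set R) := fun x hx => by
    have h1 : x ∈ ⋃ P ∈ associatedPrimes R R, (P : Set R) := by
      rw [biUnion_associatedPrimes_eq_compl_regular R R]
      intro hreg
      exact hall x hx (mem_nonZeroDivisors_iff_right.2 fun z hz => hreg (by simpa [mul_comm] using hz))
    simpa using h1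
  obtain ⟨P, hP, hle⟩ := (Ideal.subset_union_prime ⊥ ⊥ fun i hi _ _ =>
    IsAssociatedPrime.isPrime (hfin.mem_toFinset.1 hi)).1 hsub
  exact h P (hfin.mem_toFinset.1 hP) hle

/-- The maximal minors of an injective `(t+1) × t` matrix generate an ideal with a nonzerodivisor. -/
theorem exists_nonZeroDivisor_mem_span_minorVec [IsNoetherianRing R] {t : ℕ}
    (Ψ : Matrix (Fin (t + 1)) (Fin t) R) (hΨ : ∀ w, Ψ.mulVec w = 0 → w = 0) :
    ∃ d ∈ Ideal.span (Set.range (minorVec Ψ)), d ∈ nonZeroDivisors R := by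
  refine exists_mem_nonZeroDivisors _ fun P hP hle => ?_
  have := IsAssociatedPrime.isPrime hP
  obtain ⟨i, hi⟩ := exists_minorVec_notMem P hP Ψ hΨ
  exact hi (hle (Ideal.subset_span ⟨i, rfl⟩))

end Localization

section Structure

variable [IsNoetherianRing R]

/-- Number of generators in a length one resolution of a nonzero ideal. -/
theorem eq_add_one_of_resolution {m n : ℕ} (Ψ : Matrix (Fin n) (Fin m) R) (π : Fin n → R)
    (hΨ : ∀ w, Ψ.mulVec w = 0 → w = 0) (hrel : ∀ j, ∑ i, π i * Ψ i j = 0)
    (hker : ∀ z : Fin n → R, ∑ i, π i * z i = 0 → ∃ w, Ψ.mulVec w = z) (hI : π ≠ 0) :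
    n = m + 1 := by
  classical
  obtain ⟨i₀, hi₀⟩ := Function.ne_iff.1 hI
  obtain ⟨P, hP, hle⟩ := exists_le_isAssociatedPrime_of_isNoetherianRing R (π i₀) hi₀
  have := hP.isPrime
  let S := Localization.AtPrime P
  let f := algebraMap R S
  obtain ⟨L, hL⟩ := exists_leftInverse_atPrime P hP Ψ hΨ
  have hne : f (π i₀) ≠ 0 := fun h => by
    obtain ⟨⟨c, hc⟩, hcx⟩ := (IsLocalization.map_eq_zero_iff P.primeCompl _ _).1 h
    exact hc (hle (by
      rw [Submodule.mem_colon_singleton, Submodule.mem_bot, smul_eq_mul]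
      exact hcx))
  let φ : (Fin n → S) →ₗ[S] S := Fintype.linearCombination S (f ∘ π)
  let lL := L.mulVecLin
  have hΨS : ∀ w, φ ((Ψ.map f).mulVec w) = 0 := fun w => by
    simp only [φ, Fintype.linearCombination_apply, Matrix.mulVec, dotProduct, Matrix.map_apply,
      Function.comp_apply, smul_eq_mul, Finset.sum_mul]
    rw [Finset.sum_comm]
    refine Finset.sum_eq_zero fun j _ => ?_
    calc ∑ i, f (Ψ i j) * w j * f (π i) = f (∑ i, π i * Ψ i j) * w j := by
          rw [map_sum, Finset.sum_mul]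
          exact Finset.sum_congr rfl fun i _ => by rw [map_mul]; ring
      _ = 0 := by rw [hrel, map_zero, zero_mul]
  have hinj : ∀ z, φ z = 0 → lL z = 0 → z = 0 := by
    intro z hz hLz
    obtain ⟨b, hb⟩ := IsLocalization.exist_integer_multiples_of_finite P.primeCompl z
    choose z₀ hz₀ using hb
    have hz₀' : f ∘ z₀ = f (b : R) • z := funext fun l => by
      rw [Function.comp_apply, hz₀ l, Algebra.smul_def]; rfl
    have h1 : f (∑ i, π i * z₀ i) = 0 := by
      have : φ (f ∘ z₀) = 0 := by rw [hz₀', map_smul, hz, smul_zero]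
      rw [← this]
      simp [φ, Fintype.linearCombination_apply, mul_comm]
    obtain ⟨c, hc⟩ := (IsLocalization.map_eq_zero_iff P.primeCompl S _).1 h1
    obtain ⟨w, hw⟩ := hker ((c : R) • z₀) (by
      simp only [Pi.smul_apply, smul_eq_mul, mul_left_comm (π _), ← Finset.mul_sum, hc])
    have h2 : (Ψ.map f).mulVec (f ∘ w) = (f (c : R) * f (b : R)) • z := by
      rw [mul_smul, ← hz₀']
      funext l
      rw [← RingHom.map_mulVec, hw]
      simp
    have h3 : f ∘ w = 0 := by
      have := congrArg L.mulVec h2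
      rw [Matrix.mulVec_mulVec, hL, Matrix.one_mulVec, Matrix.mulVec_smul,
        show L.mulVec z = 0 from hLz, smul_zero] at this
      exact this
    rw [h3, Matrix.mulVec_zero, eq_comm] at h2
    funext l
    have h4 := congrFun h2 l
    rw [Pi.smul_apply, smul_eq_mul, Pi.zero_apply] at h4
    exact ((IsLocalization.map_units S c).mul (IsLocalization.map_units S b)).mul_right_eq_zero.1 h4
  have h1 : n ≤ m + 1 := by
    let g : (Fin n → S) →ₗ[S] (Fin (m + 1) → S) :=
      LinearMap.pi (Fin.cons φ fun j => LinearMap.proj j ∘ₗ lL)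
    refine le_of_fin_injective S g ?_
    rw [injective_iff_map_eq_zero]
    exact fun z hz => hinj z (congrFun hz 0) (funext fun j => congrFun hz j.succ)
  have h2 : m ≤ n := by
    refine le_of_fin_injective S (Ψ.map f).mulVecLin ?_
    intro a b hab
    have := congrArg L.mulVec hab
    rw [Matrix.mulVecLin_apply, Matrix.mulVecLin_apply, Matrix.mulVec_mulVec, Matrix.mulVec_mulVec,
      show L * Ψ.map f = 1 from hL, Matrix.one_mulVec, Matrix.one_mulVec] at this
    exact this
  rcases Nat.lt_or_ge m n with h | h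
  · omega
  exfalso
  have hmn : m = n := le_antisymm h2 h
  subst hmn
  have hR : Ψ.map f * L = 1 := mul_eq_one_comm.1 hL
  have h3 := hΨS (L.mulVec (Pi.single i₀ 1))
  rw [Matrix.mulVec_mulVec, hR, Matrix.one_mulVec] at h3
  simp [φ, Fintype.linearCombination_apply_single] at h3
  exact hne h3

/-- Structure of a length one resolution. -/
theorem hilbertBurch_noetherian {t : ℕ} (Ψ : Matrix (Fin (t + 1)) (Fin t) R) (π : Fin (t + 1) → R)
    (hΨ : ∀ w, Ψ.mulVec w = 0 → w = 0) (hrel : ∀ j, ∑ i, π i * Ψ i j = 0)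
    (hker : ∀ z : Fin (t + 1) → R, ∑ i, π i * z i = 0 → ∃ w, Ψ.mulVec w = z) :
    ∃ (a d y : R), a ∈ nonZeroDivisors R ∧ (∀ i, π i = a * minorVec Ψ i) ∧
      d ∈ Ideal.span (Set.range (minorVec Ψ)) ∧ y ∈ Ideal.span (Set.range (minorVec Ψ)) ∧
      d ∈ nonZeroDivisors R ∧ ∀ r, d ∣ y * r → d ∣ r := by
  classical
  obtain ⟨d, hd, hdreg⟩ := exists_nonZeroDivisor_mem_span_minorVec Ψ hΨ
  have hdc := mem_nonZeroDivisors_iff_right.1 hdreg
  -- the minors modulo `d`
  let q := Ideal.Quotient.mk (Ideal.span {d})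
  have hΨq : ∀ w, (Ψ.map q).mulVec w = 0 → w = 0 := by
    intro w hw
    choose w₀ hw₀ using fun j => Ideal.Quotient.mk_surjective (w j)
    have hd' : ∀ i, ∃ z, Ψ.mulVec w₀ i = d * z := fun i => by
      have := congrFun hw i
      rw [show w = q ∘ w₀ from (funext hw₀).symm, ← RingHom.map_mulVec, Pi.zero_apply,
        Ideal.Quotient.eq_zero_iff_mem, Ideal.mem_span_singleton] at this
      exact this
    choose z hz using hd'
    obtain ⟨v, hv⟩ := hker z (hdc _ (by
      rw [Finset.sum_mul]
      calc ∑ i, π i * z i * d = ∑ i, π i * Ψ.mulVec w₀ i := Finset.sum_congr rfl fun i _ => by rw [hz]; ring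
        _ = 0 := by
          simp only [Matrix.mulVec, dotProduct, Finset.mul_sum, ← mul_assoc]
          rw [Finset.sum_comm]
          exact Finset.sum_eq_zero fun j _ => by rw [← Finset.sum_mul, hrel, zero_mul]))
    have h1 : w₀ = d • v := sub_eq_zero.1 (hΨ _ (by
      rw [Matrix.mulVec_sub, Matrix.mulVec_smul, hv]
      funext i
      simp [hz]))
    funext j
    rw [← hw₀ j, h1]
    exact Ideal.Quotient.eq_zero_iff_mem.2 (Ideal.mem_span_singleton.2 ⟨v j, rfl⟩)
  obtain ⟨y', hy', hyreg⟩ := exists_nonZeroDivisor_mem_span_minorVec (Ψ.map q) hΨq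
  have hspan : Ideal.span (Set.range (minorVec (Ψ.map q))) = (Ideal.span (Set.range (minorVec Ψ))).map q := by
    rw [Ideal.map_span, ← Set.range_comp]
    congr 2
    funext i
    exact minorVec_map q Ψ i
  rw [hspan, Ideal.mem_map_iff_of_surjective q Ideal.Quotient.mk_surjective] at hy'
  obtain ⟨y, hy, rfl⟩ := hy'
  have hyd : ∀ r, d ∣ y * r → d ∣ r := fun r hr => by
    rw [← Ideal.mem_span_singleton, ← Ideal.Quotient.eq_zero_iff_mem] at hr ⊢
    rw [map_mul, mul_comm] at hr
    exact mem_nonZeroDivisors_iff_right.1 hyreg _ hr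
  -- proportionality
  have hprop : ∀ i j, π j * minorVec Ψ i = π i * minorVec Ψ j := by
    intro i j
    obtain ⟨w, hw⟩ := hker (π j • Pi.single i 1 - π i • Pi.single j 1) (by
      simp [mul_sub, Finset.sum_sub_distrib, Pi.single_apply]
      ring)
    have h : ∑ l, minorVec Ψ l * Ψ.mulVec w l = 0 := by
      simp only [Matrix.mulVec, dotProduct, Finset.mul_sum, ← mul_assoc]
      rw [Finset.sum_comm]
      exact Finset.sum_eq_zero fun c _ => by rw [← Finset.sum_mul, sum_minorVec_mul, zero_mul]
    rw [hw] at h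
    simp [mul_sub, Finset.sum_sub_distrib, Pi.single_apply] at h
    linear_combination h
  obtain ⟨cc, hcc⟩ := (Submodule.mem_span_range_iff_exists_fun R).1 hd
  set x := ∑ l, cc l * π l
  have hx : ∀ i, d * π i = x * minorVec Ψ i := fun i => by
    rw [← hcc, Finset.sum_mul, Finset.sum_mul]
    refine Finset.sum_congr rfl fun l _ => ?_
    rw [smul_eq_mul]
    linear_combination -(cc l) * hprop i l
  obtain ⟨cy, hcy⟩ := (Submodule.mem_span_range_iff_exists_fun R).1 hy
  obtain ⟨a, ha⟩ : d ∣ x := hyd x ⟨∑ l, cy l * π l, by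
    rw [← hcy, Finset.sum_mul, Finset.mul_sum]
    refine Finset.sum_congr rfl fun l _ => ?_
    rw [smul_eq_mul]
    linear_combination -(cy l) * hx l⟩
  have hπ : ∀ i, π i = a * minorVec Ψ i := fun i => by
    have h := hx i
    rw [ha] at h
    exact sub_eq_zero.1 (hdc _ (by linear_combination h))
  refine ⟨a, d, y, mem_nonZeroDivisors_iff_right.2 fun b hb => ?_, hπ, hd, hy, hdreg, hyd⟩
  have hbπ : ∀ i, b * π i = 0 := fun i => by rw [hπ, ← mul_assoc, hb, zero_mul]
  have hbΔ : ∀ i, b * minorVec Ψ i = 0 := fun i => by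
    obtain ⟨w, hw⟩ := hker (b • Pi.single i 1) (by simpa [Pi.single_apply, mul_comm] using hbπ i)
    have h : ∑ l, minorVec Ψ l * Ψ.mulVec w l = 0 := by
      simp only [Matrix.mulVec, dotProduct, Finset.mul_sum, ← mul_assoc]
      rw [Finset.sum_comm]
      exact Finset.sum_eq_zero fun c _ => by rw [← Finset.sum_mul, sum_minorVec_mul, zero_mul]
    rw [hw] at h
    simpa [Pi.single_apply, mul_comm] using h
  refine hdc b ?_
  rw [← hcc, Finset.mul_sum]
  exact Finset.sum_eq_zero fun l _ => by rw [smul_eq_mul, mul_left_comm, hbΔ, mul_zero]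

end Structure

section Depth

open RingTheory.Sequence

/-- A pair is weakly regular on the ring iff `d` is a nonzerodivisor and `y` one modulo `d`. -/
theorem isWeaklyRegular_pair_iff (d y : R) :
    IsWeaklyRegular R [d, y] ↔ d ∈ nonZeroDivisors R ∧ ∀ r, d ∣ y * r → d ∣ r := by
  simp only [isWeaklyRegular_cons_iff, IsWeaklyRegular.nil, and_true]
  refine and_congr ?_ ?_
  · rw [isSMulRegular_iff_right_eq_zero_of_smul, mem_nonZeroDivisors_iff_right]
    simp [mul_comm]
  · unfold QuotSMulTop
    rw [isSMulRegular_quotient_iff_mem_of_smul_mem]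
    simp only [Submodule.mem_smul_pointwise_iff_exists, Submodule.mem_top, true_and, smul_eq_mul,
      dvd_iff_exists_eq_mul_left, mul_comm _ d, eq_comm]

end Depth

end Groth.Calg8
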