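import Groth.Agent.Calg8.SplitMatrix
import Groth.Agent.LocCohBase.Depth
import Mathlib

/-!
The acyclicity lemma for complexes of finite free modules over a Noetherian local ring and the
Buchsbaum–Eisenbud exactness criterion.
-/

universe u

namespace Groth.Calg8.BE

open RingTheory.Sequence IsLocalRing

variable {R : Type u} [CommRing R]

/-- The image of the next map, or `⊥` after the last one. -/
def next (e : ℕ) {n : ℕ → ℕ} (A : (i : ℕ) → Matrix (Fin (n i)) (Fin (n (i + 1))) R) (i : ℕ) :
    Submodule R (Fin (n (i + 1)) → R) :=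
  if i + 1 < e then LinearMap.range (A (i + 1)).mulVecLin else ⊥

variable {e : ℕ} {n : ℕ → ℕ} {A : (i : ℕ) → Matrix (Fin (n i)) (Fin (n (i + 1))) R}

theorem next_le_ker (hA : ∀ i, i + 2 ≤ e → A i * A (i + 1) = 0) (i : ℕ) :
    next e A i ≤ LinearMap.ker (A i).mulVecLin := by
  rw [next]
  split_ifs with h
  · rintro _ ⟨w, rfl⟩
    rw [LinearMap.mem_ker, Matrix.mulVecLin_apply, Matrix.mulVecLin_apply, Matrix.mulVec_mulVec, hA i (by omega),
      Matrix.zero_mulVec]
  · exact bot_le

/-- Exactness in the form of the statements. -/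
theorem exact_of_ker_eq_next (he : 1 ≤ e) (h : ∀ i < e, LinearMap.ker (A i).mulVecLin = next e A i) :
    LinearMap.ker (A (e - 1)).mulVecLin = ⊥ ∧
      ∀ i, i + 2 ≤ e → LinearMap.ker (A i).mulVecLin = LinearMap.range (A (i + 1)).mulVecLin := by
  refine ⟨?_, fun i hi => ?_⟩
  · rw [h _ (by omega), next, if_neg (by omega)]
  · rw [h i (by omega), next, if_pos (by omega)]

section Local

variable [IsLocalRing R] [IsNoetherianRing R]

omit [IsNoetherianRing R] in
theorem depth_bot {M : Type u} [AddCommGroup M] [Module R M] [Subsingleton M] :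
    LocCoh.idealDepth (maximalIdeal R) M = ⊤ :=
  LocCohBase.idealDepth_eq_top_of_smul_top_eq_top (Subsingleton.elim _ _)

theorem le_depth_pi (k : ℕ) :
    LocCoh.idealDepth (maximalIdeal R) R ≤ LocCoh.idealDepth (maximalIdeal R) (Fin k → R) := by
  induction k with
  | zero => rw [depth_bot (M := Fin 0 → R)]; exact le_top
  | succ k ih =>
    let f : R →ₗ[R] (Fin (k + 1) → R) := LinearMap.single R (fun _ => R) 0
    let g : (Fin (k + 1) → R) →ₗ[R] (Fin k → R) := LinearMap.funLeft R R Fin.succ
    have h := (LocCohBase.idealDepth_shortExact (maximalIdeal R) f g (fun a b hab => by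
        simpa [f] using congrFun hab 0)
      (fun v => ⟨Fin.cons 0 v, by funext j; simp [g, LinearMap.funLeft]⟩)
      (by
        intro v
        constructor
        · intro hv
          refine ⟨v 0, funext fun j => Fin.cases (by simp [f]) (fun j => ?_) j⟩
          have := congrFun hv j
          simp [g, LinearMap.funLeft] at this
          simp [f, this]
        · rintro ⟨a, rfl⟩
          funext j
          simp [f, g, LinearMap.funLeft])).1
    exact (le_min le_rfl ih).trans h

theorem le_depth_of_equiv {M : Type u} [AddCommGroup M] [Module R M] {k : ℕ} (e : M ≃ₗ[R] (Fin k → R)) :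
    LocCoh.idealDepth (maximalIdeal R) R ≤ LocCoh.idealDepth (maximalIdeal R) M := by
  rw [LocCohBase.idealDepth_congr (I := maximalIdeal R) e]
  exact le_depth_pi k

/-- A submodule that is a direct summand, given by a projection. -/
def IsSummand {M : Type u} [AddCommGroup M] [Module R M] (K : Submodule R M) : Prop :=
  ∃ π : M →ₗ[R] M, (∀ v, π v ∈ K) ∧ ∀ y ∈ K, π y = y

omit [IsNoetherianRing R] in
/-- A module of positive depth has no submodule supported at the closed point. -/
theorem eq_zero_of_one_le_depth {M : Type u} [AddCommGroup M] [Module R M] [Module.Finite R M]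
    (h : 1 ≤ LocCoh.idealDepth (maximalIdeal R) M) (x : M)
    (hx : ∀ p : Ideal R, p.IsPrime → p ≠ maximalIdeal R → ∃ s ∉ p, s • x = 0) : x = 0 := by
  by_cases htop : maximalIdeal R • (⊤ : Submodule R M) = ⊤
  · have := Submodule.eq_bot_of_le_smul_of_le_jacobson_bot (maximalIdeal R) (⊤ : Submodule R M) Module.Finite.fg_top
      htop.ge (by rw [jacobson_eq_maximalIdeal ⊥ bot_ne_top])
    exact (Submodule.mem_bot R).1 (this ▸ Submodule.mem_top)
  obtain ⟨rs, hlen, hreg, hmem⟩ := (LocCohBase.le_idealDepth_iff_exists _ htop 1).1 (by exact_mod_cast h)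
  match rs, hlen with
  | [a], _ =>
    have ha : IsSMulRegular M a := ((isWeaklyRegular_cons_iff M a []).1 hreg).1
    let C : Ideal R := Ideal.torsionOf R M x
    have hrad : a ∈ C.radical := by
      rw [Ideal.radical_eq_sInf, Submodule.mem_sInf]
      rintro p ⟨hCp, hp⟩
      by_contra hap
      obtain ⟨s, hsp, hs⟩ := hx p hp fun hpm => hap (hpm ▸ hmem a (by simp))
      exact hsp (hCp hs)
    obtain ⟨N, hN⟩ := hrad
    exact (ha.pow N) (show a ^ N • x = a ^ N • (0 : M) by rw [smul_zero]; exact hN)

/-- The acyclicity lemma: if at each spot either the depth is large or exactness is known (with free image),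
and the complex is exact on the punctured spectrum, then it is exact. -/
theorem acyclic_local (hA : ∀ i, i + 2 ≤ e → A i * A (i + 1) = 0)
    (hspot : ∀ i < e, ((i + 1 : ℕ) : ℕ∞) ≤ LocCoh.idealDepth (maximalIdeal R) R ∨
      (LinearMap.ker (A i).mulVecLin = next e A i ∧ IsSummand (LinearMap.range (A i).mulVecLin) ∧
        ∃ k, Nonempty (LinearMap.range (A i).mulVecLin ≃ₗ[R] (Fin k → R))))
    (hpunct : ∀ p : Ideal R, p.IsPrime → p ≠ maximalIdeal R → ∀ i < e,
      ∀ z ∈ LinearMap.ker (A i).mulVecLin, ∃ s ∉ p, s • z ∈ next e A i) :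
    ∀ i < e, LinearMap.ker (A i).mulVecLin = next e A i := by
  set D := LocCoh.idealDepth (maximalIdeal R) R with hD
  suffices key : ∀ j, ∀ i < e, e - i = j + 1 → LinearMap.ker (A i).mulVecLin = next e A i ∧
      min D ((i + 1 : ℕ) : ℕ∞) ≤ LocCoh.idealDepth (maximalIdeal R) (LinearMap.range (A i).mulVecLin) ∧
      (D < ((i + 1 : ℕ) : ℕ∞) → IsSummand (LinearMap.range (A i).mulVecLin)) from
    fun i hi => (key (e - i - 1) i hi (by omega)).1
  intro j
  induction j using Nat.strong_induction_on with
  | _ j ih =>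
  intro i hi hij
  have hnext : min D ((i + 2 : ℕ) : ℕ∞) ≤ LocCoh.idealDepth (maximalIdeal R) (next e A i) ∧
      (D < ((i + 2 : ℕ) : ℕ∞) → IsSummand (next e A i)) := by
    rw [next]
    by_cases h : i + 1 < e
    · rw [if_pos h]
      exact (ih (j - 1) (by omega) (i + 1) h (by omega)).2
    · rw [if_neg h, depth_bot (M := (⊥ : Submodule R (Fin (n (i + 1)) → R)))]
      exact ⟨le_top, fun _ => ⟨0, fun _ => zero_mem _, fun y hy => ((Submodule.mem_bot R).1 hy).symm⟩⟩
  obtain ⟨hnext, hsummand⟩ := hnext
  rcases hspot i hi with hdeep | ⟨hex, hsum, k, ⟨eq⟩⟩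
  swap
  · exact ⟨hex, (min_le_left _ _).trans (le_depth_of_equiv eq), fun _ => hsum⟩
  let Q := (Fin (n (i + 1)) → R) ⧸ next e A i
  have hQ : ((i + 1 : ℕ) : ℕ∞) ≤ LocCoh.idealDepth (maximalIdeal R) Q := by
    by_cases hD2 : D < ((i + 2 : ℕ) : ℕ∞)
    · obtain ⟨π, hπ, hπ'⟩ := hsummand hD2
      let f : Q →ₗ[R] (Fin (n (i + 1)) → R) :=
        (next e A i).liftQ (LinearMap.id - π) fun y hy => by simp [hπ' y hy]
      let g : (Fin (n (i + 1)) → R) →ₗ[R] next e A i := π.codRestrict _ hπ
      have hf : Function.Injective f := by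
        rw [injective_iff_map_eq_zero]
        intro x hx
        obtain ⟨v, rfl⟩ := Submodule.mkQ_surjective _ x
        have hv : v = π v := sub_eq_zero.1 hx
        rw [Submodule.mkQ_apply, Submodule.Quotient.mk_eq_zero, hv]
        exact hπ v
      have hg : Function.Surjective g := fun y => ⟨y, Subtype.ext (hπ' y y.2)⟩
      have hfg : Function.Exact f g := by
        intro v
        constructor
        · intro hv
          refine ⟨Submodule.Quotient.mk v, ?_⟩
          show v - π v = v
          rw [show π v = 0 from congrArg Subtype.val hv, sub_zero]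
        · rintro ⟨x, rfl⟩
          obtain ⟨w, rfl⟩ := Submodule.mkQ_surjective _ x
          exact Subtype.ext (show π (w - π w) = 0 by rw [map_sub, hπ' _ (hπ w), sub_self])
      refine le_trans (le_min (hdeep.trans (le_depth_pi _)) ?_)
        ((LocCohBase.idealDepth_shortExact (maximalIdeal R) f g hf hg hfg).2.2)
      refine le_trans (le_trans (le_min hdeep (by exact_mod_cast Nat.le_succ (i + 1))) hnext) ?_
      exact le_self_add
    refine le_trans (le_min (hdeep.trans (le_depth_pi _)) ?_)
      ((LocCohBase.idealDepth_shortExact (maximalIdeal R) (next e A i).subtype (next e A i).mkQ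
        Subtype.val_injective (Submodule.mkQ_surjective _) (LinearMap.exact_subtype_mkQ _)).2.1)
    rw [min_eq_right (not_lt.1 hD2)] at hnext
    revert hnext
    cases LocCoh.idealDepth (maximalIdeal R) (next e A i) with
    | top => simp
    | coe a =>
      intro hnext
      rw [← ENat.natCast_one, ← ENat.natCast_sub]
      norm_cast at hnext ⊢
      omega
  have hker : LinearMap.ker (A i).mulVecLin = next e A i := by
    refine le_antisymm (fun z hz => ?_) (next_le_ker hA i)
    rw [← Submodule.Quotient.mk_eq_zero]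
    refine eq_zero_of_one_le_depth (le_trans (by exact_mod_cast (by omega : 1 ≤ i + 1)) hQ) _ fun p hp hne => ?_
    obtain ⟨s, hs, hsz⟩ := hpunct p hp hne i hi z hz
    exact ⟨s, hs, by rw [← Submodule.Quotient.mk_smul, Submodule.Quotient.mk_eq_zero]; exact hsz⟩
  refine ⟨hker, (min_le_right _ _).trans (hQ.trans (le_of_eq ?_)), fun h => absurd hdeep (not_le.2 h)⟩
  exact LocCohBase.idealDepth_congr (I := maximalIdeal R)
    ((Submodule.quotEquivOfEq _ _ hker.symm).trans (LinearMap.quotKerEquivRange (A i).mulVecLin))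

omit [IsNoetherianRing R] in
/-- Constant ranks adding up give exactness. -/
theorem split_exact (hA : ∀ i, i + 2 ≤ e → A i * A (i + 1) = 0) (r : ℕ → ℕ) (i : ℕ)
    (hb : CAlgX.minorIdeal (A i) (r i + 1) = ⊥) (ht : CAlgX.minorIdeal (A i) (r i) = ⊤)
    (hb' : i + 1 < e → CAlgX.minorIdeal (A (i + 1)) (r (i + 1) + 1) = ⊥)
    (ht' : i + 1 < e → CAlgX.minorIdeal (A (i + 1)) (r (i + 1)) = ⊤)
    (hsum : r i + (if i + 1 < e then r (i + 1) else 0) = n (i + 1)) :
    LinearMap.ker (A i).mulVecLin = next e A i ∧ IsSummand (LinearMap.range (A i).mulVecLin) ∧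
      ∃ k, Nonempty (LinearMap.range (A i).mulVecLin ≃ₗ[R] (Fin k → R)) := by
  obtain ⟨hπ₀, heq, hfree, hfin, hrk⟩ := SplitMatrix.constantRank (A i) hb ht
  refine ⟨le_antisymm ?_ (next_le_ker hA i), hπ₀, _, heq⟩
  rw [next]
  split_ifs with h
  · obtain ⟨⟨π, hπK, hπ⟩, ⟨eq'⟩, -, -, -⟩ := SplitMatrix.constantRank (A (i + 1)) (hb' h) (ht' h)
    rw [if_pos h] at hsum
    have hle : LinearMap.range (A (i + 1)).mulVecLin ≤ LinearMap.ker (A i).mulVecLin := by
      simpa [next, h] using next_le_ker hA i
    let φ : LinearMap.ker (A i).mulVecLin →ₗ[R] LinearMap.range (A (i + 1)).mulVecLin :=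
      (π ∘ₗ (LinearMap.ker (A i).mulVecLin).subtype).codRestrict _ fun v => hπK v
    have hφ : Function.Surjective φ := fun y => ⟨⟨y, hle y.2⟩, Subtype.ext (hπ y y.2)⟩
    let e₁ : LinearMap.ker (A i).mulVecLin ≃ₗ[R] LinearMap.range (A (i + 1)).mulVecLin :=
      ((Module.finBasisOfFinrankEq R _ (by omega : _ = r (i + 1))).equivFun).trans eq'.symm
    have hinj : Function.Injective φ := by
      have h1 : Function.Injective (e₁.symm.toLinearMap ∘ₗ φ) :=
        OrzechProperty.injective_of_surjective_endomorphism _ (e₁.symm.surjective.comp hφ)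
      exact fun a b hab => h1 (congrArg e₁.symm hab)
    intro z hz
    have h2 : φ ⟨z, hz⟩ = φ ⟨π z, hle (hπK z)⟩ := Subtype.ext (hπ _ (hπK z)).symm
    have h3 : z = π z := congrArg Subtype.val (hinj h2)
    rw [h3]
    exact hπK z
  · rw [if_neg h] at hsum
    have : Subsingleton (LinearMap.ker (A i).mulVecLin) :=
      ((Module.finBasisOfFinrankEq R _ (by omega : _ = 0)).equivFun).toEquiv.subsingleton
    exact le_bot_iff.2 (Submodule.subsingleton_iff_eq_bot.1 this)

end Local

section Global

theorem minorIdeal_eq_bot_of_lt [Nontrivial R] {a b : ℕ} (B : Matrix (Fin a) (Fin b) R) {s : ℕ} (hs : a < s) :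
    CAlgX.minorIdeal B s = ⊥ := by
  rw [CAlgX.minorIdeal, Ideal.span_eq_bot]
  rintro _ ⟨⟨f, g⟩, rfl⟩
  obtain ⟨i, j, hij, hf⟩ := Fintype.exists_ne_map_eq_of_card_lt f (by simpa using hs)
  exact Matrix.det_zero_of_row_eq hij (funext fun l => by simp [hf])

theorem minorIdeal_matrixRank_succ [Nontrivial R] {a b : ℕ} (B : Matrix (Fin a) (Fin b) R) :
    CAlgX.minorIdeal B (CAlgX.matrixRank B + 1) = ⊥ := by
  by_contra h
  have := le_csSup (s := {s : ℕ | CAlgX.minorIdeal B s ≠ ⊥}) ⟨a, fun s hs => by
    by_contra hlt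
    exact hs (minorIdeal_eq_bot_of_lt B (Nat.lt_of_not_le hlt))⟩ h
  rw [CAlgX.matrixRank] at this
  omega

variable {S : Type u} [CommRing S] (f : R →+* S) {a b : ℕ} (B : Matrix (Fin a) (Fin b) R)

theorem minorIdeal_map (s : ℕ) : CAlgX.minorIdeal (B.map f) s = (CAlgX.minorIdeal B s).map f := by
  rw [CAlgX.minorIdeal, CAlgX.minorIdeal, Ideal.map_span, ← Set.range_comp]
  congr 2
  funext fg
  show ((B.map f).submatrix fg.1 fg.2).det = f (B.submatrix fg.1 fg.2).det
  rw [RingHom.map_det]
  rfl

end Global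

section Localisation

variable [IsNoetherianRing R] (p : Ideal R) [p.IsPrime]

/-- The matrices over the localisation. -/
abbrev loc (A : (i : ℕ) → Matrix (Fin (n i)) (Fin (n (i + 1))) R) (i : ℕ) :
    Matrix (Fin (n i)) (Fin (n (i + 1))) (Localization.AtPrime p) :=
  (A i).map (algebraMap R (Localization.AtPrime p))

omit [IsNoetherianRing R] in
theorem loc_mulVec (i : ℕ) (z : Fin (n (i + 1)) → R) :
    (loc p A i).mulVec (algebraMap R (Localization.AtPrime p) ∘ z) =
      algebraMap R (Localization.AtPrime p) ∘ (A i).mulVec z :=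
  funext fun j => (RingHom.map_mulVec _ _ _ j).symm

omit [IsNoetherianRing R] in
theorem exists_eq_of_comp_eq {k : ℕ} {v w : Fin k → R}
    (h : algebraMap R (Localization.AtPrime p) ∘ v = algebraMap R (Localization.AtPrime p) ∘ w) :
    ∃ s ∉ p, s • v = s • w := by
  classical
  choose c hc using fun i => (IsLocalization.eq_iff_exists p.primeCompl _).1 (congrFun h i)
  refine ⟨∏ i, (c i : R), (∏ i, c i).2 |> fun h => (by simpa using h), funext fun i => ?_⟩
  rw [Pi.smul_apply, Pi.smul_apply, smul_eq_mul, smul_eq_mul, ← Finset.prod_erase_mul _ _ (Finset.mem_univ i),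
    mul_assoc, mul_assoc, hc i]

omit [IsNoetherianRing R] in
theorem exists_num {k : ℕ} (z : Fin k → Localization.AtPrime p) :
    ∃ (s : R) (v : Fin k → R), s ∉ p ∧
      algebraMap R (Localization.AtPrime p) ∘ v = algebraMap R (Localization.AtPrime p) s • z := by
  obtain ⟨b, hb⟩ := IsLocalization.exist_integer_multiples_of_finite p.primeCompl z
  choose v hv using hb
  exact ⟨b, v, b.2, funext fun j => by rw [Function.comp_apply, hv j, Algebra.smul_def]; rfl⟩

omit [IsNoetherianRing R] in
theorem mem_next_of_loc {i : ℕ} {z : Fin (n (i + 1)) → R}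
    (hz : algebraMap R (Localization.AtPrime p) ∘ z ∈ next e (loc p A) i) :
    ∃ s ∉ p, s • z ∈ next e A i := by
  rw [next] at hz ⊢
  split_ifs with h
  · rw [if_pos h] at hz
    obtain ⟨w, hw⟩ := hz
    obtain ⟨b, v, hb, hv⟩ := exists_num p w
    obtain ⟨s, hs, hsv⟩ := exists_eq_of_comp_eq p (v := (A (i + 1)).mulVec v) (w := b • z) (by
      rw [← loc_mulVec, hv, Matrix.mulVec_smul, show (loc p A (i + 1)).mulVec w = _ from hw]
      funext j
      simp)
    exact ⟨s * b, fun hm => ((‹p.IsPrime›).mem_or_mem hm).elim hs hb, s • v, by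
      rw [Matrix.mulVecLin_apply, Matrix.mulVec_smul, hsv, smul_smul]⟩
  · rw [if_neg h, Submodule.mem_bot] at hz
    obtain ⟨s, hs, hsv⟩ := exists_eq_of_comp_eq p (v := z) (w := 0) (hz.trans (funext fun j => (map_zero _).symm))
    exact ⟨s, hs, by rw [hsv, smul_zero]; exact zero_mem _⟩

omit [IsNoetherianRing R] in
theorem mem_next_loc {i : ℕ} {z : Fin (n (i + 1)) → R} (hz : z ∈ next e A i) :
    algebraMap R (Localization.AtPrime p) ∘ z ∈ next e (loc p A) i := by
  rw [next] at hz ⊢
  split_ifs with h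
  · rw [if_pos h] at hz
    obtain ⟨w, rfl⟩ := hz
    exact ⟨algebraMap R (Localization.AtPrime p) ∘ w, loc_mulVec p (i + 1) w⟩
  · rw [if_neg h, Submodule.mem_bot] at hz
    rw [Submodule.mem_bot, hz]
    exact funext fun j => map_zero _

end Localisation

/-- The Buchsbaum–Eisenbud criterion, sufficiency. -/
theorem criterion [IsNoetherianRing R] (hA : ∀ i, i + 2 ≤ e → A i * A (i + 1) = 0) (r : ℕ → ℕ)
    (hb : ∀ i < e, CAlgX.minorIdeal (A i) (r i + 1) = ⊥)
    (hsum : ∀ i < e, r i + (if i + 1 < e then r (i + 1) else 0) = n (i + 1))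
    (hdepth : ∀ i < e, CAlgX.minorIdeal (A i) (r i) = ⊤ ∨
      ∃ rs : List R, rs.length = i + 1 ∧ (∀ x ∈ rs, x ∈ CAlgX.minorIdeal (A i) (r i)) ∧ IsWeaklyRegular R rs) :
    ∀ i < e, LinearMap.ker (A i).mulVecLin = next e A i := by
  classical
  have key : ∀ p : PrimeSpectrum R, ∀ i < e, ∀ z ∈ LinearMap.ker (A i).mulVecLin,
      ∃ s ∉ p.asIdeal, s • z ∈ next e A i := by
    intro p
    induction h : p.asIdeal.height using WellFoundedLT.induction generalizing p with
    | _ ht ih =>
    intro i hi z hz
    have hAp : ∀ i, i + 2 ≤ e → loc p.asIdeal A i * loc p.asIdeal A (i + 1) = 0 := fun i hi => by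
      rw [← Matrix.map_mul, hA i hi, Matrix.map_zero _ (map_zero _)]
    have hspot : ∀ i < e, ((i + 1 : ℕ) : ℕ∞) ≤
        LocCoh.idealDepth (maximalIdeal (Localization.AtPrime p.asIdeal)) (Localization.AtPrime p.asIdeal) ∨
        (LinearMap.ker (loc p.asIdeal A i).mulVecLin = next e (loc p.asIdeal A) i ∧
          IsSummand (LinearMap.range (loc p.asIdeal A i).mulVecLin) ∧ ∃ k, Nonempty (LinearMap.range (loc p.asIdeal A i).mulVecLin ≃ₗ[Localization.AtPrime p.asIdeal]
            (Fin k → Localization.AtPrime p.asIdeal))) := by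
      intro i hi
      by_cases hdeep : ((i + 1 : ℕ) : ℕ∞) ≤
          LocCoh.idealDepth (maximalIdeal (Localization.AtPrime p.asIdeal)) (Localization.AtPrime p.asIdeal)
      · exact Or.inl hdeep
      have htop : ∀ l < e, i ≤ l → CAlgX.minorIdeal (loc p.asIdeal A l) (r l) = ⊤ := by
        intro l hl hil
        rw [minorIdeal_map]
        rcases hdepth l hl with h | ⟨rs, hlen, hmem, hreg⟩
        · rw [h, Ideal.map_top]
        by_contra hne
        refine hdeep (le_trans (show ((i + 1 : ℕ) : ℕ∞) ≤ ((l + 1 : ℕ) : ℕ∞) by exact_mod_cast (by omega : i + 1 ≤ l + 1)) ?_)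
        refine (LocCohBase.le_idealDepth_iff_exists _ (by
          rw [smul_eq_mul, Ideal.mul_top]; exact (maximalIdeal.isMaximal _).ne_top) _).2
          ⟨rs.map (algebraMap R _), by rw [List.length_map, hlen],
            hreg.of_isLocalization (Localization.AtPrime p.asIdeal) p.asIdeal.primeCompl, ?_⟩
        intro y hy
        obtain ⟨x, hx, rfl⟩ := List.mem_map.1 hy
        exact le_maximalIdeal hne (Ideal.mem_map_of_mem _ (hmem x hx))
      have hbot : ∀ l < e, CAlgX.minorIdeal (loc p.asIdeal A l) (r l + 1) = ⊥ := fun l hl => by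
        rw [minorIdeal_map, hb l hl, Ideal.map_bot]
      exact Or.inr (split_exact hAp r i (hbot i hi) (htop i hi le_rfl) (fun h => hbot _ h)
        (fun h => htop _ h (by omega)) (hsum i hi))
    have hpunct : ∀ q : Ideal (Localization.AtPrime p.asIdeal), q.IsPrime →
        q ≠ maximalIdeal (Localization.AtPrime p.asIdeal) → ∀ i < e,
        ∀ y ∈ LinearMap.ker (loc p.asIdeal A i).mulVecLin, ∃ s ∉ q, s • y ∈ next e (loc p.asIdeal A) i := by
      intro q hq hne i hi y hy
      let q₀ : PrimeSpectrum R := ⟨q.comap (algebraMap R _), hq.comap _⟩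
      have hle : q₀.asIdeal ≤ p.asIdeal := by
        rw [← IsLocalization.AtPrime.under_maximalIdeal (Localization.AtPrime p.asIdeal) p.asIdeal]
        exact Ideal.comap_mono (le_maximalIdeal hq.ne_top)
      have hlt : q₀.asIdeal < p.asIdeal := lt_of_le_of_ne hle fun heq => hne (by
        refine (IsLocalization.map_under p.asIdeal.primeCompl (Localization.AtPrime p.asIdeal) q).symm.trans ?_
        exact (congrArg (Ideal.map (algebraMap R _)) heq).trans Localization.AtPrime.map_eq_maximalIdeal)
      obtain ⟨b, v, hb, hv⟩ := exists_num p.asIdeal y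
      obtain ⟨c, hc, hcv⟩ := exists_eq_of_comp_eq p.asIdeal (v := (A i).mulVec v) (w := 0) (by
        rw [← loc_mulVec, hv, Matrix.mulVec_smul, show (loc p.asIdeal A i).mulVec y = 0 from hy, smul_zero]
        exact funext fun j => (map_zero _).symm)
      obtain ⟨s, hs, hsv⟩ := ih q₀.asIdeal.height (h ▸ Ideal.height_strict_mono_of_isPrime hlt) q₀ rfl i hi (c • v)
        (by rw [LinearMap.mem_ker, Matrix.mulVecLin_apply, Matrix.mulVec_smul, hcv, smul_zero])
      refine ⟨algebraMap R _ (s * c * b), fun hm => ?_, ?_⟩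
      · have hm' : s * c * b ∈ q₀.asIdeal := hm
        rcases q₀.isPrime.mem_or_mem hm' with hm' | hm'
        · rcases q₀.isPrime.mem_or_mem hm' with hm' | hm'
          · exact hs hm'
          · exact hc (hle hm')
        · exact hb (hle hm')
      · have := mem_next_loc p.asIdeal hsv
        convert this using 1
        funext j
        have hvj := congrFun hv j
        simp only [Function.comp_apply, Pi.smul_apply, smul_eq_mul, map_mul] at hvj ⊢
        rw [hvj]
        ring
    have hex := acyclic_local hAp hspot hpunct i hi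
    have hmem : algebraMap R (Localization.AtPrime p.asIdeal) ∘ z ∈ next e (loc p.asIdeal A) i := by
      rw [← hex, LinearMap.mem_ker, Matrix.mulVecLin_apply, loc_mulVec, show (A i).mulVec z = 0 from hz]
      exact funext fun j => map_zero _
    exact mem_next_of_loc p.asIdeal hmem
  intro i hi
  refine le_antisymm (fun z hz => ?_) (next_le_ker hA i)
  by_contra hzn
  obtain ⟨m, hm, hle⟩ := Ideal.exists_le_maximal ((next e A i).comap (LinearMap.toSpanSingleton R _ z)) (fun h => hzn (by
    have : (1 : R) ∈ (next e A i).comap (LinearMap.toSpanSingleton R _ z) := by rw [h]; exact Submodule.mem_top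
    simpa using this))
  obtain ⟨s, hs, hsz⟩ := key ⟨m, hm.isPrime⟩ i hi z hz
  exact hs (hle hsz)

end Groth.Calg8.BE
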