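import Groth.Agent.Calg8.DecayingCompletion

/-!
Criteria for adically free modules.
-/

open W4c5adicflatcompl

namespace Groth.Calg8

universe u v w

theorem isAdicFree_completion_of_bijective_mod {B : Type u} [CommRing B] [IsNoetherianRing B]
    (J : Ideal B) {Q Z : Type u} [AddCommGroup Q] [Module B Q] (f : (Z →₀ B) →ₗ[B] Q)
    (hs : ∀ (n : ℕ) (y : Q), ∃ x, f x - y ∈ (J ^ n • ⊤ : Submodule B Q))
    (hi : ∀ (n : ℕ) (x : Z →₀ B),
      f x ∈ (J ^ n • ⊤ : Submodule B Q) → x ∈ (J ^ n • ⊤ : Submodule B (Z →₀ B))) :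
    IsAdicFree J (AdicCompletion J Q) := by
  have : IsAdicComplete J (AdicCompletion J B) :=
    AdicCompletion.isAdicComplete (IsNoetherian.noetherian J)
  exact ⟨Z, ⟨((LinearEquiv.ofBijective _ (completionMap_bijective f hs hi)).restrictScalars B).symm.trans
    (complEquiv J Z B)⟩⟩

theorem linearIndependent_of_flat_of_forall {S : Type u} [CommRing S] [IsLocalRing S]
    {Q : Type v} [AddCommGroup Q] [Module S Q] [Module.Flat S Q] {Z : Type u} (v : Z → Q)
    (hli : ∀ c : Z →₀ S, Finsupp.linearCombination S v c ∈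
      (IsLocalRing.maximalIdeal S • ⊤ : Submodule S Q) → ∀ z, c z ∈ IsLocalRing.maximalIdeal S) :
    LinearIndependent S v := by
  refine Module.IsLocalRing.linearIndependent_of_flat v (linearIndependent_iff.2 fun l hl => ?_)
  obtain ⟨c, rfl⟩ := Finsupp.mapRange_surjective (IsLocalRing.residue S) (map_zero _)
    IsLocalRing.residue_surjective l
  have h : TensorProduct.mk S (IsLocalRing.ResidueField S) Q 1 (Finsupp.linearCombination S v c) =
      Finsupp.linearCombination (IsLocalRing.ResidueField S)
        (TensorProduct.mk S (IsLocalRing.ResidueField S) Q 1 ∘ v)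
        (Finsupp.mapRange (IsLocalRing.residue S) (map_zero _) c) := by
    rw [Finsupp.linearCombination_apply, Finsupp.linearCombination_apply,
      Finsupp.sum_mapRange_index (by simp), map_finsuppSum]
    refine Finsupp.sum_congr fun z _ => ?_
    rw [map_smul, ← IsLocalRing.ResidueField.algebraMap_eq, Function.comp_apply, algebraMap_smul]
  rw [← h, ← LinearMap.mem_ker] at hl
  ext z
  rw [Finsupp.mapRange_apply, Finsupp.zero_apply, IsLocalRing.residue_eq_zero_iff]
  refine hli c ?_ z
  have hk : LinearMap.ker (TensorProduct.mk S (IsLocalRing.ResidueField S) Q 1) =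
      IsLocalRing.maximalIdeal S • ⊤ := LinearMap.ker_tensorProductMk Q
  rwa [hk] at hl

/-- A flat module over `A ⧸ J` (`J` between a power of the maximal ideal and the maximal ideal)
with a family reducing to a basis modulo the maximal ideal is free on that family. -/
theorem bijMod_of_flat {A : Type u} [CommRing A] [IsLocalRing A] (J : Ideal A)
    (hJ : J ≤ IsLocalRing.maximalIdeal A) (t : ℕ) (ht : IsLocalRing.maximalIdeal A ^ t ≤ J)
    {Q : Type v} [AddCommGroup Q] [Module A Q] [Module (A ⧸ J) Q] [IsScalarTower A (A ⧸ J) Q]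
    [Module.Flat (A ⧸ J) Q] {Z : Type u} (v : Z → Q)
    (hli : ∀ c : Z →₀ A, Finsupp.linearCombination A v c ∈
      (IsLocalRing.maximalIdeal A • ⊤ : Submodule A Q) → ∀ z, c z ∈ IsLocalRing.maximalIdeal A)
    (hspan : ∀ q : Q, ∃ c : Z →₀ A, q - Finsupp.linearCombination A v c ∈
      (IsLocalRing.maximalIdeal A • ⊤ : Submodule A Q)) :
    Function.Surjective (Finsupp.linearCombination A v) ∧
      LinearMap.ker (Finsupp.linearCombination A v) = (J • ⊤ : Submodule A (Z →₀ A)) := by
  set m := IsLocalRing.maximalIdeal A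
  have hkill : ∀ q ∈ (J • ⊤ : Submodule A Q), q = 0 := fun q hq => by
    refine Submodule.smul_induction_on hq (fun r hr x _ => ?_) (fun a b ha hb => by rw [ha, hb, add_zero])
    rw [← IsScalarTower.algebraMap_smul (A ⧸ J) r x, Ideal.Quotient.algebraMap_eq,
      Ideal.Quotient.eq_zero_iff_mem.2 hr, zero_smul]
  constructor
  · have step : ∀ k, ∀ q : Q, ∃ c : Z →₀ A,
        q - Finsupp.linearCombination A v c ∈ (m ^ k • ⊤ : Submodule A Q) := by
      intro k
      induction k with
      | zero => exact fun q => ⟨0, mem_pow_zero_smul_top _⟩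
      | succ k ih =>
        intro q
        obtain ⟨c, hc⟩ := ih q
        have : ∀ y ∈ (m ^ k • ⊤ : Submodule A Q), ∃ c : Z →₀ A,
            y - Finsupp.linearCombination A v c ∈ (m ^ (k + 1) • ⊤ : Submodule A Q) := by
          intro y hy
          refine Submodule.smul_induction_on hy (fun r hr x _ => ?_) ?_
          · obtain ⟨d, hd⟩ := hspan x
            refine ⟨r • d, ?_⟩
            rw [map_smul, ← smul_sub, pow_succ, Submodule.mul_smul]
            exact Submodule.smul_mem_smul hr hd
          · rintro a b ⟨ca, ha⟩ ⟨cb, hb⟩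
            exact ⟨ca + cb, by simpa [add_sub_add_comm] using add_mem ha hb⟩
        obtain ⟨d, hd⟩ := this _ hc
        exact ⟨c + d, by rwa [map_add, ← sub_sub]⟩
    intro q
    obtain ⟨c, hc⟩ := step t q
    exact ⟨c, (sub_eq_zero.1 (hkill _ (Submodule.smul_mono_left ht hc))).symm⟩
  · have : IsLocalRing (A ⧸ J) :=
      have : Nontrivial (A ⧸ J) := Ideal.Quotient.nontrivial_iff.2 fun h =>
        (IsLocalRing.maximalIdeal.isMaximal A).ne_top (top_le_iff.1 (h ▸ hJ))
      IsLocalRing.of_surjective' (Ideal.Quotient.mk J) Ideal.Quotient.mk_surjective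
    have hm : IsLocalRing.maximalIdeal (A ⧸ J) = m.map (algebraMap A (A ⧸ J)) := by
      refine (IsLocalRing.eq_maximalIdeal ?_).symm
      rcases Ideal.map_eq_top_or_isMaximal_of_surjective (algebraMap A (A ⧸ J))
        Ideal.Quotient.mk_surjective (IsLocalRing.maximalIdeal.isMaximal A) with h | h
      · exfalso
        have := Ideal.comap_map_of_surjective (algebraMap A (A ⧸ J)) Ideal.Quotient.mk_surjective m
        rw [show Ideal.map (algebraMap A (A ⧸ J)) m = ⊤ from h, Ideal.comap_top,
          ← RingHom.ker_eq_comap_bot, Ideal.Quotient.algebraMap_eq, Ideal.mk_ker,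
          sup_eq_left.2 hJ] at this
        exact (IsLocalRing.maximalIdeal.isMaximal A).ne_top this.symm
      · exact h
    have hmk : ∀ c : Z →₀ A, Finsupp.linearCombination (A ⧸ J) v
        (Finsupp.mapRange (Ideal.Quotient.mk J) (map_zero _) c) = Finsupp.linearCombination A v c := by
      intro c
      rw [Finsupp.linearCombination_apply, Finsupp.linearCombination_apply,
        Finsupp.sum_mapRange_index (by simp)]
      refine Finsupp.sum_congr fun z _ => ?_
      rw [← Ideal.Quotient.algebraMap_eq, IsScalarTower.algebraMap_smul]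
    have hv : LinearIndependent (A ⧸ J) v := by
      refine linearIndependent_of_flat_of_forall v fun c hc => ?_
      obtain ⟨c, rfl⟩ := Finsupp.mapRange_surjective (Ideal.Quotient.mk J) (map_zero _)
        Ideal.Quotient.mk_surjective c
      rw [hmk, hm, ← Submodule.restrictScalars_mem A, Submodule.restrictScalars_map_smul_eq, Submodule.restrictScalars_top] at hc
      intro z
      rw [hm, Finsupp.mapRange_apply, ← Ideal.Quotient.algebraMap_eq]
      exact Ideal.mem_map_of_mem _ (hli c hc z)
    ext c
    rw [LinearMap.mem_ker, ← hmk, finsupp_mem_smul_top_iff]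
    constructor
    · intro h z
      have := congrArg (fun d => d z) (linearIndependent_iff.1 hv _ h)
      simpa [Ideal.Quotient.eq_zero_iff_mem] using this
    · intro h
      have : Finsupp.mapRange (Ideal.Quotient.mk J) (map_zero _) c = 0 :=
        Finsupp.ext fun z => by simpa [Ideal.Quotient.eq_zero_iff_mem] using h z
      rw [this, map_zero]

theorem smul_top_quotient_eq_bot {A : Type*} [CommRing A] (J : Ideal A) (M : Type*) [AddCommGroup M]
    [Module A M] :
    (J • ⊤ : Submodule A (M ⧸ (J • ⊤ : Submodule A M))) = ⊥ := by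
  rw [← Submodule.range_mkQ (J • ⊤ : Submodule A M), LinearMap.range_eq_map,
    ← Submodule.map_smul'', eq_bot_iff]
  rintro _ ⟨x, hx, rfl⟩
  exact (Submodule.Quotient.mk_eq_zero _).2 hx

end Groth.Calg8
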