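import Groth.Agent.Calg3.Serre
import Groth.Agent.S7113

/-!
Bass cancellation, via Serre's general position lemma for sections in `base + α M`.
-/

open TopologicalSpace Module Groth.Calg3

namespace Groth.Calg8

universe u v

section

variable {R : Type u} [CommRing R] {M : Type v} [AddCommGroup M] [Module R M]
variable [TopologicalSpace.NoetherianSpace (MaximalSpectrum R)]

/-- Serre's general position lemma with the section constrained to `base + α M`. -/
theorem exists_general_position_affine (α : R) (k : ℕ) : ∀ {h : ℕ} (base : M) (s : Fin h → M) (F : Set (MaximalSpectrum R)),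
    (∀ x : MaximalSpectrum R, α ∈ x.asIdeal → x ∈ F) →
    IsClosed F → (∀ x, ¬ Indep x.asIdeal s → x ∈ F) →
    (∀ x : MaximalSpectrum R, ∃ w : Fin (h + k) → M, Indep x.asIdeal w) →
    ∀ (T : Finset (MaximalSpectrum R)), (∀ x ∈ T, x ∈ F) → (∀ x ∈ T, α ∉ x.asIdeal) → ∀ v : MaximalSpectrum R → M,
    ∃ (t : M) (F' : Set (MaximalSpectrum R)), IsClosed F' ∧ (∃ q, t = base + α • q) ∧
      (∀ x ∈ T, t - v x ∈ formKer M x.asIdeal) ∧
      (∀ x, ¬ Indep x.asIdeal (Fin.snoc s t) → x ∈ F ∪ F') ∧
      ∀ Z : IrreducibleCloseds (MaximalSpectrum R), (Z : Set (MaximalSpectrum R)) ⊆ F' →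
        (k : ℕ∞) ≤ Order.coheight Z := by
  classical
  induction k with
  | zero =>
    intro h base s F _ _ _ _ T _ hTα v
    choose! β hβ using fun (x : MaximalSpectrum R) (hx : x ∈ T) =>
      x.isMaximal.exists_inv (x := α) (hTα x hx)
    obtain ⟨q, hq⟩ := exists_values T fun x => β x • (v x - base)
    refine ⟨base + α • q, Set.univ, isClosed_univ, ⟨q, rfl⟩, fun x hx φ => ?_, fun x _ => Or.inr trivial,
      fun Z _ => zero_le⟩
    obtain ⟨i, hi, hβi⟩ := hβ x hx
    have h1 := hq x hx φ
    rw [map_sub, map_smul, map_sub, smul_eq_mul] at h1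
    rw [map_sub, map_add, map_smul, smul_eq_mul]
    have h2 : φ base + α * φ q - φ (v x) = α * (φ q - β x * (φ (v x) - φ base)) + (-i) * (φ (v x) - φ base) := by
      linear_combination (φ (v x) - φ base) * hβi
    rw [h2]
    exact add_mem (Ideal.mul_mem_left _ _ h1) (Ideal.mul_mem_right _ _ (neg_mem hi))
  | succ k ih =>
    intro h base s F hαF hF hsF hdim T hT hTα v
    have hdimk : ∀ x : MaximalSpectrum R, ∃ w : Fin (h + k) → M, Indep x.asIdeal w := fun x => by
      obtain ⟨w, hw⟩ := hdim x
      exact ⟨_, Indep.init (s := Fin.init w) (a := w (Fin.last _)) (by rwa [Fin.snoc_init_self])⟩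
    have hdim1 : ∀ x : MaximalSpectrum R, ∃ w : Fin (h + 1 + k) → M, Indep x.asIdeal w := fun x => by
      rw [show h + 1 + k = h + (k + 1) by omega]; exact hdim x
    have hgrow : ∀ x : MaximalSpectrum R, Indep x.asIdeal s → ∃ m, Indep x.asIdeal (Fin.snoc s m) := by
      intro x hx
      obtain ⟨w, hw⟩ := hdim x
      have hsub : Indep x.asIdeal (fun i : Fin (h + 1) => w (Fin.castLE (by omega) i)) := by
        rw [← indep_iff_mkQ] at hw ⊢
        exact hw.comp _ (Fin.castLE_injective _)
      exact exists_indep_snoc hx hsub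
    obtain ⟨a, F₁, hF₁, ⟨qa, hqa⟩, haT, haF, hF₁k⟩ := ih base s F hαF hF hsF hdimk T hT hTα v
    obtain ⟨S₁, hS₁f, hS₁, hS₁c⟩ := exists_pieces hF₁ F
    choose z hzW hzF using fun W : S₁ => Set.not_subset.1 (hS₁ W W.2).2
    have hz_ind : ∀ W, Indep (z W).asIdeal s := fun W => not_not.1 fun hn => hzF W (hsF _ hn)
    let Tz : Finset (MaximalSpectrum R) :=
      haveI := hS₁f.fintype
      Finset.univ.image z
    have hTz : ∀ x, x ∈ Tz ↔ ∃ W, z W = x := fun x => by simp [Tz]
    have hTzF : ∀ x ∈ Tz, x ∉ F ∧ Indep x.asIdeal s ∧ x ∈ F₁ := by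
      intro x hx
      obtain ⟨W, rfl⟩ := (hTz x).1 hx
      exact ⟨hzF W, hz_ind W, (hS₁ W W.2).1 (hzW W)⟩
    let mz : MaximalSpectrum R → M := fun x => if hx : x ∈ Tz then (hgrow x (hTzF x hx).2.1).choose else 0
    let vb : MaximalSpectrum R → M := fun x =>
      if x ∈ Tz then (if Indep x.asIdeal (Fin.snoc s a) then 0 else mz x) else 0
    obtain ⟨b, F₂, hF₂, ⟨qb, hqb⟩, hbT, hbF, hF₂k⟩ := ih 0 (Fin.snoc s a) (F ∪ F₁) (fun x hx => Or.inl (hαF x hx)) (hF.union hF₁) haF hdim1
      (T ∪ Tz) (fun x hx => (Finset.mem_union.1 hx).elim (fun hh => Or.inl (hT x hh))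
        (fun hh => Or.inr (hTzF x hh).2.2)) (fun x hx => (Finset.mem_union.1 hx).elim (hTα x)
        (fun hh hα => (hTzF x hh).1 (hαF x hα))) vb
    obtain ⟨S₂, hS₂f, hS₂, hS₂c⟩ := exists_pieces hF₂ (F ∪ F₁)
    choose w hwW hwF using fun W : S₂ => Set.not_subset.1 (hS₂ W W.2).2
    let Tw : Finset (MaximalSpectrum R) :=
      haveI := hS₂f.fintype
      Finset.univ.image w
    have hTwF : ∀ x ∈ Tw, x ∉ F ∪ F₁ := by
      intro x hx
      obtain ⟨W, rfl⟩ : ∃ W, w W = x := by simpa [Tw] using hx
      exact hwF W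
    obtain ⟨c, hc⟩ := exists_residues (T ∪ Tz ∪ Tw) (fun x => if x ∈ Tz then 1 else 0)
    refine ⟨a + c • b, ?_⟩
    have hsame : ∀ x : MaximalSpectrum R, c ∈ x.asIdeal → a - (a + c • b) ∈ formKer M x.asIdeal := by
      intro x hx φ
      simpa using x.asIdeal.mul_mem_right (φ b) hx
    have hgood_w : ∀ W, Indep (w W).asIdeal (Fin.snoc s (a + c • b)) := by
      intro W
      have hWm : w W ∈ Tw := by simp [Tw]
      have hnz : w W ∉ Tz := fun hh => hwF W (Or.inr (hTzF _ hh).2.2)
      have hc' : c ∈ (w W).asIdeal := by simpa [hnz] using hc (w W) (Finset.mem_union_right _ hWm)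
      have hia : Indep (w W).asIdeal (Fin.snoc s a) := not_not.1 fun hn => hwF W (haF _ hn)
      refine hia.congr fun i => ?_
      induction i using Fin.lastCases with
      | last => simpa using hsame _ hc'
      | cast i => simp
    have hgood_z : ∀ W, Indep (z W).asIdeal (Fin.snoc s (a + c • b)) := by
      intro W
      set x := z W
      have hm : x ∈ Tz := (hTz _).2 ⟨W, rfl⟩
      have hc1 : c - 1 ∈ x.asIdeal := by simpa [hm] using hc x (Finset.mem_union_left _ (Finset.mem_union_right _ hm))
      have hb := hbT x (Finset.mem_union_right _ hm)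
      simp only [vb, hm, if_true] at hb
      by_cases hia : Indep x.asIdeal (Fin.snoc s a)
      · simp only [hia, if_true, sub_zero] at hb
        refine hia.congr fun i => ?_
        induction i using Fin.lastCases with
        | last => simpa using (formKer M x.asIdeal).neg_mem ((formKer M x.asIdeal).smul_mem c hb)
        | cast i => simp
      · simp only [hia, if_false] at hb
        set m := mz x with hmz
        have hms : Indep x.asIdeal (Fin.snoc s m) := by
          simp only [hmz, mz, dif_pos hm]; exact (hgrow x (hTzF x hm).2.1).choose_spec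
        letI := Ideal.Quotient.field x.asIdeal
        have key : ∀ y, Indep x.asIdeal (Fin.snoc s y) ↔
            (formKer M x.asIdeal).mkQ y ∉ Submodule.span (R ⧸ x.asIdeal) (Set.range fun i => (formKer M x.asIdeal).mkQ (s i)) := by
          intro y
          have hs' := (indep_iff_mkQ x.asIdeal s).2 (hz_ind W)
          rw [← indep_iff_mkQ]
          have e : (fun i => (formKer M x.asIdeal).mkQ ((Fin.snoc s y : Fin (h + 1) → M) i)) =
              Fin.snoc (fun i => (formKer M x.asIdeal).mkQ (s i)) ((formKer M x.asIdeal).mkQ y) := by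
            funext i
            induction i using Fin.lastCases <;> simp
          rw [e, linearIndependent_finSnoc]
          exact and_iff_right hs'
        rw [key] at hia hms ⊢
        rw [not_not] at hia
        intro hcon
        apply hms
        have e1 : (formKer M x.asIdeal).mkQ b = (formKer M x.asIdeal).mkQ m :=
          (Submodule.Quotient.eq _).2 hb
        have e2 : c • (formKer M x.asIdeal).mkQ b = (formKer M x.asIdeal).mkQ b := by
          rw [← sub_eq_zero]
          nth_rewrite 2 [← one_smul R ((formKer M x.asIdeal).mkQ b)]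
          rw [← sub_smul, ← map_smul, Submodule.mkQ_apply, Submodule.Quotient.mk_eq_zero]
          exact smul_top_le_formKer _ (Submodule.smul_mem_smul hc1 Submodule.mem_top)
        rw [map_add, map_smul, e2, e1] at hcon
        simpa using Submodule.sub_mem _ hcon hia
    have hbad : ∀ x, ¬ Indep x.asIdeal (Fin.snoc s (a + c • b)) → x ∈ F ∪ F₁ ∪ F₂ := by
      intro x hx
      refine hbF x fun hi => hx ?_
      have h2 := (indep_iff_mkQ x.asIdeal _).2 hi
      letI := Ideal.Quotient.field x.asIdeal
      have e : (fun i => (formKer M x.asIdeal).mkQ ((Fin.snoc (Fin.snoc s a : Fin (h + 1) → M) b : Fin (h + 2) → M) i)) =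
          Fin.snoc (Fin.snoc (fun i => (formKer M x.asIdeal).mkQ (s i)) ((formKer M x.asIdeal).mkQ a))
            ((formKer M x.asIdeal).mkQ b) := by
        funext i
        induction i using Fin.lastCases with
        | last => simp
        | cast i => induction i using Fin.lastCases <;> simp
      rw [e, linearIndependent_finSnoc, linearIndependent_finSnoc] at h2
      obtain ⟨⟨h3, h4⟩, h5⟩ := h2
      rw [← indep_iff_mkQ]
      have e' : (fun i => (formKer M x.asIdeal).mkQ ((Fin.snoc s (a + c • b) : Fin (h + 1) → M) i)) =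
          Fin.snoc (fun i => (formKer M x.asIdeal).mkQ (s i)) ((formKer M x.asIdeal).mkQ (a + c • b)) := by
        funext i
        induction i using Fin.lastCases <;> simp
      rw [e', linearIndependent_finSnoc]
      refine ⟨h3, fun hcon => ?_⟩
      rw [map_add, map_smul] at hcon
      by_cases hc0 : c ∈ x.asIdeal
      · apply h4
        have : c • (formKer M x.asIdeal).mkQ b = 0 := by
          rw [← map_smul, Submodule.mkQ_apply, Submodule.Quotient.mk_eq_zero]
          exact smul_top_le_formKer _ (Submodule.smul_mem_smul hc0 Submodule.mem_top)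
        rwa [this, add_zero] at hcon
      · apply h5
        have hne : Ideal.Quotient.mk x.asIdeal c ≠ 0 := by rwa [Ne, Ideal.Quotient.eq_zero_iff_mem]
        have hb' : Ideal.Quotient.mk x.asIdeal c • (formKer M x.asIdeal).mkQ b ∈
            Submodule.span (R ⧸ x.asIdeal) (Set.range (Fin.snoc (fun i => (formKer M x.asIdeal).mkQ (s i))
              ((formKer M x.asIdeal).mkQ a) : Fin (h + 1) → _)) := by
          have hle : Submodule.span (R ⧸ x.asIdeal) (Set.range fun i => (formKer M x.asIdeal).mkQ (s i)) ≤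
              Submodule.span (R ⧸ x.asIdeal) (Set.range (Fin.snoc (fun i => (formKer M x.asIdeal).mkQ (s i))
              ((formKer M x.asIdeal).mkQ a) : Fin (h + 1) → _)) :=
            Submodule.span_mono (by rintro _ ⟨i, rfl⟩; exact ⟨i.castSucc, by simp⟩)
          have ha : (formKer M x.asIdeal).mkQ a ∈ Submodule.span (R ⧸ x.asIdeal)
              (Set.range (Fin.snoc (fun i => (formKer M x.asIdeal).mkQ (s i))
              ((formKer M x.asIdeal).mkQ a) : Fin (h + 1) → _)) :=
            Submodule.subset_span ⟨Fin.last h, by simp⟩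
          exact (Submodule.add_mem_iff_right _ ha).1 (hle hcon)
        exact (Submodule.smul_mem_iff _ hne).1 hb'
    obtain ⟨S', hS'f, hS', hS'c⟩ := exists_pieces (isClosed_setOf_not_indep (Fin.snoc s (a + c • b))) F
    refine ⟨⋃ W ∈ S', (W : Set (MaximalSpectrum R)), isClosed_pieces hS'f,
      ⟨qa + c • qb, by rw [hqa, hqb]; module⟩, fun x hx => ?_, fun x hx => hS'c hx, ?_⟩
    · have hnz : x ∉ Tz := fun hh => (hTzF x hh).1 (hT x hx)
      have hc0 : c ∈ x.asIdeal := by simpa [hnz] using hc x (Finset.mem_union_left _ (Finset.mem_union_left _ hx))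
      have := (formKer M x.asIdeal).sub_mem (haT x hx) (hsame x hc0)
      convert this using 1
      abel
    · intro Z hZ
      obtain ⟨W, hW, hZW⟩ := subset_piece hS'f Z.isIrreducible hZ
      have hZW' : Z ≤ W := hZW
      refine le_trans ?_ (Order.coheight_anti hZW')
      obtain ⟨hWbad, hWF⟩ := hS' W hW
      have hWu : (W : Set (MaximalSpectrum R)) ⊆ F ∪ ((⋃ V ∈ S₁ ∪ S₂, (V : Set (MaximalSpectrum R)))) := by
        intro y hy
        rcases hbad y (hWbad hy) with (hh | hh) | hh
        · exact Or.inl hh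
        · rcases hS₁c hh with h' | h'
          · exact Or.inl h'
          · exact Or.inr (Set.biUnion_subset_biUnion_left Set.subset_union_left h')
        · rcases hS₂c hh with (h' | h') | h'
          · exact Or.inl h'
          · rcases hS₁c h' with h'' | h''
            · exact Or.inl h''
            · exact Or.inr (Set.biUnion_subset_biUnion_left Set.subset_union_left h'')
          · exact Or.inr (Set.biUnion_subset_biUnion_left Set.subset_union_right h')
      have hWu' : (W : Set (MaximalSpectrum R)) ⊆ ⋃ V ∈ S₁ ∪ S₂, (V : Set (MaximalSpectrum R)) := by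
        rcases isPreirreducible_iff_isClosed_union_isClosed.1 W.isIrreducible.2 _ _ hF
          (isClosed_pieces (hS₁f.union hS₂f)) hWu with h' | h'
        · exact absurd h' hWF
        · exact h'
      obtain ⟨V, hV, hWV⟩ := subset_piece (hS₁f.union hS₂f) W.isIrreducible hWu'
      have hlt : W < V := by
        refine lt_of_le_of_ne hWV ?_
        rintro rfl
        rcases hV with hV | hV
        · exact hWbad (hzW ⟨W, hV⟩) (hgood_z ⟨W, hV⟩)
        · exact hWbad (hwW ⟨W, hV⟩) (hgood_w ⟨W, hV⟩)
      have hk : (k : ℕ∞) ≤ Order.coheight V := by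
        rcases hV with hV | hV
        · exact hF₁k V (hS₁ V hV).1
        · exact hF₂k V (hS₂ V hV).1
      push_cast
      exact le_trans (by gcongr) (Order.coheight_add_one_le hlt)

end

/-- A projective module of rank at least `r` has `r` independent sections at every maximal ideal. -/
theorem exists_indep_of_rank (R : Type u) [CommRing R]
    (P : Type u) [AddCommGroup P] [Module R P] [Module.Finite R P] [Module.Projective R P] (r : ℕ)
    (hrk : ∀ p : PrimeSpectrum R, r ≤ Module.rankAtStalk (R := R) P p) (x : MaximalSpectrum R) :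
    ∃ w : Fin r → P, Indep x.asIdeal w := by
  classical
  have : Module.FinitePresentation R P := Module.finitePresentation_of_projective R P
  let Rm := Localization.AtPrime x.asIdeal
  let L := LocalizedModule x.asIdeal.primeCompl P
  have : Module.Projective Rm L :=
    Module.projective_of_isLocalizedModule x.asIdeal.primeCompl (LocalizedModule.mkLinearMap x.asIdeal.primeCompl P)
  have : Module.Free Rm L := Module.free_of_flat_of_isLocalRing
  have hr : r ≤ Module.finrank Rm L := hrk ⟨x.asIdeal, inferInstance⟩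
  let b := Module.finBasis Rm L
  refine Groth.Agent.S7113.indep_of_split x.asIdeal ⟨Fintype.linearCombination Rm fun i => b (Fin.castLE hr i),
    LinearMap.funLeft Rm Rm (Fin.castLE hr) ∘ₗ b.equivFun.toLinearMap, ?_⟩
  refine (Pi.basisFun Rm (Fin r)).ext fun i => funext fun l => ?_
  simp [Fintype.linearCombination_apply_single, LinearMap.funLeft_apply, Finsupp.single_apply, Pi.single_apply,
    (Fin.castLE_injective hr).eq_iff, eq_comm]

variable {R : Type u} [CommRing R] [IsNoetherianRing R] {d : ℕ} (hdim : ringKrullDim R = d)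
  {P : Type u} [AddCommGroup P] [Module R P] [Module.Finite R P] [Module.Projective R P]
  (hrk : ∀ p : PrimeSpectrum R, d < Module.rankAtStalk (R := R) P p)

include hdim hrk in
/-- Bass: a unimodular element `(p, a)` of `P × R` reduces to a unimodular element `p + a q` of `P`. -/
theorem exists_unimodular_add_smul (p : P) (a : R) (φ : P →ₗ[R] R) (b : R) (h : φ p + b * a = 1) :
    ∃ (q : P) (ψ : P →ₗ[R] R), ψ (p + a • q) = 1 := by
  classical
  have : TopologicalSpace.NoetherianSpace (MaximalSpectrum R) :=
    (⟨rfl⟩ : Topology.IsInducing (MaximalSpectrum.toPrimeSpectrum (R := R))).noetherianSpace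
  have htop : topologicalKrullDim (MaximalSpectrum R) ≤ d := by
    rw [← hdim, ← PrimeSpectrum.topologicalKrullDim_eq_ringKrullDim]
    exact (⟨rfl⟩ : Topology.IsInducing (MaximalSpectrum.toPrimeSpectrum (R := R))).topologicalKrullDim_le
  let s₀ : Fin 0 → P := Fin.elim0
  let F : Set (MaximalSpectrum R) := MaximalSpectrum.toPrimeSpectrum ⁻¹' (PrimeSpectrum.zeroLocus {a})
  have hFc : IsClosed F := (PrimeSpectrum.isClosed_zeroLocus _).preimage MaximalSpectrum.toPrimeSpectrum_continuous
  have hF : ∀ x : MaximalSpectrum R, a ∈ x.asIdeal ↔ x ∈ F := fun x => by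
    simp [F, MaximalSpectrum.toPrimeSpectrum]
  have h0 : ∀ x : MaximalSpectrum R, Indep x.asIdeal s₀ := fun x =>
    ⟨Fin.elim0, by simpa [Matrix.det_fin_zero] using x.asIdeal.ne_top_iff_one.1 x.isMaximal.ne_top⟩
  obtain ⟨t, F', hF'c, ⟨q, rfl⟩, -, hbad, hk⟩ := exists_general_position_affine a (d + 1) p s₀ F
    (fun x => (hF x).1) hFc (fun x hx => absurd (h0 x) hx)
    (fun x => by rw [zero_add]; exact exists_indep_of_rank R P (d + 1) (fun p => hrk p) x)
    ∅ (fun x hx => absurd hx (Finset.notMem_empty x)) (fun x hx => absurd hx (Finset.notMem_empty x)) 0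
  refine ⟨q, ?_⟩
  let I : Ideal R := LinearMap.range (Module.Dual.eval R P (p + a • q))
  suffices hI : I = ⊤ by
    obtain ⟨ψ, hψ⟩ := (Ideal.eq_top_iff_one I).1 hI
    exact ⟨ψ, hψ⟩
  by_contra hne
  obtain ⟨m, hm, hle⟩ := Ideal.exists_le_maximal I hne
  let x : MaximalSpectrum R := ⟨m, hm⟩
  by_cases hxF : x ∈ F
  · have ha : a ∈ m := (hF x).2 hxF
    have h1 : φ (p + a • q) ∈ m := hle ⟨φ, rfl⟩
    rw [map_add, map_smul, smul_eq_mul, Ideal.add_mem_iff_left _ (m.mul_mem_right _ ha)] at h1
    exact hm.ne_top ((Ideal.eq_top_iff_one m).2 (h ▸ add_mem h1 (m.mul_mem_left b ha)))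
  · have hx : ¬ Indep x.asIdeal (Fin.snoc s₀ (p + a • q)) := by
      rintro ⟨ψ, hψ⟩
      refine hψ (hle ⟨ψ 0, ?_⟩)
      simp [Matrix.det_fin_one, Fin.snoc]
    have hxF' : x ∈ F' := (hbad x hx).resolve_left hxF
    let Z : IrreducibleCloseds (MaximalSpectrum R) :=
      ⟨closure {x}, isIrreducible_singleton.closure, isClosed_closure⟩
    have h1 := hk Z (closure_minimal (Set.singleton_subset_iff.2 hxF') hF'c)
    have h2 : (Order.coheight Z : WithBot ℕ∞) ≤ d := le_trans (Order.coheight_le_krullDim Z) htop
    have h3 := (WithBot.coe_le_coe.2 h1).trans h2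
    norm_cast at h3
    omega

/-- A transvection of `P × R`. -/
def addSnd (q : P) : (P × R) ≃ₗ[R] (P × R) where
  toFun z := (z.1 + z.2 • q, z.2)
  invFun z := (z.1 - z.2 • q, z.2)
  map_add' z w := by simp [add_smul]; abel
  map_smul' c z := by simp [smul_smul]
  left_inv z := by simp
  right_inv z := by simp

/-- A transvection of `P × R`. -/
def addFst (ψ : P →ₗ[R] R) : (P × R) ≃ₗ[R] (P × R) where
  toFun z := (z.1, z.2 + ψ z.1)
  invFun z := (z.1, z.2 - ψ z.1)
  map_add' z w := by simp; abel
  map_smul' c z := by simp [mul_add]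
  left_inv z := by simp
  right_inv z := by simp

include hdim hrk in
/-- Automorphisms of `P × R` are transitive on unimodular elements. -/
theorem exists_aut_map_eq (u : P × R) (Φ : P × R →ₗ[R] R) (h : Φ u = 1) :
    ∃ E : (P × R) ≃ₗ[R] (P × R), E u = (0, 1) := by
  obtain ⟨q, ψ, hψ⟩ := exists_unimodular_add_smul hdim hrk u.1 u.2 (Φ ∘ₗ LinearMap.inl R P R) (Φ (0, 1)) (by
    rw [mul_comm, ← smul_eq_mul, ← map_smul, LinearMap.comp_apply, ← map_add, LinearMap.inl_apply]
    simpa using h)
  refine ⟨(addSnd q).trans ((addFst ((1 - u.2) • ψ)).trans (addSnd (-(u.1 + u.2 • q)))), ?_⟩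
  simp [addSnd, addFst, hψ]

include hdim hrk in
/-- Bass cancellation of one free summand. -/
theorem cancel_one {P' : Type u} [AddCommGroup P'] [Module R P'] (e : (P' × R) ≃ₗ[R] (P × R)) :
    Nonempty (P' ≃ₗ[R] P) := by
  obtain ⟨E, hE⟩ := exists_aut_map_eq hdim hrk (e (0, 1)) (LinearMap.snd R P' R ∘ₗ e.symm.toLinearMap) (by simp)
  let g := e.trans E
  have hg : ∀ r : R, g (0, r) = (0, r) := fun r => by
    rw [show ((0, r) : P' × R) = r • ((0, 1) : P' × R) by simp, map_smul]
    simp [g, hE]
  refine ⟨LinearEquiv.ofLinearMap (LinearMap.fst R P R ∘ₗ g.toLinearMap ∘ₗ LinearMap.inl R P' R)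
    (LinearMap.fst R P' R ∘ₗ g.symm.toLinearMap ∘ₗ LinearMap.inl R P R) ?_ ?_⟩
  · refine LinearMap.ext fun y => ?_
    simp only [LinearMap.comp_apply, LinearEquiv.coe_coe, LinearMap.inl_apply, LinearMap.fst_apply, LinearMap.id_apply]
    have h1 : g ((g.symm (y, 0)).1, 0) + g (0, (g.symm (y, 0)).2) = (y, 0) := by
      rw [← map_add]; simp
    rw [hg] at h1
    simpa using congrArg Prod.fst h1
  · refine LinearMap.ext fun x => ?_
    simp only [LinearMap.comp_apply, LinearEquiv.coe_coe, LinearMap.inl_apply, LinearMap.fst_apply, LinearMap.id_apply]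
    have hg' : ∀ r : R, g.symm (0, r) = (0, r) := fun r => by rw [LinearEquiv.symm_apply_eq, hg]
    have h1 : g.symm ((g (x, 0)).1, 0) + g.symm (0, (g (x, 0)).2) = (x, 0) := by
      rw [← map_add]; simp
    rw [hg'] at h1
    simpa using congrArg Prod.fst h1

include hdim in
/-- **Bass cancellation**. -/
theorem cancel (m : ℕ) {P P' : Type u} [AddCommGroup P] [Module R P] [Module.Finite R P] [Module.Projective R P]
    [AddCommGroup P'] [Module R P'] (hrk : ∀ p : PrimeSpectrum R, d < Module.rankAtStalk (R := R) P p)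
    (e : (P' × (Fin m → R)) ≃ₗ[R] (P × (Fin m → R))) : Nonempty (P' ≃ₗ[R] P) := by
  induction m with
  | zero => exact ⟨(LinearEquiv.prodUnique.symm.trans e).trans LinearEquiv.prodUnique⟩
  | succ m ih =>
    let split : ∀ (X : Type u) [AddCommGroup X] [Module R X],
        (X × (Fin (m + 1) → R)) ≃ₗ[R] ((X × (Fin m → R)) × R) := fun X _ _ =>
      { toFun := fun z => ((z.1, Fin.tail z.2), z.2 0)
        invFun := fun z => (z.1.1, Fin.cons z.2 z.1.2)
        map_add' := fun z w => by ext <;> simp [Fin.tail]
        map_smul' := fun c z => by ext <;> simp [Fin.tail]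
        left_inv := fun z => by simp
        right_inv := fun z => by simp }
    obtain ⟨e'⟩ := cancel_one hdim (P := P × (Fin m → R)) (fun p => by
      rw [Module.rankAtStalk_prod, Pi.add_apply]
      exact lt_add_of_lt_of_nonneg (hrk p) (Nat.zero_le _))
      (((split P').symm.trans e).trans (split P))
    exact ih e'

end Groth.Calg8
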