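import Mathlib
import Groth.Prelude.Def_W4c5adicflatcomplDec

/-!
Basic theory of adically decaying functions.
-/

open W4c5adicflatcompl

namespace Groth.Calg8

variable {A : Type*} [CommRing A] {I : Ideal A} {Z : Type*}
variable {M : Type*} [AddCommGroup M] [Module A M]
variable {N : Type*} [AddCommGroup N] [Module A N]

theorem map_mem_smul_top (φ : M →ₗ[A] N) (J : Ideal A) {x : M}
    (hx : x ∈ (J • ⊤ : Submodule A M)) : φ x ∈ (J • ⊤ : Submodule A N) := by
  refine Submodule.smul_induction_on hx (fun r hr m _ => ?_) (fun a b ha hb => ?_)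
  · rw [map_smul]
    exact Submodule.smul_mem_smul hr trivial
  · rw [map_add]
    exact add_mem ha hb

theorem pow_smul_top_mono {m n : ℕ} (h : m ≤ n) {x : M}
    (hx : x ∈ (I ^ n • ⊤ : Submodule A M)) : x ∈ (I ^ m • ⊤ : Submodule A M) :=
  Submodule.smul_mono_left (Ideal.pow_le_pow_right h) hx

theorem mem_pow_zero_smul_top (x : M) : x ∈ (I ^ 0 • ⊤ : Submodule A M) := by simp

theorem mem_smul_top_ring {J : Ideal A} {a : A} : a ∈ (J • ⊤ : Submodule A A) ↔ a ∈ J := by
  simp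

theorem finsupp_mem_smul_top_iff (J : Ideal A) (f : Z →₀ M) :
    f ∈ (J • ⊤ : Submodule A (Z →₀ M)) ↔ ∀ z, f z ∈ (J • ⊤ : Submodule A M) := by
  refine ⟨fun h z => map_mem_smul_top (Finsupp.lapply z) J h, fun h => ?_⟩
  rw [← f.sum_single]
  exact Submodule.sum_mem _ fun z _ => map_mem_smul_top (Finsupp.lsingle z) J (h z)

theorem eq_zero_of_forall_mem [IsHausdorff I M] {x : M}
    (h : ∀ n : ℕ, x ∈ (I ^ n • ⊤ : Submodule A M)) : x = 0 :=
  IsHausdorff.haus (I := I) inferInstance x fun n => SModEq.zero.2 (h n)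

/-- Choosing witnesses that are as divisible as the given values. -/
theorem exists_choice [IsHausdorff I N] {X : Type*} (g : Z → N) (R : N → X → Prop)
    (S : ℕ → Set X) (hS : Antitone S) (x₀ : X) (hR0 : R 0 x₀) (hS0 : ∀ k, x₀ ∈ S k)
    (h : ∀ k y, y ∈ (I ^ k • ⊤ : Submodule A N) → ∃ x, R y x ∧ x ∈ S k) :
    ∃ f : Z → X, ∀ z, R (g z) (f z) ∧
      ∀ k, g z ∈ (I ^ k • ⊤ : Submodule A N) → f z ∈ S k := by
  classical
  have key : ∀ z, ∃ x, R (g z) x ∧ ∀ k, g z ∈ (I ^ k • ⊤ : Submodule A N) → x ∈ S k := by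
    intro z
    by_cases hz : ∃ k, g z ∉ (I ^ k • ⊤ : Submodule A N)
    · have h0 : Nat.find hz ≠ 0 := by
        intro h0
        have h1 := Nat.find_spec hz
        rw [h0] at h1
        exact h1 (mem_pow_zero_smul_top _)
      obtain ⟨x, hx, hxS⟩ := h (Nat.find hz - 1) (g z) (not_not.1 (Nat.find_min hz (by omega)))
      refine ⟨x, hx, fun k hk => hS ?_ hxS⟩
      by_contra hlt
      exact Nat.find_spec hz (pow_smul_top_mono (by omega) hk)
    · have : g z = 0 := eq_zero_of_forall_mem fun n => not_not.1 fun hn => hz ⟨n, hn⟩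
      exact ⟨x₀, by rwa [this], fun k _ => hS0 k⟩
  choose f hf using key
  exact ⟨f, hf⟩

theorem mem_decaying_of_le {f : Z → M} {g : Z → N} (c : ℕ)
    (h : ∀ z k, f z ∈ (I ^ (k + c) • ⊤ : Submodule A M) → g z ∈ (I ^ k • ⊤ : Submodule A N))
    (hf : f ∈ decaying I Z M) : g ∈ decaying I Z N := fun k =>
  (hf (k + c)).subset fun z hz hz' => hz (h z k hz')

theorem comp_mem_decaying (φ : M →ₗ[A] N) {f : Z → M} (hf : f ∈ decaying I Z M) :
    (fun z => φ (f z)) ∈ decaying I Z N :=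
  mem_decaying_of_le 0 (fun _ _ h => map_mem_smul_top φ _ h) hf

theorem smul_mem_decaying {f : Z → A} (hf : f ∈ decaying I Z A) (m : Z → M) :
    (fun z => f z • m z) ∈ decaying I Z M :=
  mem_decaying_of_le 0 (fun z k h => Submodule.smul_mem_smul (mem_smul_top_ring.1 h) trivial) hf

/-- Coefficients of a decaying function with respect to finitely many generators. -/
theorem exists_decaying_coeff [IsHausdorff I M] {q : ℕ} (m : Fin q → M)
    (hm : Submodule.span A (Set.range m) = ⊤) {f : Z → M} (hf : f ∈ decaying I Z M) :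
    ∃ c : Fin q → decaying I Z A, ∀ z, ∑ i, (c i : Z → A) z • m i = f z := by
  obtain ⟨F, hF⟩ := exists_choice (I := I) f (fun y (a : Fin q → A) => ∑ i, a i • m i = y)
    (fun k => {a | ∀ i, a i ∈ I ^ k}) (fun j k h a ha i => Ideal.pow_le_pow_right h (ha i)) 0
    (by simp) (fun k i => zero_mem _) (fun k y hy => by
      rw [← hm, Submodule.mem_ideal_smul_span_iff_exists_sum] at hy
      obtain ⟨a, ha, rfl⟩ := hy
      refine ⟨a, ?_, ha⟩
      rw [Finsupp.sum_fintype]
      simp)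
  exact ⟨fun i => ⟨fun z => F z i, mem_decaying_of_le 0
    (fun z k h => mem_smul_top_ring.2 ((hF z).2 _ h i)) hf⟩, fun z => (hF z).1⟩

theorem mem_pow_smul_top_decaying_iff [IsHausdorff I M] (hI : I.FG) (n : ℕ)
    (f : decaying I Z M) :
    f ∈ (I ^ n • ⊤ : Submodule A (decaying I Z M)) ↔
      ∀ z, (f : Z → M) z ∈ (I ^ n • ⊤ : Submodule A M) := by
  refine ⟨fun h z => map_mem_smul_top ((LinearMap.proj z).comp (decaying I Z M).subtype) _ h,
    fun h => ?_⟩
  obtain ⟨q, a, ha⟩ := Submodule.fg_iff_exists_fin_generating_family.1 (Ideal.FG.pow hI (n := n))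
  have ha' : ∀ i, a i ∈ I ^ n := fun i => ha ▸ Submodule.subset_span ⟨i, rfl⟩
  have aux : ∀ (k : ℕ) (y : M), y ∈ (I ^ (n + k) • ⊤ : Submodule A M) →
      ∃ m : Fin q → M, ∑ i, a i • m i = y ∧ ∀ i, m i ∈ (I ^ k • ⊤ : Submodule A M) := by
    intro k y hy
    rw [pow_add, Submodule.mul_smul] at hy
    refine Submodule.smul_induction_on hy (fun r hr m hm => ?_) ?_
    · obtain ⟨c, rfl⟩ := (Submodule.mem_span_range_iff_exists_fun A).1
        (show r ∈ Submodule.span A (Set.range a) from ha ▸ hr)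
      refine ⟨fun i => c i • m, ?_, fun i => Submodule.smul_mem _ _ hm⟩
      rw [Finset.sum_smul]
      exact Finset.sum_congr rfl fun i _ => by rw [smul_eq_mul, mul_comm, mul_smul]
    · rintro y₁ y₂ ⟨m₁, h₁, h₁'⟩ ⟨m₂, h₂, h₂'⟩
      exact ⟨m₁ + m₂, by simp [Finset.sum_add_distrib, h₁, h₂], fun i => add_mem (h₁' i) (h₂' i)⟩
  obtain ⟨F, hF⟩ := exists_choice (I := I) (f : Z → M)
    (fun y (m : Fin q → M) => y ∈ (I ^ n • ⊤ : Submodule A M) → ∑ i, a i • m i = y)
    (fun k => {m | ∀ i, m i ∈ (I ^ (k - n) • ⊤ : Submodule A M)})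
    (fun j k hjk m hm i => pow_smul_top_mono (by omega) (hm i)) 0
    (by simp) (fun k i => zero_mem _) (fun k y hy => by
      rcases le_or_gt n k with hk | hk
      · obtain ⟨m, hm, hm'⟩ := aux (k - n) y (by rwa [Nat.add_sub_cancel' hk])
        exact ⟨m, fun _ => hm, hm'⟩
      · by_cases hy' : y ∈ (I ^ n • ⊤ : Submodule A M)
        · obtain ⟨m, hm, -⟩ := aux 0 y (by simpa using hy')
          exact ⟨m, fun _ => hm, fun i => pow_smul_top_mono (by omega) (mem_pow_zero_smul_top (m i))⟩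
        · exact ⟨0, fun h => absurd h hy', fun i => zero_mem _⟩)
  have hG : ∀ i, (fun z => F z i) ∈ decaying I Z M := fun i =>
    mem_decaying_of_le n (fun z k hk => by simpa using (hF z).2 (k + n) hk i) f.2
  have : f = ∑ i, a i • (⟨fun z => F z i, hG i⟩ : decaying I Z M) := by
    refine Subtype.ext (funext fun z => ?_)
    simp [(hF z).1 (h z)]
  rw [this]
  exact Submodule.sum_mem _ fun i _ => Submodule.smul_mem_smul (ha' i) trivial

theorem isHausdorff_decaying [IsHausdorff I M] : IsHausdorff I (decaying I Z M) :=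
  ⟨fun f hf => Subtype.ext (funext fun z => eq_zero_of_forall_mem (I := I) fun n =>
    map_mem_smul_top ((LinearMap.proj z).comp (decaying I Z M).subtype) _ (SModEq.zero.1 (hf n)))⟩

theorem isAdicComplete_decaying [IsAdicComplete I M] (hI : I.FG) :
    IsAdicComplete I (decaying I Z M) where
  toIsHausdorff := isHausdorff_decaying
  toIsPrecomplete := ⟨fun f hf => by
    have hpt : ∀ z, ∃ L : M, ∀ n, (f n : Z → M) z ≡ L [SMOD (I ^ n • ⊤ : Submodule A M)] :=
      fun z => IsPrecomplete.prec inferInstance fun {a b} hab => SModEq.sub_mem.2 (by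
        simpa using map_mem_smul_top ((LinearMap.proj z).comp (decaying I Z M).subtype) _
          (SModEq.sub_mem.1 (hf hab)))
    choose L hL using hpt
    have hLd : L ∈ decaying I Z M := fun n => ((f n).2 n).subset fun z hz hz' => hz (by
      simpa using sub_mem hz' (SModEq.sub_mem.1 (hL z n)))
    exact ⟨⟨L, hLd⟩, fun n => SModEq.sub_mem.2
      ((mem_pow_smul_top_decaying_iff hI n _).2 fun z => by simpa using SModEq.sub_mem.1 (hL z n))⟩⟩

/-- Artin-Rees, membership form. -/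
theorem exists_artin_rees (I : Ideal A) [IsNoetherianRing A] [Module.Finite A M] (N : Submodule A M) :
    ∃ c : ℕ, ∀ (k : ℕ) (x : N), (x : M) ∈ (I ^ (k + c) • ⊤ : Submodule A M) →
      x ∈ (I ^ k • ⊤ : Submodule A N) := by
  obtain ⟨c, hc⟩ := Ideal.exists_pow_inf_eq_pow_smul I N
  refine ⟨c, fun k x hx => (Submodule.mem_smul_top_iff _ _ _).2 ?_⟩
  have h : (x : M) ∈ I ^ (k + c) • ⊤ ⊓ N := ⟨hx, x.2⟩
  rw [hc (k + c) (by omega), Nat.add_sub_cancel] at h
  exact Submodule.smul_mono le_rfl inf_le_right h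

theorem isHausdorff_of_finite [IsNoetherianRing A] [Module.Finite A M] [IsAdicComplete I A] :
    IsHausdorff I M :=
  IsHausdorff.of_le_jacobson I M (IsAdicComplete.le_jacobson_bot I)

/-! ### Sums of adically convergent families -/

/-- `s` is the adic sum of the family `v`. -/
def IsSum (I : Ideal A) (v : Z → M) (s : M) : Prop :=
  ∀ n : ℕ, ∃ S : Finset Z, (∀ z, z ∉ S → v z ∈ (I ^ n • ⊤ : Submodule A M)) ∧
    s - ∑ z ∈ S, v z ∈ (I ^ n • ⊤ : Submodule A M)

theorem sum_sub_sum_mem {v : Z → M} {n : ℕ} {S T : Finset Z}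
    (hS : ∀ z, z ∉ S → v z ∈ (I ^ n • ⊤ : Submodule A M))
    (hT : ∀ z, z ∉ T → v z ∈ (I ^ n • ⊤ : Submodule A M)) :
    ∑ z ∈ S, v z - ∑ z ∈ T, v z ∈ (I ^ n • ⊤ : Submodule A M) := by
  classical
  rw [← Finset.sum_sdiff_sub_sum_sdiff]
  exact sub_mem (Submodule.sum_mem _ fun z hz => hT z (Finset.mem_sdiff.1 hz).2)
    (Submodule.sum_mem _ fun z hz => hS z (Finset.mem_sdiff.1 hz).2)

theorem IsSum.mem_of_finset {v : Z → M} {s : M} (hs : IsSum I v s) {n : ℕ} {T : Finset Z}
    (hT : ∀ z, z ∉ T → v z ∈ (I ^ n • ⊤ : Submodule A M)) :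
    s - ∑ z ∈ T, v z ∈ (I ^ n • ⊤ : Submodule A M) := by
  obtain ⟨S, hS, hS'⟩ := hs n
  simpa using add_mem hS' (sum_sub_sum_mem hS hT)

theorem IsSum.unique [IsHausdorff I M] {v : Z → M} {s t : M} (hs : IsSum I v s)
    (ht : IsSum I v t) : s = t :=
  sub_eq_zero.1 (eq_zero_of_forall_mem (I := I) fun n => by
    obtain ⟨S, hS, hS'⟩ := hs n
    simpa using sub_mem hS' (ht.mem_of_finset hS))

theorem IsSum.add {v w : Z → M} {s t : M} (hs : IsSum I v s) (ht : IsSum I w t) :
    IsSum I (v + w) (s + t) := by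
  classical
  intro n
  obtain ⟨S, hS, -⟩ := hs n
  obtain ⟨T, hT, -⟩ := ht n
  have hS' : ∀ z, z ∉ S ∪ T → v z ∈ (I ^ n • ⊤ : Submodule A M) :=
    fun z hz => hS z fun h => hz (Finset.mem_union_left _ h)
  have hT' : ∀ z, z ∉ S ∪ T → w z ∈ (I ^ n • ⊤ : Submodule A M) :=
    fun z hz => hT z fun h => hz (Finset.mem_union_right _ h)
  refine ⟨S ∪ T, fun z hz => add_mem (hS' z hz) (hT' z hz), ?_⟩
  simpa [Finset.sum_add_distrib, add_sub_add_comm] using
    add_mem (hs.mem_of_finset hS') (ht.mem_of_finset hT')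

theorem IsSum.smul {v : Z → M} {s : M} (hs : IsSum I v s) (a : A) : IsSum I (a • v) (a • s) := by
  intro n
  obtain ⟨S, hS, hS'⟩ := hs n
  refine ⟨S, fun z hz => Submodule.smul_mem _ a (hS z hz), ?_⟩
  simpa [smul_sub, Finset.smul_sum] using Submodule.smul_mem _ a hS'

theorem exists_isSum [IsPrecomplete I M] {v : Z → M} (hv : v ∈ decaying I Z M) :
    ∃ s, IsSum I v s := by
  classical
  obtain ⟨s, hs⟩ := IsPrecomplete.prec (I := I) (M := M) inferInstance
    (f := fun n => ∑ z ∈ (hv n).toFinset, v z) (fun {a b} hab => SModEq.sub_mem.2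
      (sum_sub_sum_mem (fun z hz => by simpa using hz)
        (fun z hz => pow_smul_top_mono hab (by simpa using hz))))
  refine ⟨s, fun n => ⟨(hv n).toFinset, fun z hz => by simpa using hz, ?_⟩⟩
  exact SModEq.sub_mem.1 (hs n).symm

end Groth.Calg8
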