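import Groth.Prelude.Def_SpSeq
import Mathlib

/-!
A spectral sequence from page one whose rows are split exact up to a given column-zero term.
-/

set_option autoImplicit false
universe v u

open CategoryTheory CategoryTheory.Limits
open scoped ZeroObject

namespace Groth.Agent.Calg8.DegenerateSS

variable {C : Type u} [Category.{v} C] [Abelian C]

/-- A contracting datum identifies the homology. -/
noncomputable def homologyIsoOfContraction (S : ShortComplex C) {A : C} (i : A ⟶ S.X₂) (π : S.X₂ ⟶ A)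
    (h1 : S.X₂ ⟶ S.X₁) (h2 : S.X₃ ⟶ S.X₂) (hi : i ≫ S.g = 0) (hπ : S.f ≫ π = 0) (hiπ : i ≫ π = 𝟙 A)
    (hh : π ≫ i + h1 ≫ S.f + S.g ≫ h2 = 𝟙 S.X₂) : S.homology ≅ A where
  hom := S.homologyι ≫ S.descOpcycles π hπ
  inv := S.liftCycles i hi ≫ S.homologyπ
  hom_inv_id := by
    rw [← cancel_epi S.homologyπ, Category.comp_id, Category.assoc, S.homology_π_ι_assoc,
      S.p_descOpcycles_assoc]
    have : S.iCycles ≫ π ≫ S.liftCycles i hi = 𝟙 _ - (S.iCycles ≫ h1) ≫ S.toCycles := by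
      rw [← cancel_mono S.iCycles, Preadditive.sub_comp, Category.id_comp]
      simp only [Category.assoc, S.liftCycles_i, S.toCycles_i]
      rw [eq_sub_iff_add_eq]
      have := S.iCycles ≫= hh
      simpa only [Preadditive.comp_add, Category.comp_id, S.iCycles_g_assoc, zero_comp, add_zero] using this
    rw [reassoc_of% this, Preadditive.sub_comp, Category.id_comp, Category.assoc, Category.assoc,
      S.toCycles_comp_homologyπ, comp_zero, comp_zero, sub_zero]
  inv_hom_id := by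
    rw [Category.assoc, S.homology_π_ι_assoc, S.p_descOpcycles, S.liftCycles_i_assoc, hiπ]

variable (A : ℤ → C) (G : ℤ × ℤ → C)

/-- The limit terms. -/
noncomputable def lim (pq : ℤ × ℤ) : C := if pq.1 = 0 then A (pq.1 + pq.2) else 0

/-- The complementary summands on page `r`. -/
noncomputable def Gr (r : ℤ) (pq : ℤ × ℤ) : C := if r = 1 then G pq else 0

lemma isZero_Gr {r : ℤ} (hr : r ≠ 1) (pq : ℤ × ℤ) : IsZero (Gr G r pq) := by
  rw [Gr, if_neg hr]; exact isZero_zero _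

/-- The objects on page `r`. -/
noncomputable abbrev X (r : ℤ) (pq : ℤ × ℤ) : C := lim A pq ⊞ (Gr G r (pq - (r, 1 - r)) ⊞ Gr G r pq)

/-- The differential. -/
noncomputable def d (r : ℤ) (i j : ℤ × ℤ) : X A G r i ⟶ X A G r j :=
  if h : i + (r, 1 - r) = j then
    biprod.snd ≫ biprod.snd ≫ eqToHom (by rw [← h, add_sub_cancel_right]) ≫ biprod.inl ≫ biprod.inr
  else 0

/-- The pages. -/
noncomputable def page (r : ℤ) : HomologicalComplex C (ComplexShape.up' ((r, 1 - r) : ℤ × ℤ)) where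
  X := X A G r
  d := d A G r
  shape i j h := dif_neg h
  d_comp_d' i j k h h' := by
    replace h : i + (r, 1 - r) = j := h
    replace h' : j + (r, 1 - r) = k := h'
    rw [d, d, dif_pos h, dif_pos h']
    simp

lemma d_out (r : ℤ) (pq : ℤ × ℤ) : d A G r pq (pq + (r, 1 - r)) = biprod.snd ≫ biprod.snd ≫
    eqToHom (congrArg (Gr G r) (add_sub_cancel_right pq _).symm) ≫ biprod.inl ≫ biprod.inr := dif_pos rfl

lemma d_in (r : ℤ) (pq : ℤ × ℤ) : d A G r (pq - (r, 1 - r)) pq =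
    biprod.snd ≫ biprod.snd ≫ biprod.inl ≫ biprod.inr := by
  rw [d, dif_pos (sub_add_cancel pq _)]
  simp

/-- The backward homotopy. -/
noncomputable def back (r : ℤ) (pq : ℤ × ℤ) : X A G r (pq + (r, 1 - r)) ⟶ X A G r pq :=
  biprod.snd ≫ biprod.fst ≫ eqToHom (congrArg (Gr G r) (add_sub_cancel_right pq _)) ≫ biprod.inr ≫ biprod.inr

lemma inl_d (r : ℤ) (pq : ℤ × ℤ) : (biprod.inl : lim A pq ⟶ X A G r pq) ≫ d A G r pq (pq + (r, 1 - r)) = 0 := by
  rw [d_out]; simp

lemma d_fst (r : ℤ) (pq : ℤ × ℤ) : d A G r (pq - (r, 1 - r)) pq ≫ (biprod.fst : X A G r pq ⟶ lim A pq) = 0 := by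
  rw [d_in]; simp

lemma homotopy_eq (r : ℤ) (pq : ℤ × ℤ) :
    (biprod.fst : X A G r pq ⟶ lim A pq) ≫ biprod.inl +
      (biprod.snd ≫ biprod.fst ≫ biprod.inr ≫ biprod.inr : X A G r pq ⟶ X A G r (pq - (r, 1 - r))) ≫
        d A G r (pq - (r, 1 - r)) pq +
      d A G r pq (pq + (r, 1 - r)) ≫ back A G r pq = 𝟙 _ := by
  rw [d_out, d_in, back]
  refine biprod.hom_ext' _ _ (by simp) (biprod.hom_ext' _ _ ?_ ?_) <;> simp

/-- The homology of a page. -/
noncomputable def homologyIso (r : ℤ) (pq : ℤ × ℤ) : (page A G r).homology pq ≅ lim A pq :=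
  (page A G r).homologyIsoSc' (pq - (r, 1 - r)) pq (pq + (r, 1 - r))
    (ComplexShape.prev_eq' _ (sub_add_cancel pq _)) (ComplexShape.next_eq' _ rfl) |>.trans
  (homologyIsoOfContraction ((page A G r).sc' (pq - (r, 1 - r)) pq (pq + (r, 1 - r)))
    (biprod.inl : lim A pq ⟶ X A G r pq) (biprod.fst : X A G r pq ⟶ lim A pq)
    (biprod.snd ≫ biprod.fst ≫ biprod.inr ≫ biprod.inr : X A G r pq ⟶ X A G r (pq - (r, 1 - r)))
    (back A G r pq) (inl_d A G r pq) (d_fst A G r pq) biprod.inl_fst (homotopy_eq A G r pq))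

/-- The comparison of the objects of a later page with the limit terms. -/
noncomputable def XIso {r : ℤ} (hr : r ≠ 1) (pq : ℤ × ℤ) : X A G r pq ≅ lim A pq where
  hom := biprod.fst
  inv := biprod.inl
  hom_inv_id := biprod.hom_ext' _ _ (by simp)
    (biprod.hom_ext' _ _ ((isZero_Gr G hr _).eq_of_src _ _) ((isZero_Gr G hr _).eq_of_src _ _))
  inv_hom_id := biprod.inl_fst

lemma d_eq_zero {r : ℤ} (hr : r ≠ 1) (i j : ℤ × ℤ) : d A G r i j = 0 := by
  rw [d]
  split_ifs with h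
  · rw [(isZero_Gr G hr i).eq_of_tgt (biprod.snd : Gr G r (i - (r, 1 - r)) ⊞ Gr G r i ⟶ Gr G r i) 0]
    simp
  · rfl

/-- The spectral sequence. -/
noncomputable def spSeq : CohomologicalSpectralSequence C 1 where
  page r _ := page A G r
  iso r r' pq _ _ := homologyIso A G r pq ≪≫ (XIso A G (r := r') (by omega) pq).symm

/-- The trivial filtration, with jump at zero. -/
noncomputable def fil (n p : ℤ) : Subobject (A n) := if p ≤ 0 then ⊤ else ⊥

lemma fil_anti (n : ℤ) : Antitone (fil A n) := by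
  intro a b h
  simp only [fil]
  split_ifs with h1 h2 <;> first | exact le_rfl | exact bot_le | exact absurd (h.trans h1) h2

/-- The identification of the graded pieces with the limit terms. -/
noncomputable def grIso (n : ℤ) (pq : ℤ × ℤ) (h : pq.1 + pq.2 = n) :
    lim A pq ≅ SpSeq.grPiece (fil A n) (fil_anti A n) pq.1 :=
  if h0 : pq.1 = 0 then
    (eqToIso (by rw [lim, if_pos h0, h]) : lim A pq ≅ A n) ≪≫ (asIso (⊤ : Subobject (A n)).arrow).symm ≪≫
      eqToIso (congrArg Subobject.underlying.obj (show ⊤ = fil A n pq.1 by rw [fil, if_pos h0.le])) ≪≫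
      (cokernelIsoOfEq (show ((fil A n (pq.1 + 1)).ofLE (fil A n pq.1) (fil_anti A n (Int.le_add_one le_rfl))) = 0 from
        IsZero.eq_of_src (by
          rw [fil, if_neg (by omega)]
          exact IsZero.of_iso (isZero_zero C) Subobject.botCoeIsoZero) _ _) ≪≫ cokernelZeroIsoTarget).symm
  else
    (show IsZero (lim A pq) by rw [lim, if_neg h0]; exact isZero_zero C).iso (by
      rcases lt_or_gt_of_ne h0 with hp | hp
      · have he : fil A n (pq.1 + 1) = fil A n pq.1 := by rw [fil, fil, if_pos (by omega), if_pos (by omega)]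
        have : IsIso ((fil A n (pq.1 + 1)).ofLE (fil A n pq.1) (fil_anti A n (Int.le_add_one le_rfl))) :=
          Iso.isIso_hom (Subobject.isoOfEq _ _ he)
        exact isZero_cokernel_of_epi _
      · have hz : IsZero ((fil A n pq.1 : Subobject (A n)) : C) := by
          rw [fil, if_neg (by omega)]
          exact IsZero.of_iso (isZero_zero C) Subobject.botCoeIsoZero
        exact IsZero.of_iso hz (cokernelIsoOfEq (hz.eq_of_tgt _ (0 : _ ⟶ _)) ≪≫ cokernelZeroIsoTarget))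

/-- The abutment data. -/
noncomputable def abutment : SpSeq.Abutment (spSeq A G) A where
  fil := fil A
  anti := fil_anti A
  rk _ := 2
  stat pq := ⟨by omega, fun r' _ h => ⟨d_eq_zero A G (by omega) _ _, d_eq_zero A G (by omega) _ _⟩⟩
  β pq := XIso A G (r := 2) (by omega) pq ≪≫ grIso A _ pq rfl

lemma abutment_isFinite (n : ℤ) : (abutment A G).IsFinite n :=
  ⟨⟨0, show fil A n 0 = ⊤ from if_pos le_rfl⟩, ⟨1, show fil A n 1 = ⊥ from if_neg (by norm_num)⟩⟩

/-- A splitting off of the kernel of a retraction. -/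
noncomputable def splitIso {K M : C} (s : K ⟶ M) (ρ : M ⟶ K) (h : s ≫ ρ = 𝟙 K) : M ≅ K ⊞ kernel ρ where
  hom := biprod.lift ρ (kernel.lift ρ (𝟙 M - ρ ≫ s) (by simp [h]))
  inv := biprod.desc s (kernel.ι ρ)
  hom_inv_id := by simp [biprod.lift_desc]
  inv_hom_id := by
    refine biprod.hom_ext' _ _ (biprod.hom_ext _ _ (by simp [h]) ?_) (biprod.hom_ext _ _ (by simp) ?_)
    · rw [← cancel_mono (kernel.ι ρ)]; simp [reassoc_of% h]
    · rw [← cancel_mono (kernel.ι ρ)]; simp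

/-- A split monomorphism. -/
structure SplitMono' (K M : C) where
  s : K ⟶ M
  ρ : M ⟶ K
  sρ : s ≫ ρ = 𝟙 K

/-- A successive complement. -/
structure Sum (M : C) where
  K : C
  j : K ⟶ M
  r : M ⟶ K
  jr : j ≫ r = 𝟙 K

/-- The complement of a split monomorphism. -/
noncomputable def compl {K M : C} (s : K ⟶ M) (ρ : M ⟶ K) (h : s ≫ ρ = 𝟙 K) : Sum M :=
  ⟨kernel ρ, kernel.ι ρ, kernel.lift ρ (𝟙 M - ρ ≫ s) (by simp [h]), by
    rw [← cancel_mono (kernel.ι ρ)]; simp⟩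

theorem exists_spSeq_of_split_rows (A : ℤ → C) (hA : ∀ n < 0, IsZero (A n)) (M : ℕ → ℕ → C)
    (h₀ : ∀ q : ℕ, Nonempty (SplitMono' (A q) (M 0 q))) (h₁ : ∀ p q : ℕ, Nonempty (SplitMono' (M p q) (M (p + 1) q))) :
    ∃ (E : CohomologicalSpectralSequence C 1) (a : SpSeq.Abutment E A), (∀ n, a.IsFinite n) ∧ SpSeq.IsBounded E ∧
      ∀ p q : ℤ, ((0 ≤ p ∧ 0 ≤ q) → Nonempty ((E.page 1 le_rfl).X (p, q) ≅ M p.toNat q.toNat)) ∧
        (¬ (0 ≤ p ∧ 0 ≤ q) → IsZero ((E.page 1 le_rfl).X (p, q))) := by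
  classical
  let f₀ := fun q => (h₀ q).some
  let f₁ := fun p q => (h₁ p q).some
  let seq : ∀ q p : ℕ, Sum (M p q) := fun q p =>
    Nat.rec (motive := fun p => Sum (M p q)) (compl (f₀ q).s (f₀ q).ρ (f₀ q).sρ)
      (fun p S => compl (S.j ≫ (f₁ p q).s) ((f₁ p q).ρ ≫ S.r) (by
        rw [Category.assoc, reassoc_of% (f₁ p q).sρ, S.jr])) p
  let G : ℤ × ℤ → C := fun pq => if 0 ≤ pq.1 ∧ 0 ≤ pq.2 then (seq pq.2.toNat pq.1.toNat).K else 0
  have hG : ∀ p q : ℤ, ¬ (0 ≤ p ∧ 0 ≤ q) → IsZero (Gr G 1 (p, q)) := fun p q h => by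
    simp only [Gr, G, if_pos, if_neg h]; exact isZero_zero _
  have hG' : ∀ p q : ℕ, Gr G 1 ((p : ℤ), (q : ℤ)) = (seq q p).K := fun p q => by simp [Gr, G]
  have hsub : ∀ p q : ℤ, ((p, q) : ℤ × ℤ) - (1, 1 - 1) = (p - 1, q) := fun p q => by simp
  have hz : ∀ p q : ℤ, ¬ (0 ≤ p ∧ 0 ≤ q) → IsZero (X A G 1 (p, q)) := by
    intro p q h
    refine (biprod_isZero_iff _ _).2 ⟨?_, (biprod_isZero_iff _ _).2 ⟨?_, hG p q h⟩⟩
    · simp only [lim]
      split_ifs with h0
      · exact hA _ (by omega)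
      · exact isZero_zero _
    · rw [hsub]; exact hG _ _ (by omega)
  refine ⟨spSeq A G, abutment A G, abutment_isFinite A G, fun n => ?_, fun p q => ⟨fun h => ?_, hz p q⟩⟩
  · exact (Set.finite_Icc (0 : ℤ) n).subset fun p hp =>
      by_contra fun hp' => hp (hz p (n - p) (fun h => hp' ⟨h.1, by omega⟩))
  obtain ⟨hp, hq⟩ := h
  lift p to ℕ using hp
  lift q to ℕ using hq
  simp only [Int.toNat_natCast]
  change Nonempty (lim A ((p : ℤ), (q : ℤ)) ⊞ (Gr G 1 (((p : ℤ), (q : ℤ)) - (1, 1 - 1)) ⊞ Gr G 1 ((p : ℤ), (q : ℤ))) ≅ M p q)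
  rw [hsub, hG']
  cases p with
  | zero =>
    have hz' : IsZero (Gr G 1 (((0 : ℕ) : ℤ) - 1, (q : ℤ))) := hG _ _ (by omega)
    exact ⟨biprod.mapIso (eqToIso (by simp [lim])) (isoZeroBiprod hz').symm ≪≫
      (splitIso (f₀ q).s (f₀ q).ρ (f₀ q).sρ).symm⟩
  | succ p =>
    have hl : IsZero (lim A (((p + 1 : ℕ) : ℤ), (q : ℤ))) := by
      rw [lim, if_neg (by simp; omega)]; exact isZero_zero _
    rw [show (((p + 1 : ℕ) : ℤ) - 1) = (p : ℤ) by push_cast; ring, hG']
    exact ⟨(isoZeroBiprod hl).symm ≪≫ (splitIso ((seq q p).j ≫ (f₁ p q).s) ((f₁ p q).ρ ≫ (seq q p).r) (by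
      rw [Category.assoc, reassoc_of% (f₁ p q).sρ, (seq q p).jr])).symm⟩

end Groth.Agent.Calg8.DegenerateSS
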