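import Mathlib

/-!
Effaceability of `Ext` in an abelian category.
-/

universe w v u

open CategoryTheory Limits DerivedCategory

namespace Groth.Calg8.ExtEff

variable {A : Type u} [Category.{v} A] [Abelian A] [HasExt.{w} A]

/-- A class of positive degree is killed by some epimorphism to its source. -/
theorem exists_epi_comp_eq_zero {B C : A} {n : ℕ} (hn : n ≠ 0) (x : Abelian.Ext B C n) :
    ∃ (B' : A) (π : B' ⟶ B), Epi π ∧ (Abelian.Ext.mk₀ π).comp x (zero_add n) = 0 := by
  let := HasDerivedCategory.standard A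
  let sing := fun X : A => (CochainComplex.singleFunctor A 0).obj X
  let f : Q.obj (sing B) ⟶ Q.obj ((sing C)⟦(n : ℤ)⟧) :=
    x.hom ≫ (Q.commShiftIso (n : ℤ)).inv.app (sing C)
  obtain ⟨X', hX', s, hs, g, hf⟩ := right_fac_of_isStrictlyLE f 0
  let π : X'.X 0 ⟶ B := s.f 0 ≫ (HomologicalComplex.singleObjXSelf (ComplexShape.up ℤ) 0 B).hom
  have hz : ∀ i, (ComplexShape.up ℤ).Rel 0 i → (𝟙 (X'.X 0)) ≫ X'.d 0 i = 0 := fun i hi =>
    (X'.isZero_of_isStrictlyLE 0 i (by simp at hi; omega)).eq_of_tgt _ _
  let u : sing (X'.X 0) ⟶ X' := HomologicalComplex.mkHomFromSingle (𝟙 _) hz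
  have hus : u ≫ s = (CochainComplex.singleFunctor A 0).map π := by
    refine HomologicalComplex.from_single_hom_ext ?_
    simp [u, π, CochainComplex.singleFunctor, CochainComplex.singleFunctors, -Functor.map_comp, HomologicalComplex.single_map_f_self]
    exact congrArg _ ((congrArg (s.f 0 ≫ ·) (Iso.hom_inv_id _)).trans (Category.comp_id _)).symm
  have hug : u ≫ g = 0 := by
    refine HomologicalComplex.from_single_hom_ext ?_
    exact (HomologicalComplex.isZero_single_obj_X (ComplexShape.up ℤ) 0 C (0 + (n : ℤ)) (by omega)).eq_of_tgt _ _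
  refine ⟨X'.X 0, π, ⟨fun {Z} a b hab => ?_⟩, Abelian.Ext.ext ?_⟩
  · have h : s ≫ (CochainComplex.singleFunctor A 0).map (a - b) = 0 := by
      refine HomologicalComplex.to_single_hom_ext ?_
      have : π ≫ (a - b) = 0 := by rw [Preadditive.comp_sub, hab, sub_self]
      generalize a - b = q at this ⊢
      simp only [π, Category.assoc] at this
      simp [CochainComplex.singleFunctor, CochainComplex.singleFunctors, HomologicalComplex.single_map_f_self]
      have h3 := congrArg (· ≫ (HomologicalComplex.singleObjXSelf (ComplexShape.up ℤ) 0 Z).inv) this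
      simp only [Category.assoc, zero_comp] at h3
      exact h3
    have h' : (singleFunctor A 0).map (a - b) = 0 := by
      refine (cancel_epi (Q.map s)).1 ?_
      exact (((Q.map_comp _ _).symm.trans (congrArg Q.map h)).trans (Q.map_zero _ _)).trans comp_zero.symm
    exact sub_eq_zero.1 ((singleFunctor A 0).map_injective (h'.trans ((singleFunctor A 0).map_zero _ _).symm))
  · rw [Abelian.Ext.comp_hom, Abelian.Ext.mk₀_hom, ShiftedHom.mk₀_comp, Abelian.Ext.zero_hom]
    have h1 : Q.map ((CochainComplex.singleFunctor A 0).map π) ≫ f = 0 := by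
      rw [hf, ← hus, Q.map_comp, Category.assoc, IsIso.hom_inv_id_assoc, ← Q.map_comp, hug, Q.map_zero]
    refine (cancel_mono ((Q.commShiftIso (n : ℤ)).inv.app (sing C))).1 ?_
    exact ((Category.assoc _ _ _).trans h1).trans zero_comp.symm

/-- Classes of degree `p + 1` are Yoneda products of classes of degrees `1` and `p`. -/
theorem exists_extClass_comp {B C : A} {p : ℕ} (x : Abelian.Ext B C (1 + p)) :
    ∃ (S : ShortComplex A) (hS : S.ShortExact) (e : B ≅ S.X₃) (y : Abelian.Ext S.X₁ C p),
      (Abelian.Ext.mk₀ e.hom).comp (hS.extClass.comp y rfl) (zero_add _) = x := by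
  obtain ⟨B', π, hπ, hx⟩ := exists_epi_comp_eq_zero (by omega) x
  let S := ShortComplex.mk (kernel.ι π) π (kernel.condition π)
  have hS : S.ShortExact := ⟨S.exact_of_f_is_kernel (kernelIsKernel π)⟩
  obtain ⟨y, hy⟩ := Abelian.Ext.contravariant_sequence_exact₃ hS C x hx rfl
  exact ⟨S, hS, Iso.refl _, y, by rw [Iso.refl_hom, Abelian.Ext.mk₀_id_comp, hy]⟩

theorem eq_zero_of_le (p : ℕ) (h : ∀ (B C : A) (x : Abelian.Ext B C p), x = 0) :
    ∀ (i : ℕ), p ≤ i → ∀ (B C : A) (x : Abelian.Ext B C i), x = 0 := by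
  intro i hi
  induction i, hi using Nat.le_induction with
  | base => exact h
  | succ i hi ih =>
    intro B C x
    obtain ⟨j, hj⟩ : ∃ j, i + 1 = 1 + j := ⟨i, by omega⟩
    obtain rfl : j = i := by omega
    generalize hk : j + 1 = k at x
    obtain rfl : k = 1 + j := by omega
    obtain ⟨S, hS, e, y, rfl⟩ := exists_extClass_comp x
    rw [ih _ _ y, Abelian.Ext.comp_zero, Abelian.Ext.comp_zero]

end Groth.Calg8.ExtEff
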