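import Groth.Agent.Calg8.HilbertBurchNoeth
import Mathlib

/-!
A finite free resolution of an ideal over a Noetherian ring, localised at associated primes: it is split
exact, so the ranks over residue fields depend only on the lengths, and the ideal contains a nonzerodivisor
or vanishes.
-/

universe u v

namespace Groth.Calg8

variable {R : Type u} [CommRing R]

/-- Exactness at the middle of two composable matrices survives localisation. -/
theorem exists_mulVec_map_eq {S : Type u} [CommRing S] [Algebra R S] (M : Submonoid R) [IsLocalization M S]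
    {p q r : ℕ} (A : Matrix (Fin p) (Fin q) R) (B : Matrix (Fin q) (Fin r) R)
    (h : ∀ z, A.mulVec z = 0 → ∃ w, B.mulVec w = z) (z : Fin q → S)
    (hz : (A.map (algebraMap R S)).mulVec z = 0) : ∃ w, (B.map (algebraMap R S)).mulVec w = z := by
  classical
  obtain ⟨b, hb⟩ := IsLocalization.exist_integer_multiples_of_finite M z
  choose z₀ hz₀ using hb
  have hz₀' : (algebraMap R S ∘ z₀) = (algebraMap R S (b : R)) • z := funext fun j => by
    rw [Function.comp_apply, hz₀ j, Algebra.smul_def]; rfl
  have h1 : ∀ i, algebraMap R S (A.mulVec z₀ i) = 0 := fun i => by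
    rw [RingHom.map_mulVec, hz₀', Matrix.mulVec_smul, hz, smul_zero]
    rfl
  choose c hc using fun i => (IsLocalization.map_eq_zero_iff M S (A.mulVec z₀ i)).1 (h1 i)
  let C : R := ∏ i, (c i : R)
  have h2 : A.mulVec (C • z₀) = 0 := by
    rw [Matrix.mulVec_smul]
    funext i
    rw [Pi.smul_apply, smul_eq_mul, Pi.zero_apply,
      show C = (∏ l ∈ Finset.univ.erase i, (c l : R)) * c i from (Finset.prod_erase_mul _ _ (Finset.mem_univ i)).symm,
      mul_assoc, hc i, mul_zero]
  obtain ⟨w, hw⟩ := h _ h2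
  have hu : IsUnit (algebraMap R S (C * b)) := by
    rw [map_mul, map_prod]
    exact (IsUnit.prod_iff.2 fun i _ => IsLocalization.map_units S (c i)).mul (IsLocalization.map_units S b)
  obtain ⟨u, hu⟩ := hu
  refine ⟨(↑u⁻¹ : S) • (algebraMap R S ∘ w), ?_⟩
  rw [Matrix.mulVec_smul]
  have h3 : (B.map (algebraMap R S)).mulVec (algebraMap R S ∘ w) = (u : S) • z := by
    funext i
    rw [← RingHom.map_mulVec, hw, hu, map_mul, Pi.smul_apply, Pi.smul_apply, smul_eq_mul, smul_eq_mul, map_mul,
      show algebraMap R S (z₀ i) = _ from congrFun hz₀' i, Pi.smul_apply, smul_eq_mul, mul_assoc]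
  rw [h3, smul_smul, Units.inv_mul, one_smul]

/-- One step of a contracting homotopy. -/
theorem exists_homotopy_step {S : Type u} [CommRing S] (hP : ∀ I : Ideal S, I.FG → I ≠ ⊤ → I.annihilator ≠ ⊥)
    {p q r : ℕ} (A : Matrix (Fin p) (Fin q) S) (B : Matrix (Fin q) (Fin r) S) (G : Matrix (Fin r) (Fin q) S)
    (hG : B * G * B = B) (hexact : ∀ z, A.mulVec z = 0 → ∃ w, B.mulVec w = z) (hAB : A * B = 0) :
    ∃ L : Matrix (Fin q) (Fin p) S, L * A + B * G = 1 ∧ A * L * A = A := by
  classical
  obtain ⟨ρ, hρ⟩ := Groth.Agent.S9284.exists_leftInverse S hP q _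
    ((A.mulVecLin).prod (B * G).mulVecLin) (by
      rw [injective_iff_map_eq_zero]
      intro z hz
      obtain ⟨w, rfl⟩ := hexact z (congrArg Prod.fst hz)
      have := congrArg Prod.snd hz
      simp only [LinearMap.prod_apply, Function.prod, Matrix.mulVecLin_apply, Matrix.mulVec_mulVec, Prod.snd_zero] at this
      rwa [hG] at this)
  let L := LinearMap.toMatrix' (ρ ∘ₗ LinearMap.inl S _ _)
  let L₂ := LinearMap.toMatrix' (ρ ∘ₗ LinearMap.inr S _ _)
  have h1 : L * A + L₂ * (B * G) = 1 := by
    apply Matrix.toLin'.injective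
    rw [map_add, Matrix.toLin'_mul, Matrix.toLin'_mul, Matrix.toLin'_toMatrix', Matrix.toLin'_toMatrix',
      Matrix.toLin'_one]
    refine LinearMap.ext fun z => ?_
    simpa [← map_add] using LinearMap.congr_fun hρ z
  have h2 : L * A = L * A * (1 - B * G) := by
    rw [mul_sub, mul_one, ← Matrix.mul_assoc, Matrix.mul_assoc L A B, hAB, Matrix.mul_zero, Matrix.zero_mul, sub_zero]
  have hBG : B * G * (B * G) = B * G := by rw [← Matrix.mul_assoc, hG]
  have h3 : L * A + B * G = 1 := by
    calc L * A + B * G = (L * A + L₂ * (B * G)) * (1 - B * G) + B * G := by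
          rw [add_mul, ← h2, Matrix.mul_assoc L₂, mul_sub, mul_one, hBG, sub_self, mul_zero, add_zero]
      _ = 1 := by rw [h1, one_mul, sub_add_cancel]
  refine ⟨L, h3, ?_⟩
  calc A * L * A = A * (L * A) + A * (B * G) := by
        rw [← Matrix.mul_assoc A B, hAB, Matrix.zero_mul, add_zero, Matrix.mul_assoc]
    _ = A := by rw [← Matrix.mul_add, h3, Matrix.mul_one]

/-- The last step of a contracting homotopy. -/
theorem exists_leftInverse_matrix {S : Type u} [CommRing S] (hP : ∀ I : Ideal S, I.FG → I ≠ ⊤ → I.annihilator ≠ ⊥)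
    {p q : ℕ} (A : Matrix (Fin p) (Fin q) S) (hA : ∀ z, A.mulVec z = 0 → z = 0) :
    ∃ L : Matrix (Fin q) (Fin p) S, L * A = 1 := by
  classical
  obtain ⟨ρ, hρ⟩ := Groth.Agent.S9284.exists_leftInverse S hP q _ (Matrix.toLin' A) (by
    rw [injective_iff_map_eq_zero]
    exact fun z hz => hA z hz)
  refine ⟨LinearMap.toMatrix' ρ, ?_⟩
  have := congrArg LinearMap.toMatrix' hρ
  rwa [LinearMap.toMatrix'_comp, LinearMap.toMatrix'_toLin', LinearMap.toMatrix'_id] at this

/-- A complex of matrices that is exact, with injective last map. -/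
structure IsFreeResolutionChain (S : Type u) [CommRing S] (e : ℕ) (n : ℕ → ℕ)
    (B : (i : ℕ) → Matrix (Fin (n i)) (Fin (n (i + 1))) S) : Prop where
  exact : ∀ i < e, ∀ z, (B i).mulVec z = 0 → ∃ w, (B (i + 1)).mulVec w = z
  comp : ∀ i < e, B i * B (i + 1) = 0
  inj : ∀ z, (B e).mulVec z = 0 → z = 0

variable {e : ℕ} {n : ℕ → ℕ} {B : (i : ℕ) → Matrix (Fin (n i)) (Fin (n (i + 1))) R}

theorem IsFreeResolutionChain.map (h : IsFreeResolutionChain R e n B) {S : Type u} [CommRing S] [Algebra R S]
    (M : Submonoid R) [IsLocalization M S] :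
    IsFreeResolutionChain S e n fun i => (B i).map (algebraMap R S) where
  exact i hi := exists_mulVec_map_eq M (B i) (B (i + 1)) (h.exact i hi)
  comp i hi := by rw [← Matrix.map_mul, h.comp i hi, Matrix.map_zero _ (map_zero _)]
  inj := mulVec_map_injective M (B e) h.inj

theorem IsFreeResolutionChain.exists_homotopy {S : Type u} [CommRing S]
    (hP : ∀ I : Ideal S, I.FG → I ≠ ⊤ → I.annihilator ≠ ⊥)
    {B : (i : ℕ) → Matrix (Fin (n i)) (Fin (n (i + 1))) S} (h : IsFreeResolutionChain S e n B) :
    ∀ i ≤ e, ∃ G : Matrix (Fin (n (i + 1))) (Fin (n i)) S, B i * G * B i = B i ∧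
      (i = e → G * B i = 1) ∧
      (i < e → ∃ G' : Matrix (Fin (n (i + 2))) (Fin (n (i + 1))) S, G * B i + B (i + 1) * G' = 1) := by
  intro i hi
  induction hi using Nat.decreasingInduction with
  | self =>
    obtain ⟨L, hL⟩ := exists_leftInverse_matrix hP (B e) h.inj
    exact ⟨L, by rw [Matrix.mul_assoc, hL, Matrix.mul_one], fun _ => hL, fun h => absurd h (lt_irrefl e)⟩
  | of_succ k hk ih =>
    obtain ⟨G, hG, -, -⟩ := ih
    obtain ⟨L, hL, hL'⟩ := exists_homotopy_step hP (B k) (B (k + 1)) G hG (h.exact k hk) (h.comp k hk)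
    exact ⟨L, hL', fun h => absurd h hk.ne, fun _ => ⟨G, hL⟩⟩

/-- The ranks over a residue field are determined by the sizes of the matrices. -/
theorem IsFreeResolutionChain.rank_eq {S : Type u} [CommRing S]
    (hP : ∀ I : Ideal S, I.FG → I ≠ ⊤ → I.annihilator ≠ ⊥)
    {B : (i : ℕ) → Matrix (Fin (n i)) (Fin (n (i + 1))) S} (h : IsFreeResolutionChain S e n B)
    {κ : Type v} [Field κ] (f : S →+* κ) :
    (∀ i < e, ((B i).map f).rank + ((B (i + 1)).map f).rank = n (i + 1)) ∧
      ((B e).map f).rank = n (e + 1) := by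
  constructor
  · intro i hi
    obtain ⟨G, -, -, hG'⟩ := h.exists_homotopy hP i hi.le
    obtain ⟨G', hid⟩ := hG' hi
    have hker : LinearMap.ker ((B i).map f).mulVecLin = LinearMap.range ((B (i + 1)).map f).mulVecLin := by
      refine le_antisymm (fun z hz => ?_) ?_
      · refine ⟨(G'.map f).mulVec z, ?_⟩
        rw [LinearMap.mem_ker, Matrix.mulVecLin_apply] at hz
        rw [Matrix.mulVecLin_apply, Matrix.mulVec_mulVec, ← Matrix.map_mul,
          show B (i + 1) * G' = 1 - G * B i from eq_sub_of_add_eq' hid, Matrix.map_sub _ (map_sub f),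
          Matrix.map_one _ (map_zero f) (map_one f), Matrix.sub_mulVec, Matrix.one_mulVec, Matrix.map_mul,
          ← Matrix.mulVec_mulVec, hz, Matrix.mulVec_zero, sub_zero]
      · rintro _ ⟨w, rfl⟩
        rw [LinearMap.mem_ker, Matrix.mulVecLin_apply, Matrix.mulVecLin_apply, Matrix.mulVec_mulVec,
          ← Matrix.map_mul, h.comp i hi, Matrix.map_zero _ (map_zero f), Matrix.zero_mulVec]
    have := LinearMap.finrank_range_add_finrank_ker ((B i).map f).mulVecLin
    rwa [hker, Module.finrank_fin_fun] at this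
  · obtain ⟨G, -, hG, -⟩ := h.exists_homotopy hP e le_rfl
    have := LinearMap.finrank_range_add_finrank_ker ((B e).map f).mulVecLin
    rw [show LinearMap.ker ((B e).map f).mulVecLin = ⊥ from ?_, finrank_bot, add_zero, Module.finrank_fin_fun] at this
    · exact this
    rw [LinearMap.ker_eq_bot']
    intro z hz
    have := congrArg (G.map f).mulVec hz
    rwa [Matrix.mulVecLin_apply, Matrix.mulVec_mulVec, ← Matrix.map_mul, hG rfl,
      Matrix.map_one _ (map_zero f) (map_one f), Matrix.one_mulVec, Matrix.mulVec_zero] at this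

/-- The rank of the first matrix at two associated primes is the same. -/
theorem IsFreeResolutionChain.rank_eq_rank {S S' : Type u} [CommRing S] [CommRing S']
    (hP : ∀ I : Ideal S, I.FG → I ≠ ⊤ → I.annihilator ≠ ⊥)
    (hP' : ∀ I : Ideal S', I.FG → I ≠ ⊤ → I.annihilator ≠ ⊥)
    {B : (i : ℕ) → Matrix (Fin (n i)) (Fin (n (i + 1))) S} (h : IsFreeResolutionChain S e n B)
    {B' : (i : ℕ) → Matrix (Fin (n i)) (Fin (n (i + 1))) S'} (h' : IsFreeResolutionChain S' e n B')
    {κ κ' : Type v} [Field κ] [Field κ'] (f : S →+* κ) (f' : S' →+* κ') :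
    ∀ i ≤ e, ((B i).map f).rank = ((B' i).map f').rank := by
  obtain ⟨h1, h2⟩ := h.rank_eq hP f
  obtain ⟨h1', h2'⟩ := h'.rank_eq hP' f'
  intro i hi
  induction hi using Nat.decreasingInduction with
  | self => rw [h2, h2']
  | of_succ k hk ih =>
    have := h1 k hk
    have := h1' k hk
    omega

/-- The first matrix of a resolution, if it is a row, vanishes or generates an ideal with a nonzerodivisor. -/
theorem IsFreeResolutionChain.exists_nonZeroDivisor [IsNoetherianRing R] (h : IsFreeResolutionChain R e n B)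
    (h0 : n 0 = 1) (hne : B 0 ≠ 0) :
    ∃ d ∈ Ideal.span (Set.range fun j => B 0 (Fin.cast h0.symm 0) j), d ∈ nonZeroDivisors R := by
  classical
  have hsub : ∀ i j, B 0 i j = B 0 (Fin.cast h0.symm 0) j := fun i j => by
    congr 1
    ext
    simp only [Fin.val_cast]
    omega
  refine exists_mem_nonZeroDivisors _ fun P hP hle => hne ?_
  have := IsAssociatedPrime.isPrime hP
  have hPmem : ∀ i j, B 0 i j ∈ P := fun i j => hle (hsub i j ▸ Ideal.subset_span ⟨j, rfl⟩)
  by_contra hne'
  obtain ⟨i, j, hij⟩ : ∃ i j, B 0 i j ≠ 0 := by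
    by_contra! hc
    exact hne' (Matrix.ext hc)
  obtain ⟨Q, hQ, hQle⟩ := exists_le_isAssociatedPrime_of_isNoetherianRing R (B 0 i j) hij
  have := hQ.isPrime
  have hnzQ : algebraMap R (Localization.AtPrime Q) (B 0 i j) ≠ 0 := fun hh => by
    obtain ⟨⟨c, hc⟩, hcx⟩ := (IsLocalization.map_eq_zero_iff Q.primeCompl _ _).1 hh
    exact hc (hQle (by
      rw [Submodule.mem_colon_singleton, Submodule.mem_bot, smul_eq_mul]
      exact hcx))
  have hP₁ := annihilator_ne_bot_atPrime P hP
  have hQ₁ := annihilator_ne_bot_atPrime Q hQ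
  have hPc := h.map (S := Localization.AtPrime P) P.primeCompl
  have hQc := h.map (S := Localization.AtPrime Q) Q.primeCompl
  have hrank := hPc.rank_eq_rank hP₁ hQ₁ hQc (IsLocalRing.residue _) (IsLocalRing.residue _) 0 (Nat.zero_le _)
  have hzero : (((B 0).map (algebraMap R (Localization.AtPrime P))).map (IsLocalRing.residue _)) = 0 := by
    ext a b
    rw [Matrix.map_apply, Matrix.map_apply, Matrix.zero_apply, IsLocalRing.residue_eq_zero_iff,
      ← Localization.AtPrime.map_eq_maximalIdeal]
    exact Ideal.mem_map_of_mem _ (hPmem a b)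
  rw [hzero, Matrix.rank_zero, eq_comm] at hrank
  obtain ⟨G, hG, -, -⟩ := hQc.exists_homotopy hQ₁ 0 (Nat.zero_le _)
  set A := (B 0).map (algebraMap R (Localization.AtPrime Q))
  have hA : ∀ a b, A a b ∈ IsLocalRing.maximalIdeal _ := fun a b => by
    rw [← IsLocalRing.residue_eq_zero_iff]
    have h0' : A.map (IsLocalRing.residue _) = 0 := by
      rw [← Matrix.toLin'.map_eq_zero_iff, ← LinearMap.range_eq_bot, ← Submodule.finrank_eq_zero (R := IsLocalRing.ResidueField _)]
      exact hrank
    exact congrFun (congrFun h0' a) b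
  have hone : ∀ a b : Fin (n 0), a = b := fun a b => Fin.ext (by omega)
  have h1 : A i j * (1 - (A * G) i i) = 0 := by
    have h2 := congrFun (congrFun hG i) j
    rw [Matrix.mul_apply, Finset.sum_eq_single i (fun b _ hb => absurd (hone b i) hb)
      (fun hb => absurd (Finset.mem_univ i) hb)] at h2
    linear_combination -h2
  have h2 : IsUnit (1 - (A * G) i i) := IsLocalRing.isUnit_one_sub_self_of_mem_nonunits _ (by
    rw [Matrix.mul_apply]
    exact sum_mem fun c _ => Ideal.mul_mem_right _ _ (hA i c))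
  exact hnzQ (h2.mul_left_eq_zero.1 h1)

end Groth.Calg8
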