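import Mathlib

/-!
The fixed locus of a finite group of order invertible in the residue field, at a rational fixed point.
-/

universe u v w

namespace Groth.Calg8.FixedLocus

open IsLocalRing

variable {k : Type u} [Field k] {A : Type v} [CommRing A] [Algebra k A] [IsLocalRing A]

/-- An ideal `I ⊆ M` with `I ∩ M² ⊆ M I` is generated by elements with independent classes modulo `M²`. -/
theorem exists_indep_generators [IsNoetherianRing A] (I : Ideal A) (hI : I ≤ maximalIdeal A)
    (hsq : I ⊓ maximalIdeal A ^ 2 ≤ maximalIdeal A * I) :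
    ∃ (m : ℕ) (f : Fin m → maximalIdeal A),
      Ideal.span (Set.range fun i => (f i : A)) = I ∧
      LinearIndependent (ResidueField A) (fun i => (maximalIdeal A).toCotangent (f i)) ∧
      ∀ c : Fin m → A, ∑ i, c i * (f i : A) ∈ maximalIdeal A ^ 2 → ∀ i, c i ∈ maximalIdeal A := by
  classical
  let S : Set (CotangentSpace A) := (maximalIdeal A).toCotangent '' {x | (x : A) ∈ I}
  obtain ⟨b, hbS, hbspan, hbli⟩ := exists_linearIndependent (ResidueField A) S
  have hbfin : b.Finite := hbli.setFinite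
  have : Fintype b := hbfin.fintype
  choose y hy hyb using fun z : b => hbS z.2
  let e := (Fintype.equivFin b).symm
  let f : Fin (Fintype.card b) → maximalIdeal A := fun i => y (e i)
  have hfI : ∀ i, (f i : A) ∈ I := fun i => hy (e i)
  have hf : ∀ i, (maximalIdeal A).toCotangent (f i) = (e i : CotangentSpace A) := fun i => hyb (e i)
  have hli : LinearIndependent (ResidueField A) (fun i => (maximalIdeal A).toCotangent (f i)) := by
    simp only [hf]
    exact hbli.comp e e.injective
  have hcot : ∀ c : Fin (Fintype.card b) → A, (maximalIdeal A).toCotangent (∑ i, c i • f i) =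
      ∑ i, residue A (c i) • ((maximalIdeal A).toCotangent (f i) : CotangentSpace A) := fun c => by
    rw [map_sum]
    refine Finset.sum_congr rfl fun i _ => ?_
    rw [map_smul, ← ResidueField.algebraMap_eq, algebraMap_smul]
  refine ⟨_, f, le_antisymm (Ideal.span_le.2 (Set.range_subset_iff.2 hfI)) ?_, hli, fun c hc i => ?_⟩
  · refine Submodule.le_of_le_smul_of_le_jacobson_bot (IsNoetherian.noetherian I)
      (by rw [jacobson_eq_maximalIdeal ⊥ bot_ne_top]) fun x hx => ?_
    have hxS : ((maximalIdeal A).toCotangent ⟨x, hI hx⟩ : CotangentSpace A) ∈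
        Submodule.span (ResidueField A) (Set.range fun i => ((maximalIdeal A).toCotangent (f i) : CotangentSpace A)) := by
      simp only [hf, show (fun i => (e i : CotangentSpace A)) = Subtype.val ∘ e from rfl,
        e.surjective.range_comp, Subtype.range_coe, hbspan]
      exact Submodule.subset_span ⟨⟨x, hI hx⟩, hx, rfl⟩
    obtain ⟨d, hd⟩ := (Submodule.mem_span_range_iff_exists_fun _).1 hxS
    choose c hc using fun i => residue_surjective (d i)
    have hsumI : ∑ i, c i * (f i : A) ∈ Ideal.span (Set.range fun i => (f i : A)) :=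
      sum_mem fun i _ => Ideal.mul_mem_left _ _ (Ideal.subset_span ⟨i, rfl⟩)
    have hdiff : x - ∑ i, c i * (f i : A) ∈ maximalIdeal A ^ 2 := by
      have h0 : (maximalIdeal A).toCotangent (⟨x, hI hx⟩ - ∑ i, c i • f i) = 0 := by
        rw [map_sub, hcot, sub_eq_zero]
        simp only [hc]
        exact hd.symm
      rw [Ideal.toCotangent_eq_zero] at h0
      simpa using h0
    have hmem : x - ∑ i, c i * (f i : A) ∈ I :=
      sub_mem hx ((Ideal.span_le.2 (Set.range_subset_iff.2 hfI)) hsumI)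
    rw [show x = ∑ i, c i * (f i : A) + (x - ∑ i, c i * (f i : A)) by ring]
    exact Submodule.add_mem_sup hsumI (hsq ⟨hmem, hdiff⟩)
  · have h0 : (maximalIdeal A).toCotangent (∑ i, c i • f i) = 0 := by
      rw [Ideal.toCotangent_eq_zero]
      simpa using hc
    rw [hcot] at h0
    rw [← residue_eq_zero_iff]
    exact Fintype.linearIndependent_iff.1 hli _ h0 i

variable {G : Type w} [Group G] [Fintype G] (ρ : G →* (A ≃ₐ[k] A))

/-- The ideal of the fixed locus. -/
def fixIdeal : Ideal A := Ideal.span {x | ∃ (g : G) (a : A), x = ρ g a - a}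

omit [Fintype G] in
theorem apply_mem_maximalIdeal (g : G) {x : A} (hx : x ∈ maximalIdeal A) : ρ g x ∈ maximalIdeal A := by
  rw [mem_maximalIdeal, mem_nonunits_iff] at hx ⊢
  exact fun h => hx (by simpa using h.map (ρ g).symm)

variable (hres : Function.Surjective (algebraMap k (ResidueField A)))
include hres

theorem exists_sub_mem (a : A) : ∃ c : k, a - algebraMap k A c ∈ maximalIdeal A := by
  obtain ⟨c, hc⟩ := hres (residue A a)
  exact ⟨c, by rw [← residue_eq_zero_iff, map_sub, ← hc, IsScalarTower.algebraMap_apply k A (ResidueField A), ResidueField.algebraMap_eq, sub_self]⟩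

omit [Fintype G] in
theorem fixIdeal_le : fixIdeal ρ ≤ maximalIdeal A := by
  rw [fixIdeal, Ideal.span_le]
  rintro _ ⟨g, a, rfl⟩
  obtain ⟨c, hc⟩ := exists_sub_mem hres a
  have : ρ g a - a = ρ g (a - algebraMap k A c) - (a - algebraMap k A c) := by rw [map_sub, AlgEquiv.commutes]; ring
  rw [SetLike.mem_coe, this]
  exact sub_mem (apply_mem_maximalIdeal ρ g hc) hc

theorem fixIdeal_inf_sq_le (hG : (Fintype.card G : k) ≠ 0) :
    fixIdeal ρ ⊓ maximalIdeal A ^ 2 ≤ maximalIdeal A * fixIdeal ρ := by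
  classical
  let T : A →ₗ[k] A := ∑ g : G, (ρ g).toLinearMap
  have hT : ∀ a, T a = ∑ g : G, ρ g a := fun a => by simp [T]
  have hTsub : ∀ (g : G) (a : A), T (ρ g a - a) = 0 := fun g a => by
    rw [map_sub, hT, hT, sub_eq_zero]
    exact Fintype.sum_bijective (· * g) (Group.mulRight_bijective g) _ _ fun h => by rw [map_mul]; rfl
  set Φ : Submodule k A := Submodule.span k {x | ∃ (g : G) (a : A), x = ρ g a - a}
  have hTΦ : ∀ φ ∈ Φ, T φ = 0 := fun φ hφ => by
    refine Submodule.span_induction ?_ (map_zero T) (fun a b _ _ ha hb => by rw [map_add, ha, hb, add_zero])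
      (fun c a _ ha => by rw [map_smul, ha, smul_zero]) hφ
    rintro _ ⟨g, a, rfl⟩
    exact hTsub g a
  have hdecomp : ∀ t ∈ fixIdeal ρ, ∃ φ ∈ Φ, t - φ ∈ maximalIdeal A * fixIdeal ρ := by
    intro t ht
    refine Submodule.span_induction ?_ ⟨0, zero_mem _, by simp⟩ ?_ ?_ ht
    · intro x hx
      exact ⟨x, Submodule.subset_span hx, by simp⟩
    · rintro a b - - ⟨φ, hφ, ha⟩ ⟨ψ, hψ, hb⟩
      exact ⟨φ + ψ, add_mem hφ hψ, by rw [add_sub_add_comm]; exact add_mem ha hb⟩
    · rintro r a ha' ⟨φ, hφ, ha⟩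
      obtain ⟨c, hc⟩ := exists_sub_mem hres r
      refine ⟨c • φ, Φ.smul_mem c hφ, ?_⟩
      rw [show r • a - c • φ = (r - algebraMap k A c) * a + algebraMap k A c * (a - φ) by
        rw [smul_eq_mul, Algebra.smul_def]; ring]
      exact add_mem (Ideal.mul_mem_mul hc ha') (Ideal.mul_mem_left _ _ ha)
  have hsq : ∀ (g : G), ∀ φ ∈ maximalIdeal A ^ 2, φ - ρ g φ ∈ maximalIdeal A * fixIdeal ρ := by
    intro g φ hφ
    have hgen : ∀ a, a - ρ g a ∈ fixIdeal ρ := fun a => by
      rw [← neg_sub]
      exact neg_mem (Ideal.subset_span ⟨g, a, rfl⟩)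
    rw [pow_two] at hφ
    refine Submodule.mul_induction_on hφ (fun u hu v hv => ?_) (fun a b ha hb => ?_)
    · rw [show u * v - ρ g (u * v) = v * (u - ρ g u) + ρ g u * (v - ρ g v) by rw [map_mul]; ring]
      exact add_mem (Ideal.mul_mem_mul hv (hgen u)) (Ideal.mul_mem_mul (apply_mem_maximalIdeal ρ g hu) (hgen v))
    · rw [map_add, add_sub_add_comm]
      exact add_mem ha hb
  rintro t ⟨htI, htM⟩
  obtain ⟨φ, hφ, htφ⟩ := hdecomp t htI
  have hφM : φ ∈ maximalIdeal A ^ 2 := by
    have h : maximalIdeal A * fixIdeal ρ ≤ maximalIdeal A ^ 2 := by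
      rw [pow_two]
      exact Ideal.mul_mono le_rfl (fixIdeal_le ρ hres)
    have := sub_mem htM (h htφ)
    rwa [sub_sub_cancel] at this
  have hN : (Fintype.card G : k) • φ = ∑ g : G, (φ - ρ g φ) := by
    rw [Finset.sum_sub_distrib, ← hT, hTΦ φ hφ, sub_zero, Finset.sum_const, Finset.card_univ, Nat.cast_smul_eq_nsmul]
  have hφ' : φ ∈ maximalIdeal A * fixIdeal ρ := by
    rw [show φ = ((Fintype.card G : k)⁻¹) • ∑ g : G, (φ - ρ g φ) by rw [← hN, inv_smul_smul₀ hG], Algebra.smul_def]
    exact Ideal.mul_mem_left _ _ (sum_mem fun g _ => hsq g φ hφM)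
  have := add_mem htφ hφ'
  rwa [sub_add_cancel] at this

/-- The fixed locus is cut out by elements with independent classes modulo `M²`. -/
theorem exists_generators [IsNoetherianRing A] (hG : (Fintype.card G : k) ≠ 0) :
    ∃ (m : ℕ) (f : Fin m → maximalIdeal A),
      Ideal.span (Set.range fun i => (f i : A)) = fixIdeal ρ ∧
      LinearIndependent (ResidueField A) (fun i => (maximalIdeal A).toCotangent (f i)) ∧
      ∀ c : Fin m → A, ∑ i, c i * (f i : A) ∈ maximalIdeal A ^ 2 → ∀ i, c i ∈ maximalIdeal A :=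
  exists_indep_generators _ (fixIdeal_le ρ hres) (fixIdeal_inf_sq_le ρ hres hG)

omit ρ in
/-- An automorphism of finite order invertible in `k`, trivial modulo `M²`, is trivial. -/
theorem eq_self_of_trivial_on_cotangent [IsNoetherianRing A] (e : A ≃ₐ[k] A) (n : ℕ) (hn : (n : k) ≠ 0)
    (he : e ^ n = 1) (htriv : ∀ a ∈ maximalIdeal A, e a - a ∈ maximalIdeal A ^ 2) (a : A) : e a = a := by
  classical
  have hpos : 0 < n := Nat.pos_of_ne_zero fun h => hn (by simp [h])
  have hfin : IsOfFinOrder e := isOfFinOrder_iff_pow_eq_one.2 ⟨n, hpos, he⟩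
  have : Fintype (Subgroup.zpowers e) :=
    Fintype.ofEquiv _ (finEquivZPowers hfin)
  let σ : Subgroup.zpowers e →* (A ≃ₐ[k] A) := (Subgroup.zpowers e).subtype
  have hcard : (Fintype.card (Subgroup.zpowers e) : k) ≠ 0 := by
    obtain ⟨d, hd⟩ : Fintype.card (Subgroup.zpowers e) ∣ n := by
      rw [← Nat.card_eq_fintype_card, Nat.card_zpowers]
      exact orderOf_dvd_of_pow_eq_one he
    intro h
    exact hn (by rw [hd, Nat.cast_mul, h, zero_mul])
  have hle : fixIdeal σ ≤ maximalIdeal A ^ 2 := by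
    rw [fixIdeal, Ideal.span_le]
    rintro _ ⟨⟨g, hg⟩, x, rfl⟩
    show g x - x ∈ maximalIdeal A ^ 2
    rw [← hfin.mem_powers_iff_mem_zpowers] at hg
    obtain ⟨j, rfl⟩ := hg
    show (e ^ j) x - x ∈ maximalIdeal A ^ 2
    induction j with
    | zero => simp
    | succ j ih =>
      rw [pow_succ' e j, AlgEquiv.mul_apply]
      obtain ⟨c, hc⟩ := exists_sub_mem hres ((e ^ j) x)
      have := add_mem (htriv _ hc) ih
      rw [map_sub, AlgEquiv.commutes] at this
      convert this using 1
      ring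
  have h0 : fixIdeal σ = ⊥ := by
    refine Submodule.eq_bot_of_le_smul_of_le_jacobson_bot (maximalIdeal A) _ (IsNoetherian.noetherian _) ?_
      (by rw [jacobson_eq_maximalIdeal ⊥ bot_ne_top])
    exact fun x hx => fixIdeal_inf_sq_le σ hres hcard ⟨hx, hle hx⟩
  have : e a - a ∈ fixIdeal σ := Ideal.subset_span ⟨⟨e, Subgroup.mem_zpowers e⟩, a, rfl⟩
  rwa [h0, Submodule.mem_bot, sub_eq_zero] at this

end Groth.Calg8.FixedLocus
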