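import Mathlib

/-!
The ghost lemma for the derived category of an abelian category.
-/

universe w v u

open CategoryTheory Limits Pretriangulated DerivedCategory

namespace Groth.Calg8.Ghost

variable {C : Type u} [Category.{v} C] [Abelian C] [HasDerivedCategory.{w} C]

theorem eq_zero_of_singles {Y Z : DerivedCategory C} (b : ℤ) [Y.IsLE b] [Y.IsGE b] [Z.IsLE b] [Z.IsGE b]
    (g : Y ⟶ Z) (hg : (homologyFunctor C b).map g = 0) : g = 0 := by
  obtain ⟨A, ⟨e⟩⟩ := exists_iso_singleFunctor_obj_of_isGE_of_isLE Y b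
  obtain ⟨B, ⟨e'⟩⟩ := exists_iso_singleFunctor_obj_of_isGE_of_isLE Z b
  obtain ⟨m, hm⟩ := (singleFunctor C b).map_surjective (e.inv ≫ g ≫ e'.hom)
  have h1 : (singleFunctor C b ⋙ homologyFunctor C b).map m = 0 := by
    rw [Functor.comp_map, hm]
    simp [hg]
  have h2 : m = 0 := by
    have := NatIso.naturality_1 (singleFunctorCompHomologyFunctorIso C b) m
    rw [h1] at this
    simpa using this.symm
  rw [h2, Functor.map_zero] at hm
  rw [← cancel_epi e.inv, ← cancel_mono e'.hom, comp_zero, zero_comp, Category.assoc, ← hm]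

theorem isLE_obj₃ {T : Triangle (DerivedCategory C)} (hT : T ∈ distTriang _) (b : ℤ) [T.obj₂.IsLE b]
    [T.obj₁.IsLE b] : T.obj₃.IsLE b := by
  rw [isLE_iff]
  intro i hi
  exact (HomologySequence.exact₃ T hT i (i + 1) rfl).isZero_of_both_zeros
    ((isZero_of_isLE _ b i hi).eq_of_src _ _) ((isZero_of_isLE _ b (i + 1) (by omega)).eq_of_tgt _ _)

theorem isGE_obj₁ {T : Triangle (DerivedCategory C)} (hT : T ∈ distTriang _) (b : ℤ) [T.obj₂.IsGE b]
    [T.obj₃.IsGE b] : T.obj₁.IsGE b := by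
  rw [isGE_iff]
  intro i hi
  exact (HomologySequence.exact₁ T hT (i - 1) i (by omega)).isZero_of_both_zeros
    ((isZero_of_isGE _ b (i - 1) (by omega)).eq_of_src _ _) ((isZero_of_isGE _ b i hi).eq_of_tgt _ _)

/-- A morphism from an object `≤ b` to an object `≥ b` is determined by its action on `H^b`. -/
theorem eq_zero_of_isLE_of_isGE {X Z : DerivedCategory C} (b : ℤ) [X.IsLE b] [Z.IsGE b] (g : X ⟶ Z)
    (hg : (homologyFunctor C b).map g = 0) : g = 0 := by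
  obtain ⟨X₁, X₃, hX₁, hX₃, ι, π, δ, hT⟩ := TStructure.t.exists_triangle X (b - 1) b (by omega)
  let T := Triangle.mk ι π δ
  have : T.obj₁.IsLE (b - 1) := ⟨hX₁⟩
  have : T.obj₁.IsLE b := TStructure.t.isLE_of_le T.obj₁ (b - 1) b (by omega)
  have : T.obj₂.IsLE b := ‹X.IsLE b›
  have : T.obj₃.IsGE b := ⟨hX₃⟩
  have : T.obj₃.IsLE b := isLE_obj₃ hT b
  obtain ⟨g₁, hg₁⟩ := Triangle.yoneda_exact₂ T hT g (TStructure.t.zero (T.mor₁ ≫ g) (b - 1) b (by omega))
  have hepi : Epi ((homologyFunctor C b).map T.mor₂) :=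
    (HomologySequence.epi_homologyMap_mor₂_iff T hT b (b + 1) rfl).2
      ((isZero_of_isLE T.obj₁ b (b + 1) (by omega)).eq_of_tgt _ _)
  have h1 : (homologyFunctor C b).map g₁ = 0 := by
    rw [← cancel_epi ((homologyFunctor C b).map T.mor₂), ← Functor.map_comp]
    exact ((congrArg ((homologyFunctor C b).map) hg₁).symm.trans hg).trans comp_zero.symm
  obtain ⟨Z₁, Z₃, hZ₁, hZ₃, ι', π', δ', hT'⟩ := TStructure.t.exists_triangle Z b (b + 1) rfl
  let T' := Triangle.mk ι' π' δ'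
  have : T'.obj₁.IsLE b := ⟨hZ₁⟩
  have : T'.obj₃.IsGE (b + 1) := ⟨hZ₃⟩
  have : T'.obj₃.IsGE b := TStructure.t.isGE_of_ge T'.obj₃ b (b + 1) (by omega)
  have : T'.obj₂.IsGE b := ‹Z.IsGE b›
  have : T'.obj₁.IsGE b := isGE_obj₁ hT' b
  obtain ⟨g₂, hg₂⟩ := Triangle.coyoneda_exact₂ T' hT' g₁ (TStructure.t.zero (g₁ ≫ T'.mor₂) b (b + 1) (by omega))
  have hmono : Mono ((homologyFunctor C b).map T'.mor₁) :=
    (HomologySequence.mono_homologyMap_mor₁_iff T' hT' (b - 1) b (by omega)).2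
      ((isZero_of_isGE T'.obj₃ b (b - 1) (by omega)).eq_of_src _ _)
  have h2 : (homologyFunctor C b).map g₂ = 0 := by
    rw [← cancel_mono ((homologyFunctor C b).map T'.mor₁), ← Functor.map_comp]
    exact ((congrArg ((homologyFunctor C b).map) hg₂).symm.trans h1).trans zero_comp.symm
  have h3 : g₁ = 0 := hg₂.trans ((congrArg (· ≫ T'.mor₁) (eq_zero_of_singles b g₂ h2)).trans zero_comp)
  exact hg₁.trans ((congrArg (T.mor₂ ≫ ·) h3).trans comp_zero)

/-- One step of the ghost lemma. -/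
theorem exists_factor {X K K' : DerivedCategory C} (b : ℤ) [X.IsLE b] (h : X ⟶ K) (φ : K ⟶ K')
    (hφ : (homologyFunctor C b).map φ = 0) :
    ∃ (X' : DerivedCategory C) (_ : X'.IsLE (b - 1)) (u : X ⟶ X') (v : X' ⟶ K'), h ≫ φ = u ≫ v := by
  obtain ⟨K₁, K₃, h₁, h₃, ι, π, δ, hT⟩ := TStructure.t.exists_triangle K' (b - 1) b (by omega)
  let T := Triangle.mk ι π δ
  have : T.obj₃.IsGE b := ⟨h₃⟩
  obtain ⟨u, hu⟩ := Triangle.coyoneda_exact₂ T hT (h ≫ φ)
    (eq_zero_of_isLE_of_isGE b ((h ≫ φ) ≫ T.mor₂) (by rw [Functor.map_comp, Functor.map_comp, hφ, comp_zero, zero_comp]))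
  exact ⟨K₁, ⟨h₁⟩, u, ι, hu⟩

/-- The ghost lemma. -/
theorem map_eq_zero (a : ℤ) (n : ℕ) (K : ℕ ⥤ DerivedCategory C) (hLE : (K.obj 0).IsLE (a + n))
    (hGE : (K.obj (n + 1)).IsGE a)
    (hzero : ∀ i : ℕ, i ≤ n → ∀ q : ℤ, (homologyFunctor C q).map (K.map (homOfLE (Nat.le_succ i))) = 0) :
    K.map (homOfLE (Nat.zero_le (n + 1))) = 0 := by
  have key : ∀ j : ℕ, j ≤ n + 1 → ∃ (X : DerivedCategory C) (_ : X.IsLE (a + n - j)) (u : K.obj 0 ⟶ X) (v : X ⟶ K.obj j),
      K.map (homOfLE (Nat.zero_le j)) = u ≫ v := by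
    intro j
    induction j with
    | zero =>
      intro _
      exact ⟨K.obj 0, by simpa using hLE, 𝟙 _, K.map (homOfLE le_rfl), by simp⟩
    | succ j ih =>
      intro hj
      obtain ⟨X, hX, u, v, huv⟩ := ih (by omega)
      obtain ⟨X', hX', u', v', h'⟩ := exists_factor (a + n - j) v (K.map (homOfLE (Nat.le_succ j))) (hzero j (by omega) _)
      refine ⟨X', ?_, u ≫ u', v', ?_⟩
      · rwa [show a + (n : ℤ) - ((j + 1 : ℕ) : ℤ) = a + n - j - 1 by push_cast; ring]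
      · rw [Category.assoc, ← h', ← Category.assoc, ← huv, ← K.map_comp]
        rfl
  obtain ⟨X, hX, u, v, huv⟩ := key (n + 1) le_rfl
  have : X.IsLE (a - 1) := by rwa [show a + (n : ℤ) - ((n + 1 : ℕ) : ℤ) = a - 1 by push_cast; ring] at hX
  rw [huv, TStructure.t.zero v (a - 1) a (by omega), comp_zero]

end Groth.Calg8.Ghost
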