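import Mathlib

/-!
Minimal homogeneous generators of graded submodules of `(Fin n → k[σ])` with shifts.
-/

universe u

namespace Groth.Calg8

open MvPolynomial

variable {k : Type u} [Field k] {σ : Type} {n : ℕ}

theorem homogeneousComponent_mul_of_isHomogeneous {a : ℕ} (q : MvPolynomial σ k)
    (hq : q.IsHomogeneous a) (p : MvPolynomial σ k) (m : ℕ) :
    homogeneousComponent m (p * q) = if a ≤ m then homogeneousComponent (m - a) p * q else 0 := by
  classical
  conv_lhs => rw [← sum_homogeneousComponent p, Finset.sum_mul, map_sum]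
  have h : ∀ i, homogeneousComponent m (homogeneousComponent i p * q) =
      if m = i + a then homogeneousComponent i p * q else 0 := fun i =>
    homogeneousComponent_of_mem ((homogeneousComponent_isHomogeneous i p).mul hq)
  simp only [h]
  split_ifs with hle
  · rw [Finset.sum_eq_single (m - a)]
    · rw [if_pos (by omega)]
    · intro i _ hi
      rw [if_neg (by omega)]
    · intro hi
      rw [if_pos (by omega)]
      simp only [Finset.mem_range, not_lt] at hi
      rw [homogeneousComponent_eq_zero _ _ (by omega), zero_mul]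
  · exact Finset.sum_eq_zero fun i _ => if_neg (by omega)

/-- Component of degree `D` in `k[σ]^n` with shifts `d`. -/
noncomputable def comp (d : Fin n → ℕ) (D : ℕ) :
    (Fin n → MvPolynomial σ k) →ₗ[k] (Fin n → MvPolynomial σ k) :=
  LinearMap.pi fun l => if d l ≤ D then (homogeneousComponent (D - d l)).comp (LinearMap.proj l) else 0

theorem comp_apply (d : Fin n → ℕ) (D : ℕ) (c : Fin n → MvPolynomial σ k) (l : Fin n) :
    comp d D c l = if d l ≤ D then homogeneousComponent (D - d l) (c l) else 0 := by
  unfold comp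
  rw [LinearMap.pi_apply]
  split_ifs <;> rfl

theorem comp_comp (d : Fin n → ℕ) (D : ℕ) (c : Fin n → MvPolynomial σ k) :
    comp d D (comp d D c) = comp d D c := by
  funext l
  rw [comp_apply, comp_apply]
  split_ifs
  · exact homogeneousComponent_eq_self (homogeneousComponent_isHomogeneous _ _)
  · rfl

theorem isHomogeneous_of_comp_eq {d : Fin n → ℕ} {e : ℕ} {v : Fin n → MvPolynomial σ k}
    (hv : comp d e v = v) (l : Fin n) :
    (d l ≤ e → (v l).IsHomogeneous (e - d l)) ∧ (e < d l → v l = 0) := by
  have h := congrFun hv l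
  rw [comp_apply] at h
  refine ⟨fun hle => ?_, fun hlt => ?_⟩
  · rw [if_pos hle] at h
    rw [← h]
    exact homogeneousComponent_isHomogeneous _ _
  · rw [if_neg (by omega)] at h
    exact h.symm

theorem comp_smul (d : Fin n → ℕ) (D : ℕ) {e : ℕ} {v : Fin n → MvPolynomial σ k}
    (hv : comp d e v = v) (b : MvPolynomial σ k) :
    comp d D (b • v) = if e ≤ D then homogeneousComponent (D - e) b • v else 0 := by
  funext l
  obtain ⟨h1, h2⟩ := isHomogeneous_of_comp_eq hv l
  rw [comp_apply, Pi.smul_apply, smul_eq_mul]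
  rcases lt_or_ge e (d l) with hlt | hle
  · rw [h2 hlt]
    split_ifs <;> simp [h2 hlt]
  · specialize h1 hle
    rw [homogeneousComponent_mul_of_isHomogeneous _ h1]
    by_cases heD : e ≤ D
    · rw [if_pos heD, if_pos (by omega : d l ≤ D), if_pos (by omega), Pi.smul_apply, smul_eq_mul,
        show D - d l - (e - d l) = D - e by omega]
    · rw [if_neg heD]
      split_ifs
      · omega
      · rfl
      · rfl

theorem exists_sum_comp (d : Fin n → ℕ) (c : Fin n → MvPolynomial σ k) :
    ∃ N, ∑ D ∈ Finset.range N, comp d D c = c := by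
  classical
  refine ⟨Finset.univ.sup (fun l => d l + (c l).totalDegree) + 1, funext fun l => ?_⟩
  have hN : d l + (c l).totalDegree < Finset.univ.sup (fun l => d l + (c l).totalDegree) + 1 :=
    Nat.lt_succ_of_le (Finset.le_sup (f := fun l => d l + (c l).totalDegree) (Finset.mem_univ l))
  set N := Finset.univ.sup (fun l => d l + (c l).totalDegree) + 1
  simp only [Finset.sum_apply, comp_apply]
  rw [← Finset.sum_filter]
  have hfilt : (Finset.range N).filter (fun D => d l ≤ D) = Finset.Ico (d l) N := by
    ext D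
    simp [and_comm]
  rw [hfilt, Finset.sum_Ico_eq_sum_range]
  simp only [add_tsub_cancel_left]
  conv_rhs => rw [← sum_homogeneousComponent (c l)]
  symm
  refine Finset.sum_subset (Finset.range_subset_range.2 (by omega)) fun i hi hni => ?_
  simp only [Finset.mem_range, not_lt] at hni
  exact homogeneousComponent_eq_zero _ _ (by omega)

/-- A graded submodule of a finite free module has a minimal homogeneous generating family. -/
theorem exists_minimal_homogeneous_generators [Finite σ] (d : Fin n → ℕ)
    (K : Submodule (MvPolynomial σ k) (Fin n → MvPolynomial σ k))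
    (hK : ∀ D c, c ∈ K → comp d D c ∈ K) :
    ∃ (t : ℕ) (v : Fin t → Fin n → MvPolynomial σ k) (e : Fin t → ℕ),
      (∀ j, comp d (e j) (v j) = v j) ∧
      Submodule.span (MvPolynomial σ k) (Set.range v) = K ∧
      ∀ b : Fin t → MvPolynomial σ k, ∑ j, b j • v j = 0 → ∀ j, constantCoeff (b j) = 0 := by
  classical
  let P : ℕ → Prop := fun t => ∃ (v : Fin t → Fin n → MvPolynomial σ k) (e : Fin t → ℕ),
      (∀ j, comp d (e j) (v j) = v j) ∧ Submodule.span (MvPolynomial σ k) (Set.range v) = K
  let H : Set (Fin n → MvPolynomial σ k) := {w | w ∈ K ∧ ∃ D, comp d D w = w}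
  have hH : Submodule.span (MvPolynomial σ k) H = K := by
    refine le_antisymm (Submodule.span_le.2 fun w hw => hw.1) fun c hc => ?_
    obtain ⟨N, hN⟩ := exists_sum_comp d c
    rw [← hN]
    exact sum_mem fun D _ => Submodule.subset_span ⟨hK D c hc, D, comp_comp d D c⟩
  have hex : ∃ t, P t := by
    obtain ⟨T, hTH, hT⟩ := (Submodule.fg_span_iff_fg_span_finset_subset H).1
      (by rw [hH]; exact IsNoetherian.noetherian K)
    rw [hH] at hT
    have he : ∀ w : T, ∃ D, comp d D (w : Fin n → MvPolynomial σ k) = w := fun w => (hTH w.2).2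
    choose e he using he
    refine ⟨T.card, fun j => (T.equivFin.symm j : T), fun j => e (T.equivFin.symm j), fun j => he _, ?_⟩
    have hrange : Set.range (fun j : Fin T.card => ((T.equivFin.symm j : T) : Fin n → MvPolynomial σ k)) =
        (T : Set (Fin n → MvPolynomial σ k)) := by
      ext w
      constructor
      · rintro ⟨j, rfl⟩
        exact (T.equivFin.symm j).2
      · exact fun hw => ⟨T.equivFin ⟨w, hw⟩, by simp⟩
    rw [hrange]
    exact hT.symm
  obtain ⟨v, e, hv, hspan⟩ := Nat.find_spec hex
  refine ⟨Nat.find hex, v, e, hv, hspan, fun b hb j₀ => ?_⟩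
  by_contra hne
  obtain ⟨s, hs⟩ : ∃ s, Nat.find hex = s + 1 :=
    ⟨Nat.find hex - 1, by have := j₀.pos; omega⟩
  revert j₀ b v e
  rw [hs]
  intro v e hv hspan b hb j₀ hne
  refine Nat.find_min hex (m := s) (by omega) ⟨v ∘ j₀.succAbove, e ∘ j₀.succAbove, fun j => hv _, ?_⟩
  have h := congrArg (comp d (e j₀)) hb
  simp only [map_sum, map_zero, comp_smul d (e j₀) (hv _)] at h
  rw [Fin.sum_univ_succAbove _ j₀, if_pos le_rfl, Nat.sub_self, homogeneousComponent_zero] at h
  have hmem : v j₀ ∈ Submodule.span (MvPolynomial σ k) (Set.range (v ∘ j₀.succAbove)) := by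
    have h2 : (C (coeff 0 (b j₀)) : MvPolynomial σ k) • v j₀ ∈
        Submodule.span (MvPolynomial σ k) (Set.range (v ∘ j₀.succAbove)) := by
      rw [eq_neg_of_add_eq_zero_left h]
      refine neg_mem (sum_mem fun j _ => ?_)
      split_ifs
      · exact Submodule.smul_mem _ _ (Submodule.subset_span ⟨j, rfl⟩)
      · exact zero_mem _
    have hu : coeff 0 (b j₀) ≠ 0 := by simpa [constantCoeff_eq] using hne
    have h3 := Submodule.smul_mem _ (C ((coeff 0 (b j₀))⁻¹) : MvPolynomial σ k) h2
    rwa [smul_smul, ← C_mul, inv_mul_cancel₀ hu, C_1, one_smul] at h3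
  refine le_antisymm ?_ ?_
  · rw [← hspan]
    exact Submodule.span_mono (Set.range_comp_subset_range _ _)
  · rw [← hspan, Submodule.span_le]
    rintro _ ⟨i, rfl⟩
    obtain rfl | ⟨j, rfl⟩ := Fin.eq_self_or_eq_succAbove j₀ i
    · exact hmem
    · exact Submodule.subset_span ⟨j, rfl⟩

end Groth.Calg8
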