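import Mathlib

/-!
Invariants of a finite group of invertible order acting on a finitely presented algebra.
-/

universe u v w

namespace Groth.Calg8.InvFP

open scoped TensorProduct

section General

variable {R : Type u} [CommRing R] {A : Type v} [CommRing A] [Algebra R A]
  {G : Type w} [Group G] [MulSemiringAction G A] [SMulCommClass G R A]

/-- Artin–Tate. -/
theorem invariants_finiteType [IsNoetherianRing R] [Finite G] [Algebra.FiniteType R A] :
    Algebra.FiniteType R (FixedPoints.subalgebra R A G) := by
  have : Algebra.IsInvariant (FixedPoints.subalgebra R A G) A G := ⟨fun b hb => ⟨⟨b, hb⟩, rfl⟩⟩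
  have := Algebra.IsInvariant.isIntegral (FixedPoints.subalgebra R A G) A G
  have : Algebra.FiniteType (FixedPoints.subalgebra R A G) A :=
    Algebra.FiniteType.of_restrictScalars_finiteType R _ A
  have : Module.Finite (FixedPoints.subalgebra R A G) A := Algebra.IsIntegral.finite
  exact ⟨fg_of_fg_of_fg R _ A Algebra.FiniteType.out Module.Finite.fg_top Subtype.val_injective⟩

/-- A finite type algebra is finite over the invariants. -/
theorem finite_over_invariants [Finite G] [Algebra.FiniteType R A] :
    Module.Finite (FixedPoints.subalgebra R A G) A := by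
  have : Algebra.IsInvariant (FixedPoints.subalgebra R A G) A G := ⟨fun b hb => ⟨⟨b, hb⟩, rfl⟩⟩
  have := Algebra.IsInvariant.isIntegral (FixedPoints.subalgebra R A G) A G
  have : Algebra.FiniteType (FixedPoints.subalgebra R A G) A :=
    Algebra.FiniteType.of_restrictScalars_finiteType R _ A
  exact Algebra.IsIntegral.finite

variable [Fintype G]

variable (R A G) in
/-- The sum over the group. -/
def trace : A →ₗ[R] A := ∑ g : G, (MulSemiringAction.toAlgHom R A g).toLinearMap

theorem trace_apply (a : A) : trace R A G a = ∑ g : G, g • a := by simp [trace]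

theorem trace_mem (a : A) : trace R A G a ∈ FixedPoints.subalgebra R A G := by
  intro h
  show h • _ = _
  rw [trace_apply, Finset.smul_sum]
  exact Fintype.sum_bijective (h * ·) (Group.mulLeft_bijective h) _ _ fun g => smul_smul h g a

theorem trace_mul {b : A} (hb : b ∈ FixedPoints.subalgebra R A G) (a : A) :
    trace R A G (b * a) = b * trace R A G a := by
  rw [trace_apply, trace_apply, Finset.mul_sum]
  exact Finset.sum_congr rfl fun g _ => by rw [smul_mul', hb g]

theorem trace_of_mem {b : A} (hb : b ∈ FixedPoints.subalgebra R A G) :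
    trace R A G b = (Fintype.card G : R) • b := by
  rw [trace_apply, Finset.sum_congr rfl fun g _ => hb g, Finset.sum_const, Finset.card_univ, Nat.cast_smul_eq_nsmul]

/-- A quotient of an equivariant finitely presented algebra. -/
theorem invariants_finitePresentation_of_surjective {P : Type*} [CommRing P] [Algebra R P]
    [MulSemiringAction G P] [SMulCommClass G R P] [Algebra.FiniteType R P]
    [Algebra.FinitePresentation R (FixedPoints.subalgebra R P G)]
    (hN : IsUnit (Fintype.card G : R)) (π : P →ₐ[R] A) (hπ : Function.Surjective π)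
    (hequiv : ∀ (g : G) (p : P), π (g • p) = g • π p) (hker : (RingHom.ker π.toRingHom).FG) :
    Algebra.FinitePresentation R (FixedPoints.subalgebra R A G) := by
  classical
  obtain ⟨u, hu⟩ := hN
  let ρ : P →ₗ[R] P := (↑u⁻¹ : R) • trace R P G
  have hρmem : ∀ p, ρ p ∈ FixedPoints.subalgebra R P G := fun p =>
    Subalgebra.smul_mem _ (trace_mem p) _
  have hρfix : ∀ p ∈ FixedPoints.subalgebra R P G, ρ p = p := fun p hp => by
    rw [LinearMap.smul_apply, trace_of_mem hp, ← hu, smul_smul, Units.inv_mul, one_smul]
  have hρmul : ∀ b ∈ FixedPoints.subalgebra R P G, ∀ p, ρ (b * p) = b * ρ p := fun b hb p => by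
    rw [LinearMap.smul_apply, LinearMap.smul_apply, trace_mul hb, mul_smul_comm]
  have hπρ : ∀ p, (∀ g : G, g • π p = π p) → π (ρ p) = π p := fun p hp => by
    rw [LinearMap.smul_apply, map_smul, trace_apply, map_sum,
      Finset.sum_congr rfl fun g _ => (hequiv g p).trans (hp g), Finset.sum_const, Finset.card_univ,
      ← Nat.cast_smul_eq_nsmul R, ← hu, smul_smul, Units.inv_mul, one_smul]
  let π' : FixedPoints.subalgebra R P G →ₐ[R] FixedPoints.subalgebra R A G :=
    (π.comp (FixedPoints.subalgebra R P G).val).codRestrict _ fun p g => by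
      show g • π p = π p
      rw [← hequiv, p.2 g]
  have hπ' : Function.Surjective π' := fun a => by
    obtain ⟨p, hp⟩ := hπ a
    refine ⟨⟨ρ p, hρmem p⟩, Subtype.ext ?_⟩
    show π (ρ p) = a
    rw [hπρ p fun g => by rw [hp]; exact a.2 g, hp]
  refine Algebra.FinitePresentation.of_surjective hπ' ?_
  obtain ⟨F, hF⟩ := hker
  obtain ⟨m, hm⟩ := (finite_over_invariants (R := R) (A := P) (G := G)).fg_top
  let gen : P × P → FixedPoints.subalgebra R P G := fun z => ⟨ρ (z.2 * z.1), hρmem _⟩
  refine ⟨(F ×ˢ m).image gen, le_antisymm ?_ fun q hq => ?_⟩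
  · rw [Ideal.span_le]
    intro x hx
    obtain ⟨⟨f, l⟩, hfl, rfl⟩ := Finset.mem_image.1 (Finset.mem_coe.1 hx)
    have hf : π f = 0 := by
      have : f ∈ RingHom.ker π.toRingHom := hF ▸ Ideal.subset_span (Finset.mem_product.1 hfl).1
      exact this
    refine Subtype.ext ?_
    show π (ρ (l * f)) = 0
    have h0 : π (l * f) = 0 := by rw [map_mul, hf, mul_zero]
    rw [hπρ _ fun g => by rw [h0, smul_zero], h0]
  · set J : Ideal (FixedPoints.subalgebra R P G) := Ideal.span ↑((F ×ˢ m).image gen)
    have key : ∀ f ∈ F, ∀ c : P, (⟨ρ (c * f), hρmem _⟩ : FixedPoints.subalgebra R P G) ∈ J := by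
      intro f hf c
      have hc : c ∈ Submodule.span (FixedPoints.subalgebra R P G) (m : Set P) := by rw [hm]; trivial
      induction hc using Submodule.span_induction with
      | mem l hl =>
        exact Ideal.subset_span (Finset.mem_coe.2
          (Finset.mem_image.2 ⟨(f, l), Finset.mem_product.2 ⟨hf, hl⟩, rfl⟩))
      | zero => convert J.zero_mem; simp
      | add a b _ _ ha hb => convert J.add_mem ha hb using 1; exact Subtype.ext (by simp [add_mul])
      | smul b a _ ha =>
        convert J.mul_mem_left b ha using 1
        refine Subtype.ext ?_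
        show ρ (b • a * f) = (b : P) * ρ (a * f)
        rw [Subalgebra.smul_def, smul_eq_mul, mul_assoc, hρmul _ b.2]
    have hq' : (q : P) ∈ RingHom.ker π.toRingHom := congrArg Subtype.val hq
    rw [← hF] at hq'
    obtain ⟨c, hc⟩ := Submodule.mem_span_finset'.1 hq'
    have hqeq : q = ∑ f : F, (⟨ρ (c f * f.1), hρmem _⟩ : FixedPoints.subalgebra R P G) := Subtype.ext (by
      rw [AddSubmonoidClass.coe_finsetSum]
      conv_lhs => rw [← hρfix _ q.2, ← hc, map_sum]
      exact Finset.sum_congr rfl fun f _ => by rw [smul_eq_mul])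
    rw [hqeq]
    exact sum_mem fun f _ => key f f.2 _

end General

section Permutation

variable (R : Type u) [CommRing R] (G : Type w) [Group G] (n : ℕ)

/-- The action on variables. -/
noncomputable def actHom : G →* (MvPolynomial (G × Fin n) R ≃ₐ[R] MvPolynomial (G × Fin n) R) where
  toFun g := MvPolynomial.renameEquiv R ((Equiv.mulLeft g).prodCongr (Equiv.refl _))
  map_one' := AlgEquiv.ext fun p => by
    rw [AlgEquiv.one_apply]
    simp [MvPolynomial.renameEquiv]
  map_mul' g h := AlgEquiv.ext fun p => by
    simp [MvPolynomial.renameEquiv, MvPolynomial.rename_rename, Function.comp_def]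
    rfl

noncomputable instance instAction : MulSemiringAction G (MvPolynomial (G × Fin n) R) :=
  MulSemiringAction.compHom _ (actHom R G n)

theorem smul_def (g : G) (p : MvPolynomial (G × Fin n) R) :
    g • p = MvPolynomial.rename (fun z => (g * z.1, z.2)) p := rfl

instance : SMulCommClass G R (MvPolynomial (G × Fin n) R) :=
  ⟨fun g r p => by rw [smul_def, smul_def, map_smul]⟩

theorem smul_map {S : Type*} [CommRing S] (f : R →+* S) (g : G) (p : MvPolynomial (G × Fin n) R) :
    MvPolynomial.map f (g • p) = g • MvPolynomial.map f p := by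
  rw [smul_def, smul_def, MvPolynomial.map_rename]

variable [Fintype G]

theorem finitePresentation_invariants (hN : IsUnit (Fintype.card G : R)) :
    Algebra.FinitePresentation R (FixedPoints.subalgebra R (MvPolynomial (G × Fin n) R) G) := by
  classical
  obtain ⟨u, hu⟩ := hN
  let PZ := MvPolynomial (G × Fin n) ℤ
  let IZ := FixedPoints.subalgebra ℤ PZ G
  have : Algebra.FiniteType ℤ IZ := invariants_finiteType
  have : Algebra.FinitePresentation ℤ IZ := Algebra.FinitePresentation.of_finiteType.1 this
  let e : R ⊗[ℤ] PZ ≃ₐ[R] MvPolynomial (G × Fin n) R := MvPolynomial.algebraTensorAlgEquiv ℤ R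
  let φ₀ : R ⊗[ℤ] IZ →ₐ[R] MvPolynomial (G × Fin n) R :=
    e.toAlgHom.comp (Algebra.TensorProduct.map (AlgHom.id R R) IZ.val)
  have hφ₀ : ∀ (r : R) (z : IZ), φ₀ (r ⊗ₜ z) = r • MvPolynomial.map (Int.castRingHom R) z.1 := fun r z => by
    show e (r ⊗ₜ[ℤ] z.1) = _
    rw [MvPolynomial.algebraTensorAlgEquiv_tmul]
    rfl
  have hmem : ∀ t, φ₀ t ∈ FixedPoints.subalgebra R (MvPolynomial (G × Fin n) R) G := by
    intro t
    induction t using TensorProduct.induction_on with
    | zero => rw [map_zero]; exact zero_mem _
    | add a b ha hb => rw [map_add]; exact add_mem ha hb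
    | tmul r z =>
      intro g
      show g • _ = _
      rw [hφ₀, smul_comm, ← smul_map, z.2 g]
  let φ := φ₀.codRestrict _ hmem
  have hinj : Function.Injective φ₀ := by
    let T : PZ →ₗ[ℤ] IZ := (trace ℤ PZ G).codRestrict IZ.toSubmodule (fun p => trace_mem p)
    refine e.injective.comp ?_
    have hTi : ∀ t : R ⊗[ℤ] IZ, (T.baseChange R) (Algebra.TensorProduct.map (AlgHom.id R R) IZ.val t) =
        (Fintype.card G : R) • t := by
      intro t
      induction t using TensorProduct.induction_on with
      | zero => simp
      | add a b ha hb => rw [map_add, map_add, ha, hb, smul_add]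
      | tmul r z =>
        show r ⊗ₜ[ℤ] T z.1 = _
        rw [show T z.1 = Fintype.card G • z from Subtype.ext (by
          show trace ℤ PZ G z.1 = _
          rw [trace_of_mem z.2, Nat.cast_smul_eq_nsmul]; rfl), TensorProduct.tmul_smul, Nat.cast_smul_eq_nsmul]
    intro a b hab
    have : (Fintype.card G : R) • a = (Fintype.card G : R) • b :=
      (hTi a).symm.trans ((congrArg (T.baseChange R) hab).trans (hTi b))
    rw [← hu] at this
    simpa [smul_smul] using congrArg ((↑u⁻¹ : R) • ·) this
  have hsurj : Function.Surjective φ := by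
    intro p
    have key : ∀ q : MvPolynomial (G × Fin n) R,
        trace R _ G q ∈ LinearMap.range φ₀.toLinearMap := by
      intro q
      induction q using MvPolynomial.induction_on' with
      | monomial d r =>
        refine ⟨r ⊗ₜ ⟨_, trace_mem (R := ℤ) (MvPolynomial.monomial d (1 : ℤ))⟩, ?_⟩
        show φ₀ _ = _
        rw [hφ₀]
        show r • MvPolynomial.map (Int.castRingHom R) (trace ℤ PZ G (MvPolynomial.monomial d (1 : ℤ))) = _
        rw [trace_apply, trace_apply, map_sum, Finset.smul_sum]
        refine Finset.sum_congr rfl fun g _ => ?_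
        rw [smul_map, MvPolynomial.map_monomial, map_one, ← smul_comm g r, MvPolynomial.smul_monomial, smul_eq_mul,
          mul_one]
      | add a b ha hb => rw [map_add]; exact add_mem ha hb
    obtain ⟨t, ht⟩ := key p.1
    refine ⟨(↑u⁻¹ : R) • t, Subtype.ext ?_⟩
    show φ₀ _ = p.1
    rw [map_smul, show φ₀ t = _ from ht, trace_of_mem p.2, ← hu, smul_smul, Units.inv_mul, one_smul]
  exact Algebra.FinitePresentation.equiv (AlgEquiv.ofBijective φ
    ⟨fun a b h => hinj (congrArg Subtype.val h), hsurj⟩)

end Permutation

theorem invariants_finitePresentation {R : Type u} {A : Type v} [CommRing R] [CommRing A] [Algebra R A]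
    [Algebra.FinitePresentation R A] {G : Type w} [Group G] [Fintype G] [MulSemiringAction G A]
    [SMulCommClass G R A] (hN : IsUnit (Fintype.card G : R)) :
    Algebra.FinitePresentation R (FixedPoints.subalgebra R A G) := by
  obtain ⟨n, f, hf, -⟩ := Algebra.FinitePresentation.out (R := R) (A := A)
  have := finitePresentation_invariants R G n hN
  let π : MvPolynomial (G × Fin n) R →ₐ[R] A :=
    MvPolynomial.aeval fun z => z.1 • f (MvPolynomial.X z.2)
  have hπ : Function.Surjective π := fun a => by
    obtain ⟨p, rfl⟩ := hf a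
    refine ⟨MvPolynomial.rename (fun i => ((1 : G), i)) p, ?_⟩
    rw [MvPolynomial.aeval_rename]
    simp only [Function.comp_def, one_smul]
    exact (DFunLike.congr_fun (MvPolynomial.aeval_unique f) p).symm
  refine invariants_finitePresentation_of_surjective hN π hπ (fun g p => ?_)
    (Algebra.FinitePresentation.ker_fG_of_surjective π hπ)
  show π (MvPolynomial.rename _ p) = MulSemiringAction.toAlgHom R A g (π p)
  rw [MvPolynomial.aeval_rename, ← AlgHom.comp_apply (MulSemiringAction.toAlgHom R A g), MvPolynomial.comp_aeval]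
  simp [Function.comp_def, smul_smul]

end Groth.Calg8.InvFP
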