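import Mathlib

/-!
The norm of `L ⊗ R` over `K ⊗ R`, for `L/K` finite and a `k`-algebra `R`, and its integrality.
-/

universe u

namespace Groth.Calg8.NormBC

open scoped TensorProduct

/-- The determinant of an integral matrix is integral. -/
theorem isIntegral_det {S : Type*} [CommRing S] {C : Type*} [CommRing C] [IsDomain C] [Algebra S C]
    {n : Type*} [Fintype n] [DecidableEq n] (M : Matrix n n C) (h : IsIntegral S M) : IsIntegral S M.det := by
  classical
  let E := AlgebraicClosure (FractionRing C)
  let f : C →ₐ[S] E := IsScalarTower.toAlgHom S C E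
  have hinj : Function.Injective f := by
    show Function.Injective (algebraMap C E)
    rw [IsScalarTower.algebraMap_eq C (FractionRing C) E]
    exact (algebraMap (FractionRing C) E).injective.comp (IsFractionRing.injective C _)
  rw [← isIntegral_algHom_iff f hinj]
  obtain ⟨P, hPm, hP⟩ := h.map f.mapMatrix
  rw [AlgHom.map_det, Matrix.det_eq_prod_roots_charpoly]
  refine IsIntegral.multiset_prod fun r hr => ?_
  have hspec : r ∈ spectrum E (f.mapMatrix M) :=
    Matrix.mem_spectrum_iff_isRoot_charpoly.2 ((Polynomial.mem_roots (Matrix.charpoly_monic _).ne_zero).1 hr)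
  have : Nontrivial (Matrix n n E) := by
    by_contra hnt
    rw [not_nontrivial_iff_subsingleton] at hnt
    rw [spectrum.of_subsingleton] at hspec
    exact hspec
  have h0 := spectrum.subset_polynomial_aeval (f.mapMatrix M) (P.map (algebraMap S E)) ⟨r, hspec, rfl⟩
  rw [Polynomial.aeval_map_algebraMap, show Polynomial.aeval (f.mapMatrix M) P = 0 from hP, spectrum.zero_eq,
    Set.mem_singleton_iff] at h0
  exact ⟨P, hPm, by rwa [← Polynomial.eval_map]⟩

section

variable (k A K L R : Type u) [Field k]
  [CommRing A] [IsDomain A] [IsIntegrallyClosed A] [Algebra k A]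
  [Field K] [Algebra A K] [IsFractionRing A K] [Algebra k K] [IsScalarTower k A K]
  [Field L] [Algebra K L] [Algebra A L] [IsScalarTower A K L]
  [Algebra k L] [IsScalarTower k K L] [IsScalarTower k A L]
  [CommRing R] [Algebra k R]

/-- The structure map. -/
noncomputable def mapKL : K ⊗[k] R →ₐ[k] L ⊗[k] R :=
  Algebra.TensorProduct.map (IsScalarTower.toAlgHom k K L) (AlgHom.id k R)

variable {k A K L R}
variable {ι : Type*} [Fintype ι] (b : Module.Basis ι K L)

/-- Combination of base-changed basis vectors. -/
noncomputable def combine (f : ι → K ⊗[k] R) : L ⊗[k] R :=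
  ∑ i, mapKL k K L R (f i) * (b i ⊗ₜ[k] (1 : R))

/-- Coordinates. -/
noncomputable def coord : L ⊗[k] R →ₗ[k] (ι → K ⊗[k] R) :=
  LinearMap.pi fun i => ((b.coord i).restrictScalars k).rTensor R

theorem combine_coord (x : L ⊗[k] R) : combine b (coord b x) = x := by
  induction x using TensorProduct.induction_on with
  | zero => simp [combine, coord]
  | add x y hx hy =>
    conv_rhs => rw [← hx, ← hy]
    simp only [combine, map_add, Pi.add_apply, add_mul, Finset.sum_add_distrib]
  | tmul l r =>
    show ∑ i, mapKL k K L R ((b.coord i l) ⊗ₜ[k] r) * (b i ⊗ₜ[k] (1 : R)) = _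
    simp only [mapKL, Algebra.TensorProduct.map_tmul, Algebra.TensorProduct.tmul_mul_tmul, AlgHom.coe_id, id_eq,
      mul_one, IsScalarTower.coe_toAlgHom', ← Algebra.smul_def, Module.Basis.coord_apply, ← TensorProduct.sum_tmul,
      b.sum_repr]

omit [Fintype ι] in
theorem coord_mul [DecidableEq ι] (f : K ⊗[k] R) (j : ι) :
    coord b (mapKL k K L R f * (b j ⊗ₜ[k] (1 : R))) = Pi.single j f := by
  induction f using TensorProduct.induction_on with
  | zero => simp
  | add x y hx hy => rw [map_add, add_mul, map_add, hx, hy, Pi.single_add]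
  | tmul x r =>
    funext i
    show ((b.coord i).restrictScalars k).rTensor R _ = _
    simp only [mapKL, Algebra.TensorProduct.map_tmul, Algebra.TensorProduct.tmul_mul_tmul, AlgHom.coe_id, id_eq,
      mul_one, IsScalarTower.coe_toAlgHom', ← Algebra.smul_def, LinearMap.rTensor_tmul, LinearMap.coe_restrictScalars,
      map_smul, Module.Basis.coord_apply, Module.Basis.repr_self, Finsupp.single_apply, Pi.single_apply]
    by_cases h : j = i
    · subst h; simp
    · simp [h, Ne.symm h]

/-- The base-changed basis. -/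
noncomputable def basisBC [DecidableEq ι] :
    letI := (mapKL k K L R).toRingHom.toAlgebra
    Module.Basis ι (K ⊗[k] R) (L ⊗[k] R) :=
  letI := (mapKL k K L R).toRingHom.toAlgebra
  Module.Basis.ofEquivFun
    { toFun := coord b
      map_add' := map_add _
      map_smul' := fun f x => by
        conv_lhs => rw [← combine_coord b x]
        rw [combine, Algebra.smul_def, Finset.mul_sum, map_sum]
        simp only [← mul_assoc]
        show ∑ i, coord b (mapKL k K L R f * mapKL k K L R (coord b x i) * (b i ⊗ₜ[k] (1 : R))) = f • coord b x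
        simp only [← map_mul, coord_mul]
        rw [Finset.univ_sum_single]
        rfl
      invFun := combine b
      left_inv := combine_coord b
      right_inv := fun f => by rw [combine, map_sum]; simp only [coord_mul, Finset.univ_sum_single] }

theorem basisBC_apply [DecidableEq ι] (j : ι) :
    letI := (mapKL k K L R).toRingHom.toAlgebra
    basisBC (k := k) (R := R) b j = b j ⊗ₜ[k] (1 : R) := by
  let := (mapKL k K L R).toRingHom.toAlgebra
  apply (basisBC (k := k) (R := R) b).equivFun.injective
  have h : (basisBC (k := k) (R := R) b).equivFun (b j ⊗ₜ[k] (1 : R)) = coord b (b j ⊗ₜ[k] (1 : R)) := by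
    rw [basisBC, Module.Basis.equivFun_ofEquivFun]
    rfl
  rw [h, show b j ⊗ₜ[k] (1 : R) = mapKL k K L R 1 * (b j ⊗ₜ[k] (1 : R)) by rw [map_one, one_mul], coord_mul]
  funext i
  rw [Module.Basis.equivFun_self]
  simp [Pi.single_apply, eq_comm]

/-- The matrix of a multiplication. -/
theorem leftMulMatrix_tmul [DecidableEq ι] (c : L) (r : R) :
    letI := (mapKL k K L R).toRingHom.toAlgebra
    Algebra.leftMulMatrix (basisBC (k := k) (R := R) b) (c ⊗ₜ[k] r) =
      (Algebra.leftMulMatrix b c).map fun z => z ⊗ₜ[k] r := by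
  let := (mapKL k K L R).toRingHom.toAlgebra
  ext i j
  rw [Algebra.leftMulMatrix_eq_repr_mul, Matrix.map_apply, Algebra.leftMulMatrix_eq_repr_mul, basisBC_apply,
    Algebra.TensorProduct.tmul_mul_tmul, mul_one, ← Module.Basis.equivFun_apply, basisBC,
    Module.Basis.equivFun_ofEquivFun]
  rfl

variable (k A K L R) in
omit [IsDomain A] in
theorem exists_norm_mem_range [FiniteDimensional K L] (β : (integralClosure A L) ⊗[k] R) :
    letI := (mapKL k K L R).toRingHom.toAlgebra
    Algebra.norm (K ⊗[k] R)
        (Algebra.TensorProduct.map ((integralClosure A L).val.restrictScalars k) (AlgHom.id k R) β) ∈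
      Set.range (Algebra.TensorProduct.map (IsScalarTower.toAlgHom k A K) (AlgHom.id k R)) := by
  classical
  let := (mapKL k K L R).toRingHom.toAlgebra
  let b := Module.finBasis K L
  obtain ⟨S, hS⟩ := TensorProduct.exists_finset β
  let J := S
  let AT := MvPolynomial J A
  let KT := MvPolynomial J K
  let _ : Algebra AT KT := (MvPolynomial.map (algebraMap A K)).toAlgebra
  have : IsScalarTower A AT KT := IsScalarTower.of_algebraMap_eq fun a => by
    show algebraMap A KT a = MvPolynomial.map (algebraMap A K) (MvPolynomial.C a)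
    rw [MvPolynomial.map_C]
    rfl
  let d := Module.finrank K L
  let g : (integralClosure A L) →ₐ[A] Matrix (Fin d) (Fin d) KT :=
    ((IsScalarTower.toAlgHom A K KT).mapMatrix).comp
      (((Algebra.leftMulMatrix b).restrictScalars A).comp (integralClosure A L).val)
  let Λ : AT ⊗[A] (integralClosure A L) →ₐ[AT] Matrix (Fin d) (Fin d) KT :=
    Algebra.TensorProduct.lift (Algebra.ofId AT _) g fun x y => Algebra.commutes x (g y)
  have : Algebra.IsIntegral A (integralClosure A L) :=
    ⟨fun x => (isIntegral_algHom_iff (integralClosure A L).val Subtype.val_injective).1 x.2⟩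
  let θ : AT ⊗[A] (integralClosure A L) := ∑ p : J, MvPolynomial.X p ⊗ₜ[A] p.1.1
  have hint : IsIntegral AT (Λ θ) := (Algebra.IsIntegral.isIntegral θ).map Λ
  have hdet := isIntegral_det _ hint
  have hcoef : ∀ e, IsIntegral A ((Λ θ).det.coeff e) := MvPolynomial.isIntegral_iff_isIntegral_coeff.1 hdet
  obtain ⟨q, hq⟩ : ∃ q : AT, MvPolynomial.map (algebraMap A K) q = (Λ θ).det := by
    refine MvPolynomial.mem_range_map_iff_coeffs_subset.2 fun z hz => ?_
    obtain ⟨e, -, rfl⟩ := MvPolynomial.mem_coeffs_iff.1 hz
    exact IsIntegrallyClosed.isIntegral_iff.1 (hcoef e)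
  let incK : K →+* K ⊗[k] R := Algebra.TensorProduct.includeLeftRingHom
  let ev : KT →+* K ⊗[k] R := MvPolynomial.eval₂Hom incK (fun p : J => (1 : K) ⊗ₜ[k] p.1.2)
  let evA : AT →+* A ⊗[k] R :=
    MvPolynomial.eval₂Hom Algebra.TensorProduct.includeLeftRingHom (fun p : J => (1 : A) ⊗ₜ[k] p.1.2)
  refine ⟨evA q, ?_⟩
  rw [Algebra.norm_eq_matrix_det (basisBC (k := k) (R := R) b)]
  have hM : Algebra.leftMulMatrix (basisBC (k := k) (R := R) b)
      (Algebra.TensorProduct.map ((integralClosure A L).val.restrictScalars k) (AlgHom.id k R) β) =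
      ev.mapMatrix (Λ θ) := by
    conv_lhs => rw [hS, ← Finset.sum_coe_sort, map_sum, map_sum]
    rw [show Λ θ = _ from map_sum Λ _ _, map_sum]
    refine Finset.sum_congr rfl fun p _ => ?_
    rw [Algebra.TensorProduct.map_tmul, leftMulMatrix_tmul, Algebra.TensorProduct.lift_tmul]
    ext i j
    rw [RingHom.mapMatrix_apply, Matrix.map_apply, Matrix.map_apply]
    show _ = ev ((algebraMap AT (Matrix (Fin d) (Fin d) KT) (MvPolynomial.X p) * g p.1.1) i j)
    rw [← Algebra.smul_def, Matrix.smul_apply]
    show _ = ev (algebraMap AT KT (MvPolynomial.X p) * MvPolynomial.C (Algebra.leftMulMatrix b (p.1.1 : L) i j))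
    rw [show algebraMap AT KT (MvPolynomial.X p) = MvPolynomial.X p from MvPolynomial.map_X _ p, map_mul]
    rw [show ev (MvPolynomial.X p) = (1 : K) ⊗ₜ[k] p.1.2 from MvPolynomial.eval₂Hom_X' _ _ _,
      show ∀ z : K, ev (MvPolynomial.C z) = z ⊗ₜ[k] (1 : R) from fun z => MvPolynomial.eval₂Hom_C _ _ _,
      Algebra.TensorProduct.tmul_mul_tmul, one_mul, mul_one]
    rfl
  rw [hM, ← RingHom.map_det, ← hq]
  have hcomm : ((Algebra.TensorProduct.map (IsScalarTower.toAlgHom k A K) (AlgHom.id k R)).toRingHom.comp evA) =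
      ev.comp (MvPolynomial.map (algebraMap A K)) := by
    refine MvPolynomial.ringHom_ext (fun a => ?_) (fun p => ?_)
    · show Algebra.TensorProduct.map _ _ (evA (MvPolynomial.C a)) = ev (MvPolynomial.map _ (MvPolynomial.C a))
      rw [MvPolynomial.map_C, show evA (MvPolynomial.C a) = a ⊗ₜ[k] (1 : R) from MvPolynomial.eval₂Hom_C _ _ _,
        show ∀ z : K, ev (MvPolynomial.C z) = z ⊗ₜ[k] (1 : R) from fun z => MvPolynomial.eval₂Hom_C _ _ _]
      simp
    · show Algebra.TensorProduct.map _ _ (evA (MvPolynomial.X p)) = ev (MvPolynomial.map _ (MvPolynomial.X p))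
      rw [MvPolynomial.map_X, show evA (MvPolynomial.X p) = (1 : A) ⊗ₜ[k] p.1.2 from MvPolynomial.eval₂Hom_X' _ _ _,
        show ev (MvPolynomial.X p) = (1 : K) ⊗ₜ[k] p.1.2 from MvPolynomial.eval₂Hom_X' _ _ _]
      simp
  exact RingHom.congr_fun hcomm q

variable (k A K L R) in
omit [IsIntegrallyClosed A] [IsScalarTower k A K] in
theorem isRegular_norm_iff [FiniteDimensional K L] (β : (integralClosure A L) ⊗[k] R) :
    letI := (mapKL k K L R).toRingHom.toAlgebra
    IsRegular β ↔ IsRegular (Algebra.norm (K ⊗[k] R)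
        (Algebra.TensorProduct.map ((integralClosure A L).val.restrictScalars k) (AlgHom.id k R) β)) := by
  classical
  let := (mapKL k K L R).toRingHom.toAlgebra
  set φ := Algebra.TensorProduct.map ((integralClosure A L).val.restrictScalars k) (AlgHom.id k R)
  have hφinj : Function.Injective φ := by
    have : Function.Injective (((integralClosure A L).val.restrictScalars k).toLinearMap.rTensor R) :=
      Module.Flat.rTensor_preserves_injective_linearMap _ Subtype.val_injective
    exact this
  have hden : ∀ z : L ⊗[k] R, ∃ (a : A) (w : (integralClosure A L) ⊗[k] R), a ≠ 0 ∧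
      φ w = (algebraMap A L a ⊗ₜ[k] (1 : R)) * z := by
    intro z
    induction z using TensorProduct.induction_on with
    | zero => exact ⟨1, 0, one_ne_zero, by simp⟩
    | tmul l r =>
      obtain ⟨a, ha, ha'⟩ := IsAlgebraic.exists_integral_multiple
        ((IsFractionRing.isAlgebraic_iff A K L).2 (Algebra.IsAlgebraic.isAlgebraic l))
      exact ⟨a, ⟨a • l, ha'⟩ ⊗ₜ r, ha, by
        simp [φ, Algebra.TensorProduct.tmul_mul_tmul, Algebra.smul_def]⟩
    | add x y hx hy =>
      obtain ⟨a, w, ha, hw⟩ := hx
      obtain ⟨c, v, hc, hv⟩ := hy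
      refine ⟨a * c, ((algebraMap A (integralClosure A L) c) ⊗ₜ[k] (1 : R)) * w +
        ((algebraMap A (integralClosure A L) a) ⊗ₜ[k] (1 : R)) * v, mul_ne_zero ha hc, ?_⟩
      rw [map_add, map_mul, map_mul, hw, hv, map_mul (algebraMap A L)]
      simp only [φ, Algebra.TensorProduct.map_tmul, map_one]
      rw [show ((integralClosure A L).val.restrictScalars k) (algebraMap A _ c) = algebraMap A L c from rfl,
        show ((integralClosure A L).val.restrictScalars k) (algebraMap A _ a) = algebraMap A L a from rfl,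
        show (algebraMap A L a * algebraMap A L c) ⊗ₜ[k] (1 : R) =
          (algebraMap A L a ⊗ₜ[k] (1 : R)) * (algebraMap A L c ⊗ₜ[k] (1 : R)) by simp]
      ring
  have hLR : IsRegular β ↔ ∀ z : L ⊗[k] R, φ β * z = 0 → z = 0 := by
    constructor
    · intro h z hz
      obtain ⟨a, w, ha, hw⟩ := hden z
      have h1 : φ (β * w) = 0 := by rw [map_mul, hw, mul_left_comm, hz, mul_zero]
      have h2 : w = 0 := h.left.mul_left_eq_zero_iff.1 (hφinj (h1.trans (map_zero φ).symm))
      rw [h2, map_zero] at hw
      have hu : IsUnit (algebraMap A L a ⊗ₜ[k] (1 : R)) :=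
        (Ne.isUnit (show algebraMap A L a ≠ 0 from fun h0 => ha (by
          rw [IsScalarTower.algebraMap_apply A K L, map_eq_zero] at h0
          exact (map_eq_zero_iff _ (IsFractionRing.injective A K)).1 h0))).map
          (Algebra.TensorProduct.includeLeftRingHom : L →+* L ⊗[k] R)
      exact hu.mul_right_eq_zero.1 hw.symm
    · intro h
      have : ∀ w, β * w = 0 → w = 0 := fun w hw =>
        hφinj ((h (φ w) (by rw [← map_mul, hw, map_zero])).trans (map_zero φ).symm)
      rw [← isLeftRegular_iff_isRegular, isLeftRegular_iff_right_eq_zero_of_mul]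
      exact this
  let b := Module.finBasis K L
  let bR := basisBC (k := k) (R := R) b
  have hnorm : IsRegular (Algebra.norm (K ⊗[k] R) (φ β)) ↔
      ∀ z : L ⊗[k] R, φ β * z = 0 → z = 0 := by
    rw [Algebra.norm_eq_matrix_det bR, isRegular_iff_mem_nonZeroDivisors,
      ← Matrix.nonsingular_iff_det_mem_nonZeroDivisors, ← Matrix.linearIndependent_col_iff,
      ← Matrix.mulVec_injective_iff]
    constructor
    · intro h z hz
      apply bR.equivFun.injective
      rw [map_zero]
      refine h ?_
      show Matrix.mulVec _ (bR.equivFun z) = Matrix.mulVec _ 0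
      rw [Matrix.mulVec_zero, Algebra.leftMulMatrix_mulVec_repr bR (φ β) z |> fun e =>
        show Matrix.mulVec _ (bR.equivFun z) = bR.equivFun (φ β * z) from e, hz, map_zero]
    · intro h v w hvw
      obtain ⟨x, rfl⟩ := bR.equivFun.surjective v
      obtain ⟨y, rfl⟩ := bR.equivFun.surjective w
      have e : ∀ t, Matrix.mulVec (Algebra.leftMulMatrix bR (φ β)) (bR.equivFun t) = bR.equivFun (φ β * t) :=
        fun t => Algebra.leftMulMatrix_mulVec_repr bR (φ β) t
      rw [e, e] at hvw
      congr 1
      exact sub_eq_zero.1 (h _ (by rw [mul_sub, bR.equivFun.injective hvw, sub_self]))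
  exact hLR.trans hnorm.symm

end

end Groth.Calg8.NormBC
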