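import Groth.Agent.SGA7.Forms
import Mathlib

/-!
Forms of degree `n - 1` separate `n` points of projective space.
-/

universe u

namespace Groth.Calg8.PointForms

open MvPolynomial

variable {k : Type u} [Field k]

/-- The linear form attached to a functional. -/
noncomputable def linForm {N : ℕ} (ℓ : (Fin N → k) →ₗ[k] k) : MvPolynomial (Fin N) k :=
  ∑ i, C (ℓ fun j => if i = j then 1 else 0) * X i

theorem isHomogeneous_linForm {N : ℕ} (ℓ : (Fin N → k) →ₗ[k] k) : (linForm ℓ).IsHomogeneous 1 :=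
  IsHomogeneous.sum _ _ _ fun i _ => isHomogeneous_C_mul_X _ _

theorem eval_linForm {N : ℕ} (ℓ : (Fin N → k) →ₗ[k] k) (v : Fin N → k) : eval v (linForm ℓ) = ℓ v := by
  rw [LinearMap.pi_apply_eq_sum_univ ℓ v]
  simp [linForm, mul_comm]

theorem exists_linForm_separating {N : ℕ} {v w : Fin N → k} (h : v ∉ Submodule.span k {w}) :
    ∃ l : MvPolynomial (Fin N) k, l.IsHomogeneous 1 ∧ eval w l = 0 ∧ eval v l ≠ 0 := by
  obtain ⟨f, hf, hmap⟩ := Submodule.exists_dual_map_eq_bot_of_notMem h inferInstance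
  refine ⟨linForm f, isHomogeneous_linForm f, ?_, by rwa [eval_linForm]⟩
  rw [eval_linForm, ← Submodule.mem_bot k, ← hmap]
  exact Submodule.mem_map_of_mem (Submodule.mem_span_singleton_self w)

theorem notMem_span_of_linearIndependent {N : ℕ} {v w : Fin N → k} (h : LinearIndependent k ![v, w]) :
    v ∉ Submodule.span k {w} := by
  intro hm
  obtain ⟨c, hc⟩ := Submodule.mem_span_singleton.1 hm
  have := LinearIndependent.pair_iff.1 h 1 (-c) (by rw [one_smul, neg_smul, hc, add_neg_cancel])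
  exact one_ne_zero this.1

/-- A form of degree `|S|` vanishing on `S` but not at `v`. -/
theorem exists_form_separating {N : ℕ} (S : Finset (Fin N → k)) (v : Fin N → k)
    (h : ∀ w ∈ S, v ∉ Submodule.span k {w}) :
    ∃ f : MvPolynomial (Fin N) k, f.IsHomogeneous S.card ∧ (∀ w ∈ S, eval w f = 0) ∧ eval v f ≠ 0 := by
  classical
  choose! l hl1 hl2 hl3 using fun w hw => exists_linForm_separating (h w hw)
  refine ⟨∏ w ∈ S, l w, ?_, fun w hw => ?_, ?_⟩
  · have := IsHomogeneous.prod S l (fun _ => 1) hl1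
    simpa using this
  · rw [map_prod]
    exact Finset.prod_eq_zero hw (hl2 w hw)
  · rw [map_prod]
    exact Finset.prod_ne_zero_iff.2 hl3

theorem finrank_forms_vanishing {N n : ℕ} (hn : 1 ≤ n) (Λ : Finset (Fin (N + 1) → k)) (hcard : Λ.card = n)
    (hdist : ∀ v ∈ Λ, ∀ w ∈ Λ, v ≠ w → LinearIndependent k ![v, w]) (h0 : ∀ v ∈ Λ, v ≠ 0) :
    Module.finrank k ↥(homogeneousSubmodule (Fin (N + 1)) k (n - 1) ⊓ ⨅ v ∈ Λ, LinearMap.ker (aeval v).toLinearMap) =
      (N + (n - 1)).choose (n - 1) - n := by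
  classical
  have hH : Module.finrank k ↥(homogeneousSubmodule (Fin (N + 1)) k (n - 1)) = (N + (n - 1)).choose (n - 1) :=
    Groth.SGA7.Forms.finrank_form N k (n - 1)
  have : FiniteDimensional k ↥(homogeneousSubmodule (Fin (N + 1)) k (n - 1)) :=
    Module.Finite.of_basis (Groth.SGA7.Forms.monBasis N k (n - 1))
  set H := homogeneousSubmodule (Fin (N + 1)) k (n - 1)
  let E : H →ₗ[k] (Λ → k) := LinearMap.pi fun v => (aeval (v : Fin (N + 1) → k)).toLinearMap ∘ₗ H.subtype
  have hE : LinearMap.range E = ⊤ := by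
    rw [eq_top_iff, ← (Pi.basisFun k Λ).span_eq, Submodule.span_le]
    rintro _ ⟨v, rfl⟩
    obtain ⟨f, hf, hf0, hfv⟩ := exists_form_separating (Λ.erase v) v fun w hw =>
      notMem_span_of_linearIndependent (hdist v v.2 w (Finset.mem_of_mem_erase hw) (Finset.ne_of_mem_erase hw).symm)
    rw [Finset.card_erase_of_mem v.2, hcard] at hf
    refine ⟨(eval (v : Fin (N + 1) → k) f)⁻¹ • ⟨f, hf⟩, funext fun w => ?_⟩
    rcases eq_or_ne w v with rfl | h
    · simp [E, hfv, aeval_eq_eval]
    · have := hf0 w (Finset.mem_erase.2 ⟨fun e => h (Subtype.ext e), w.2⟩)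
      simp [E, this, aeval_eq_eval, h]
  have hker : (LinearMap.ker E).map H.subtype = H ⊓ ⨅ v ∈ Λ, LinearMap.ker (aeval v).toLinearMap := by
    ext x
    simp [E, LinearMap.mem_ker, funext_iff, Submodule.mem_iInf, and_comm]
  have h1 := LinearMap.finrank_range_add_finrank_ker E
  rw [hE, finrank_top, Module.finrank_fintype_fun_eq_card, Fintype.card_coe, hcard, hH] at h1
  rw [← hker, LinearEquiv.finrank_eq (Submodule.equivSubtypeMap H (LinearMap.ker E)).symm]
  omega

end Groth.Calg8.PointForms
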