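import Groth.Agent.Calg8.GradedGen
import Groth.Agent.Calg8.HilbertBurch
import Groth.Agent.Ega4Algebra1.RegularLocal
import Mathlib

/-!
Minimal free resolution of the homogeneous ideal of finitely many points of the projective plane.
-/

universe u

namespace Groth.Calg8

open MvPolynomial IsLocalRing Groth.Ega4Algebra1

variable {k : Type u} [Field k]

theorem ker_constantCoeff_eq_idealOfVars (σ : Type) :
    RingHom.ker (constantCoeff : MvPolynomial σ k →+* k) = idealOfVars σ k := by
  classical
  ext p
  rw [RingHom.mem_ker, ← pow_one (idealOfVars σ k), mem_pow_idealOfVars_iff, constantCoeff_eq]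
  refine ⟨fun h x hx => ?_, fun h => ?_⟩
  · rw [Nat.one_le_iff_ne_zero, Ne, Finsupp.degree_eq_zero_iff]
    rintro rfl
    exact mem_support_iff.1 hx h
  · by_contra hne
    have := h 0 (mem_support_iff.2 hne)
    simp at this

/-- The first syzygies of an ideal saturated w.r.t. the origin in three variables are free:
minimal relations among minimal relations vanish. -/
theorem relations_injective {n t : ℕ} (I : Ideal (MvPolynomial (Fin 3) k))
    (hsat : ∀ h, (∀ i, X i * h ∈ I) → h ∈ I)
    (f : Fin n → MvPolynomial (Fin 3) k) (hf : Ideal.span (Set.range f) = I)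
    (v : Fin t → Fin n → MvPolynomial (Fin 3) k)
    (hv : Submodule.span (MvPolynomial (Fin 3) k) (Set.range v) =
      LinearMap.ker (Fintype.linearCombination (MvPolynomial (Fin 3) k) f))
    (hmin : ∀ b : Fin t → MvPolynomial (Fin 3) k, ∑ j, b j • v j = 0 → ∀ j, constantCoeff (b j) = 0)
    (b : Fin t → MvPolynomial (Fin 3) k) (hb : ∑ j, b j • v j = 0) : b = 0 := by
  classical
  let S := MvPolynomial (Fin 3) k
  let m : Ideal S := RingHom.ker (constantCoeff : S →+* k)
  have hm : m.IsMaximal := RingHom.ker_isMaximal_of_surjective _ fun a => ⟨C a, constantCoeff_C _ a⟩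
  let R := Localization.AtPrime m
  let ι : S →+* R := algebraMap S R
  have hmI : m = Ideal.span (Set.range (X : Fin 3 → S)) := ker_constantCoeff_eq_idealOfVars (Fin 3)
  have hmax : maximalIdeal R = Ideal.span (Set.range fun i => ι (X i)) := by
    rw [← Localization.AtPrime.map_eq_maximalIdeal (I := m)]
    change Ideal.map ι m = _
    refine (congrArg (Ideal.map ι) hmI).trans ?_
    rw [Ideal.map_span, ← Set.range_comp]
    rfl
  have hXmem : ∀ i, ι (X i) ∈ maximalIdeal R := fun i => hmax ▸ Ideal.subset_span ⟨i, rfl⟩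
  have hdim : (maximalIdeal R).spanFinrank ≤ 3 := by
    rw [hmax]
    refine (Submodule.spanFinrank_span_le_ncard_of_finite (Set.finite_range _)).trans ?_
    rw [← Set.image_univ]
    refine (Set.ncard_image_le (Set.finite_univ)).trans ?_
    simp
  have hιinj : Function.Injective ι := IsLocalization.injective R m.primeCompl_le_nonZeroDivisors
  let IR : Ideal R := I.map ι
  -- saturation in the local ring
  have hsatR : ∀ y : R, (∀ r ∈ maximalIdeal R, r * y ∈ IR) → y ∈ IR := by
    intro y hy
    obtain ⟨s, u, rfl⟩ := IsLocalization.exists_mk'_eq m.primeCompl y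
    have h1 : ∀ i, ∃ w ∈ m.primeCompl, w * (X i * s) ∈ I := fun i => by
      have h2 : algebraMap S R (X i) * IsLocalization.mk' R s u ∈ I.map (algebraMap S R) := hy _ (hXmem i)
      rw [← IsLocalization.mk'_one (M := m.primeCompl) (S := R), ← IsLocalization.mk'_mul,
        IsLocalization.mk'_mem_map_algebraMap_iff] at h2
      exact h2
    choose w hwc hw using h1
    rw [IsLocalization.mk'_mem_map_algebraMap_iff]
    refine ⟨∏ i, w i, prod_mem fun i _ => hwc i, hsat _ fun i => ?_⟩
    rw [← Finset.mul_prod_erase _ _ (Finset.mem_univ i)]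
    have := I.mul_mem_left (∏ l ∈ Finset.univ.erase i, w l) (hw i)
    convert this using 1
    ring
  let M := R ⧸ IR
  have hnotass : maximalIdeal R ∉ associatedPrimes R M := by
    intro hass
    obtain ⟨hp, x, hx⟩ := isAssociatedPrime_iff.1 hass
    obtain ⟨y, rfl⟩ := Ideal.Quotient.mk_surjective x
    have hy : y ∈ IR := hsatR y fun r hr => by
      rw [hx, Submodule.mem_colon_singleton, Submodule.mem_bot] at hr
      exact Ideal.Quotient.eq_zero_iff_mem.1 hr
    apply hp.ne_top
    rw [hx, Ideal.eq_top_iff_one, Submodule.mem_colon_singleton, one_smul, Submodule.mem_bot]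
    exact Ideal.Quotient.eq_zero_iff_mem.2 hy
  have hmax0 : maximalIdeal R ≠ ⊥ := fun h => by
    have h0 : ι (X 0) = 0 := by simpa [h] using hXmem 0
    exact X_ne_zero (0 : Fin 3) (hιinj (h0.trans (map_zero ι).symm))
  have : IsRegularLocalRing R := IsRegularRing.isRegularLocalRing_localization m
  obtain ⟨x, hx, hx2, hxass⟩ := exists_mem_notMem_notMem (maximalIdeal_not_le_sq hmax0)
    (associatedPrimes.finite R M) (fun P hP => hP.isPrime) fun P hP hle => hnotass (by
      have : P = maximalIdeal R :=
        ((maximalIdeal.isMaximal R).eq_of_le hP.isPrime.ne_top hle).symm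
      exact this ▸ hP)
  have hxM : IsSMulRegular M x := by
    by_contra hnr
    have h1 : x ∈ ⋃ p ∈ associatedPrimes R M, (p : Set R) := by
      rw [biUnion_associatedPrimes_eq_compl_regular R M]
      exact hnr
    simp only [Set.mem_iUnion, SetLike.mem_coe, exists_prop] at h1
    obtain ⟨P, hP, hxP⟩ := h1
    exact hxass P hP hxP
  have hxR : IsSMulRegular R x :=
    isSMulRegular_of_ne_zero_of_isRegularLocalRing R fun h => hx2 (h ▸ zero_mem _)
  obtain ⟨hq, -⟩ := isRegularLocalRing_quotient_span_singleton hx hx2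
  have hlt := spanFinrank_maximalIdeal_quotient_lt hx hx2
  have : Module.Finite (R ⧸ Ideal.span {x}) (M ⧸ (Ideal.span {x} • ⊤ : Submodule R M)) :=
    Module.Finite.of_restrictScalars_finite R _ _
  have hM3 : PdLT R M 3 := PdLT.of_quotient_of_isSMulRegular x hx hxR hxM 2
    (PdLT.mono (by omega) (pdLT_of_isRegularLocalRing _ _ rfl _))
  have hI2 : PdLT R IR 2 := by
    have := (PdLT.ker_iff IR.mkQ (Submodule.mkQ_surjective _) 1).1 hM3
    exact PdLT.of_equiv (LinearEquiv.ofEq _ _ (Submodule.ker_mkQ IR)) this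
  let φ : (Fin n → R) →ₗ[R] R := Fintype.linearCombination R (ι ∘ f)
  have hrange : LinearMap.range φ = IR := by
    rw [Fintype.range_linearCombination, Set.range_comp]
    show _ = Ideal.map ι I
    rw [← hf]
    exact (Ideal.map_span ι _).symm
  have hproj : Module.Projective R (LinearMap.ker φ) := by
    have h1 : PdLT R (LinearMap.range φ) 2 := PdLT.of_equiv (LinearEquiv.ofEq _ _ hrange.symm) hI2
    have h2 := (PdLT.ker_iff φ.rangeRestrict φ.surjective_rangeRestrict 0).1 h1
    have e : LinearMap.ker φ.rangeRestrict ≃ₗ[R] LinearMap.ker φ := LinearEquiv.ofEq _ _ φ.ker_rangeRestrict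
    exact PdLT.one_iff.1 (PdLT.of_equiv (M := LinearMap.ker φ.rangeRestrict) (N := LinearMap.ker φ) e h2)
  let ψ : (Fin t → R) →ₗ[R] (Fin n → R) := Fintype.linearCombination R fun j l => ι (v j l)
  have hψ_apply : ∀ (a : Fin t → S) l, ψ (ι ∘ a) l = ι ((∑ j, a j • v j) l) := fun a l => by
    simp [ψ, Fintype.linearCombination_apply, Finset.sum_apply]
  have hφ_apply : ∀ c : Fin n → S, φ (ι ∘ c) = ι (∑ l, c l * f l) := fun c => by
    simp [φ, Fintype.linearCombination_apply]
  have hvK : ∀ j, ∑ l, v j l * f l = 0 := fun j => by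
    have : v j ∈ LinearMap.ker (Fintype.linearCombination S f) := hv ▸ Submodule.subset_span ⟨j, rfl⟩
    simpa [Fintype.linearCombination_apply] using this
  have hψK : LinearMap.range ψ ≤ LinearMap.ker φ := by
    rw [Fintype.range_linearCombination, Submodule.span_le]
    rintro _ ⟨j, rfl⟩
    have := hφ_apply (v j)
    rw [hvK j, map_zero] at this
    exact this
  let ψ' : (Fin t → R) →ₗ[R] LinearMap.ker φ := ψ.codRestrict _ fun c => hψK ⟨c, rfl⟩
  have hsurj : Function.Surjective ψ' := by
    rintro ⟨c, hc⟩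
    obtain ⟨s, hs⟩ := IsLocalization.exist_integer_multiples_of_finite m.primeCompl c
    choose c' hc' using hs
    have hcs : ι ∘ c' = (s : S) • c := funext fun l => hc' l
    have hK : c' ∈ LinearMap.ker (Fintype.linearCombination S f) := by
      rw [LinearMap.mem_ker, Fintype.linearCombination_apply]
      simp only [smul_eq_mul]
      apply hιinj
      rw [← hφ_apply, hcs, map_zero, LinearMap.map_smul_of_tower, LinearMap.mem_ker.1 hc, smul_zero]
    rw [← hv, Submodule.mem_span_range_iff_exists_fun] at hK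
    obtain ⟨a, ha⟩ := hK
    obtain ⟨u, hu⟩ := IsLocalization.map_units R s
    refine ⟨(↑u⁻¹ : R) • (ι ∘ a), Subtype.ext (funext fun l => ?_)⟩
    have h3 : ψ (ι ∘ a) l = ι (c' l) := by rw [hψ_apply, ha]
    have h4 : ι (c' l) = ι (s : S) * c l := by
      rw [show ι (c' l) = (s : S) • c l from hc' l, Algebra.smul_def]
    show ψ ((↑u⁻¹ : R) • (ι ∘ a)) l = c l
    rw [map_smul, Pi.smul_apply, h3, h4, smul_eq_mul, ← mul_assoc]
    rw [show ι (s : S) = (u : R) from hu.symm, Units.inv_mul, one_mul]
  obtain ⟨σ, hσ⟩ := Module.projective_lifting_property ψ' LinearMap.id hsurj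
  have hsec : ∀ c, ψ' (σ c) = c := fun c => congrArg (· c) hσ
  let L := LinearMap.ker ψ'
  let pL : (Fin t → R) →ₗ[R] (Fin t → R) := LinearMap.id - σ.comp ψ'
  have hpL : LinearMap.range pL = L := by
    refine le_antisymm ?_ fun z hz => ⟨z, ?_⟩
    · rintro _ ⟨z, rfl⟩
      simp [L, pL, hsec]
    · simp [pL, LinearMap.mem_ker.1 hz]
  have hLm : ∀ z ∈ L, ∀ j, z j ∈ maximalIdeal R := by
    intro z hz
    obtain ⟨s, hs⟩ := IsLocalization.exist_integer_multiples_of_finite m.primeCompl z
    choose a ha using hs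
    have has : ι ∘ a = (s : S) • z := funext fun l => ha l
    have hψz : ψ z = 0 := congrArg Subtype.val (LinearMap.mem_ker.1 hz)
    have h0 : ∑ j, a j • v j = 0 := funext fun l => hιinj (by
      rw [← hψ_apply, has, LinearMap.map_smul_of_tower, hψz, Pi.zero_apply, map_zero, smul_zero]
      rfl)
    intro j
    have hmem : (s : S) • z j ∈ maximalIdeal R := by
      rw [← Pi.smul_apply, ← has, ← Localization.AtPrime.map_eq_maximalIdeal (I := m)]
      exact Ideal.mem_map_of_mem ι (RingHom.mem_ker.2 (hmin a h0 j))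
    rw [Algebra.smul_def] at hmem
    exact (Ideal.unit_mul_mem_iff_mem _ (IsLocalization.map_units R s)).1 hmem
  have hL : L = ⊥ := by
    refine Submodule.eq_bot_of_le_smul_of_le_jacobson_bot (maximalIdeal R) L (IsNoetherian.noetherian L) ?_
      (maximalIdeal_le_jacobson _)
    intro z hz
    have h1 : z ∈ (maximalIdeal R • ⊤ : Submodule R (Fin t → R)) := by
      rw [show z = ∑ j, z j • (Pi.single j (1 : R) : Fin t → R) by
        funext l; simp [Pi.single_apply]]
      exact sum_mem fun j _ => Submodule.smul_mem_smul (hLm z hz j) trivial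
    have h2 : pL z ∈ Submodule.map pL (maximalIdeal R • ⊤) := Submodule.mem_map_of_mem h1
    rw [Submodule.map_smul'', Submodule.map_top, hpL] at h2
    simpa [pL, LinearMap.mem_ker.1 hz] using h2
  have hbL : ι ∘ b ∈ L := Subtype.ext (funext fun l => by
    show ψ (ι ∘ b) l = 0
    rw [hψ_apply, hb]
    simp)
  rw [hL, Submodule.mem_bot] at hbL
  exact funext fun j => hιinj ((congrFun hbL j).trans (map_zero ι).symm)

section Points

variable (Z : Finset (Fin 3 → k)) (I : Ideal (MvPolynomial (Fin 3) k))
  (hI : ∀ f : MvPolynomial (Fin 3) k, f ∈ I ↔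
      ∀ p ∈ Z, ∀ j : ℕ, eval p (homogeneousComponent j f) = 0)

include hI in
theorem component_mem_of_mem_pointsIdeal {h : MvPolynomial (Fin 3) k} (hh : h ∈ I) (D : ℕ) :
    homogeneousComponent D h ∈ I := by
  rw [hI] at hh ⊢
  intro p hp j
  rw [homogeneousComponent_of_mem (homogeneousComponent_mem D h)]
  split_ifs
  · exact hh p hp D
  · exact map_zero _

include hI in
theorem saturated_pointsIdeal (hZ : ∀ p ∈ Z, p ≠ 0) (h : MvPolynomial (Fin 3) k)
    (hh : ∀ i, X i * h ∈ I) : h ∈ I := by
  rw [hI]
  intro p hp j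
  obtain ⟨i, hi⟩ := Function.ne_iff.1 (hZ p hp)
  have := (hI _).1 (hh i) p hp (j + 1)
  rw [mul_comm, homogeneousComponent_mul_of_isHomogeneous _ (isHomogeneous_X k i),
    if_pos (Nat.le_add_left 1 j), Nat.add_sub_cancel, map_mul, eval_X] at this
  exact (mul_eq_zero.1 this).resolve_right hi

include hI in
theorem pointsIdeal_ne_bot (hZ : ∀ p ∈ Z, p ≠ 0) : I ≠ ⊥ := by
  classical
  have hl : ∀ p ∈ Z, ∃ l : MvPolynomial (Fin 3) k, l.IsHomogeneous 1 ∧ l ≠ 0 ∧ eval p l = 0 := by
    intro p hp
    obtain ⟨a, ha⟩ := Function.ne_iff.1 (hZ p hp)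
    obtain ⟨b, hb⟩ := exists_ne a
    refine ⟨C (p b) * X a - C (p a) * X b, (isHomogeneous_C_mul_X _ _).sub (isHomogeneous_C_mul_X _ _),
      fun h => ?_, by simp [mul_comm]⟩
    have h2 := congrArg (coeff (Finsupp.single b 1)) h
    rw [coeff_sub, coeff_C_mul, coeff_C_mul, coeff_zero, coeff_X, coeff_X, if_neg, if_pos rfl] at h2
    · simp at h2
      exact ha h2
    · rw [Finsupp.single_eq_single_iff]
      simp [hb.symm]
  choose! l hl1 hl2 hl3 using hl
  intro hbot
  have hmem : ∏ p ∈ Z, l p ∈ I := by
    rw [hI]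
    intro q hq j
    rw [homogeneousComponent_of_mem (IsHomogeneous.prod Z l (fun _ => 1) hl1)]
    split_ifs
    · rw [map_prod]
      exact Finset.prod_eq_zero hq (hl3 q hq)
    · exact map_zero _
  rw [hbot, Ideal.mem_bot] at hmem
  exact Finset.prod_ne_zero_iff.2 hl2 hmem

include hI in
/-- The ideal of finitely many points in the plane has a minimal free resolution
`0 → S^t → S^{t+1} → I → 0`. -/
theorem exists_minimal_resolution_pointsIdeal (hZ : ∀ p ∈ Z, p ≠ 0) :
    ∃ (t : ℕ) (Ψ : Matrix (Fin (t + 1)) (Fin t) (MvPolynomial (Fin 3) k))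
      (f : Fin (t + 1) → MvPolynomial (Fin 3) k),
      (∀ w, Ψ.mulVec w = 0 → w = 0) ∧ (∀ j, ∑ i, f i * Ψ i j = 0) ∧
      (∀ z : Fin (t + 1) → MvPolynomial (Fin 3) k, ∑ i, f i * z i = 0 → ∃ w, Ψ.mulVec w = z) ∧
      Ideal.span (Set.range f) = I ∧ (∀ i j, constantCoeff (Ψ i j) = 0) := by
  classical
  let S := MvPolynomial (Fin 3) k
  let K₁ : Submodule S (Fin 1 → S) := Submodule.comap (LinearMap.proj (0 : Fin 1)) I
  obtain ⟨n, g, d, hg, hgspan, hgmin⟩ := exists_minimal_homogeneous_generators (k := k)
    (fun _ : Fin 1 => 0) K₁ (fun D c hc => by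
      show comp (fun _ : Fin 1 => 0) D c 0 ∈ I
      rw [comp_apply, if_pos (Nat.zero_le _), Nat.sub_zero]
      exact component_mem_of_mem_pointsIdeal Z I hI hc D)
  let f : Fin n → S := fun i => g i 0
  have hfhom : ∀ i, (f i).IsHomogeneous (d i) := fun i => by
    have := (isHomogeneous_of_comp_eq (hg i) 0).1 (Nat.zero_le _)
    simpa using this
  have hfspan : Ideal.span (Set.range f) = I := by
    have h1 : Submodule.map (LinearMap.proj (0 : Fin 1) : (Fin 1 → S) →ₗ[S] S) K₁ = I :=
      Submodule.map_comap_eq_of_surjective (fun a => ⟨fun _ => a, rfl⟩) _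
    rw [← hgspan, Submodule.map_span, ← Set.range_comp] at h1
    exact h1
  have hfmin : ∀ b : Fin n → S, ∑ i, b i * f i = 0 → ∀ i, constantCoeff (b i) = 0 :=
    fun b hb => hgmin b (funext fun l => by
      rw [Subsingleton.elim l 0]
      simpa [Finset.sum_apply, f] using hb)
  have hφ_apply : ∀ c : Fin n → S, Fintype.linearCombination S f c = ∑ l, c l * f l := fun c => by
    simp [Fintype.linearCombination_apply]
  obtain ⟨t, v, e, hv, hvspan, hvmin⟩ := exists_minimal_homogeneous_generators (k := k) d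
    (LinearMap.ker (Fintype.linearCombination S f)) (fun D c hc => by
      rw [LinearMap.mem_ker, hφ_apply] at hc ⊢
      have h1 := congrArg (homogeneousComponent D) hc
      rw [map_zero, map_sum] at h1
      rw [← h1]
      refine Finset.sum_congr rfl fun l _ => ?_
      rw [homogeneousComponent_mul_of_isHomogeneous _ (hfhom l), comp_apply]
      split_ifs <;> simp)
  have hinj := relations_injective I (saturated_pointsIdeal Z I hI hZ) f hfspan v hvspan hvmin
  have hn : n = t + 1 := by
    let φ := Fintype.linearCombination S f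
    have h1 := Submodule.finrank_quotient_add_finrank (LinearMap.ker φ)
    rw [φ.quotKerEquivRange.finrank_eq] at h1
    have hli : LinearIndependent S v := by
      rw [Fintype.linearIndependent_iff]
      exact fun b hb => congrFun (hinj b hb)
    have h2 : Module.finrank S (LinearMap.ker φ) = t := by
      rw [← hvspan, finrank_span_eq_card hli, Fintype.card_fin]
    have hR : LinearMap.range φ = I := by rw [Fintype.range_linearCombination]; exact hfspan
    have h3 : Module.finrank S (LinearMap.range φ) = 1 := by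
      rw [hR]
      refine le_antisymm ((Submodule.finrank_le I).trans_eq (Module.finrank_self S)) ?_
      have : Nontrivial I := Submodule.nontrivial_iff_ne_bot.2 (pointsIdeal_ne_bot Z I hI hZ)
      exact Module.finrank_pos
    rw [h2, h3, Module.finrank_fintype_fun_eq_card, Fintype.card_fin] at h1
    omega
  subst hn
  let Ψ : Matrix (Fin (t + 1)) (Fin t) S := Matrix.of fun i j => v j i
  have hΨ : ∀ w, Ψ.mulVec w = ∑ j, w j • v j := fun w => funext fun i => by
    simp [Ψ, Matrix.mulVec, dotProduct, Finset.sum_apply, mul_comm]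
  have hrel : ∀ j, ∑ i, v j i * f i = 0 := fun j => by
    rw [← hφ_apply, ← LinearMap.mem_ker, ← hvspan]
    exact Submodule.subset_span ⟨j, rfl⟩
  refine ⟨t, Ψ, f, fun w hw => hinj w (by rwa [← hΨ]), fun j => ?_, fun z hz => ?_, hfspan,
    fun i j => hfmin (v j) (hrel j) i⟩
  · rw [← hrel j]
    exact Finset.sum_congr rfl fun i _ => mul_comm _ _
  · have : z ∈ LinearMap.ker (Fintype.linearCombination S f) := by
      rw [LinearMap.mem_ker, hφ_apply, ← hz]
      exact Finset.sum_congr rfl fun i _ => mul_comm _ _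
    rw [← hvspan, Submodule.mem_span_range_iff_exists_fun] at this
    obtain ⟨w, hw⟩ := this
    exact ⟨w, (hΨ w).trans hw⟩

include hI in
/-- The ideal of finitely many plane points is generated by at most `d + 1` elements if it contains
a nonzero form of degree `d`. -/
theorem spanFinrank_pointsIdeal_le (hZ : ∀ p ∈ Z, p ≠ 0) (d : ℕ)
    (g : MvPolynomial (Fin 3) k) (hg : g ∈ I) (hgd : g.IsHomogeneous d) (hg0 : g ≠ 0) :
    Submodule.spanFinrank I ≤ d + 1 := by
  obtain ⟨t, Ψ, f, hinj, hrel, hker, hspan, hmin⟩ := exists_minimal_resolution_pointsIdeal Z I hI hZ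
  obtain ⟨a, ha⟩ := hilbertBurch Ψ f hinj hrel hker
  have hmem : ∀ i j, Ψ i j ∈ idealOfVars (Fin 3) k := fun i j => by
    rw [← ker_constantCoeff_eq_idealOfVars]
    exact hmin i j
  have hI_le : I ≤ idealOfVars (Fin 3) k ^ t := by
    rw [← hspan, Ideal.span_le]
    rintro _ ⟨i, rfl⟩
    rw [ha i, minorVec, Matrix.det_apply]
    refine Ideal.mul_mem_left _ _ (Ideal.mul_mem_left _ _ (sum_mem fun σ _ => ?_))
    rw [Units.smul_def, zsmul_eq_mul]
    refine Ideal.mul_mem_left _ _ ?_
    have := Ideal.prod_mem_prod (s := Finset.univ) (I := fun _ : Fin t => idealOfVars (Fin 3) k)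
      (x := fun c => Ψ.submatrix i.succAbove id (σ c) c) fun c _ => hmem _ _
    rwa [Finset.prod_const, Finset.card_univ, Fintype.card_fin] at this
  obtain ⟨x, hx⟩ := support_nonempty.2 hg0
  have h1 := (mem_pow_idealOfVars_iff t g).1 (hI_le hg) x hx
  have h2 : x.degree = d := by
    by_contra hne
    exact mem_support_iff.1 hx (hgd.coeff_eq_zero hne)
  have hcard : (Set.range f).ncard ≤ t + 1 := by
    rw [← Set.image_univ]
    refine (Set.ncard_image_le Set.finite_univ).trans ?_
    simp
  calc Submodule.spanFinrank I = (Submodule.span (MvPolynomial (Fin 3) k) (Set.range f)).spanFinrank := by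
        rw [← hspan]
    _ ≤ (Set.range f).ncard := Submodule.spanFinrank_span_le_ncard_of_finite (Set.finite_range f)
    _ ≤ d + 1 := by omega

end Points

end Groth.Calg8
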