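import Mathlib

/-!
Lattices in `R⟦X⟧^n` between `X^M R⟦X⟧^n` and `R⟦X⟧^n`.
-/

universe u

namespace Groth.Calg8.PSLattice

open PowerSeries TensorProduct
open scoped TensorProduct

variable {R : Type u} [CommRing R]

theorem exists_eq_sum_add (M : ℕ) (s : R⟦X⟧) :
    ∃ s', s = (∑ k ∈ Finset.range M, C (coeff k s) * X ^ k) + X ^ M * s' := by
  obtain ⟨s', hs'⟩ : (X : R⟦X⟧) ^ M ∣ s - ∑ k ∈ Finset.range M, C (coeff k s) * X ^ k := by
    rw [X_pow_dvd_iff]
    intro m hm
    simp [map_sub, map_sum, coeff_C_mul, coeff_X_pow, Finset.sum_ite_eq, Finset.mem_range.2 hm]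
  exact ⟨s', by rw [← hs']; ring⟩

theorem smul_eq_sum_add {N : Type u} [AddCommGroup N] [Module R⟦X⟧ N] [Module R N]
    [IsScalarTower R R⟦X⟧ N] (M : ℕ) (s : R⟦X⟧) :
    ∃ s' : R⟦X⟧, ∀ v : N, s • v =
      (∑ k ∈ Finset.range M, coeff k s • ((X : R⟦X⟧) ^ k • v)) + (X : R⟦X⟧) ^ M • (s' • v) := by
  obtain ⟨s', hs'⟩ := exists_eq_sum_add M s
  refine ⟨s', fun v => ?_⟩
  conv_lhs => rw [hs']
  rw [add_smul, Finset.sum_smul, mul_smul]
  refine congrArg (· + _) (Finset.sum_congr rfl fun k _ => ?_)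
  rw [mul_smul]
  exact algebraMap_smul R⟦X⟧ (coeff k s) _

variable {n M : ℕ} (Λ : Submodule R⟦X⟧ (Fin n → R⟦X⟧))

/-- Coefficients below degree `M`. -/
noncomputable def tr (n M : ℕ) : (Fin n → R⟦X⟧) →ₗ[R] (Fin n → Fin M → R) :=
  LinearMap.pi fun i => LinearMap.pi fun k => (coeff (k : ℕ)) ∘ₗ LinearMap.proj i

/-- Polynomial representative. -/
noncomputable def poly (n M : ℕ) : (Fin n → Fin M → R) →ₗ[R] (Fin n → R⟦X⟧) :=
  LinearMap.pi fun i =>
    (Fintype.linearCombination R fun k : Fin M => (X : R⟦X⟧) ^ (k : ℕ)) ∘ₗ LinearMap.proj i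

theorem exists_poly_tr (f : Fin n → R⟦X⟧) :
    ∃ g : Fin n → R⟦X⟧, f = poly n M (tr n M f) + (X : R⟦X⟧) ^ M • g := by
  choose g hg using fun i => exists_eq_sum_add M (f i)
  refine ⟨g, funext fun i => ?_⟩
  rw [Pi.add_apply, Pi.smul_apply, smul_eq_mul]
  conv_lhs => rw [hg i]
  congr 1
  simp only [poly, tr, LinearMap.pi_apply, LinearMap.comp_apply, LinearMap.proj_apply,
    Fintype.linearCombination_apply]
  rw [← Fin.sum_univ_eq_sum_range (fun k => C (coeff k (f i)) * X ^ k) M]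
  exact Finset.sum_congr rfl fun k _ => by rw [smul_eq_C_mul]

theorem tr_X_pow_smul (g : Fin n → R⟦X⟧) : tr n M ((X : R⟦X⟧) ^ M • g) = 0 := by
  funext i k
  simp only [tr, LinearMap.pi_apply, LinearMap.comp_apply, LinearMap.proj_apply, Pi.smul_apply, smul_eq_mul,
    Pi.zero_apply]
  exact (X_pow_dvd_iff.1 (dvd_mul_right _ _)) _ k.2

variable (hΛ : ∀ v : Fin n → R⟦X⟧, ((X : R⟦X⟧) ^ M) • v ∈ Λ)

/-- The quotient as a quotient of a free finite `R`-module. -/
noncomputable def pQ : (Fin n → Fin M → R) →ₗ[R] (Fin n → R⟦X⟧) ⧸ Λ :=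
  (Λ.mkQ.restrictScalars R) ∘ₗ poly n M

include hΛ in
theorem pQ_tr (f : Fin n → R⟦X⟧) : pQ Λ (tr n M f) = Λ.mkQ f := by
  obtain ⟨g, hg⟩ := exists_poly_tr (M := M) f
  conv_rhs => rw [hg, map_add, (Submodule.Quotient.mk_eq_zero Λ).2 (hΛ g) |> fun h => show Λ.mkQ _ = 0 from h,
    add_zero]
  rfl

include hΛ in
theorem pQ_surjective : Function.Surjective (pQ (M := M) Λ) := fun q => by
  obtain ⟨f, rfl⟩ := Submodule.mkQ_surjective Λ q
  exact ⟨tr n M f, pQ_tr Λ hΛ f⟩

include hΛ in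
theorem finite_quotient : Module.Finite R ((Fin n → R⟦X⟧) ⧸ Λ) :=
  Module.Finite.of_surjective _ (pQ_surjective Λ hΛ)

theorem tr_poly (b : Fin n → Fin M → R) : tr n M (poly n M b) = b := by
  funext i k
  simp only [tr, poly, LinearMap.pi_apply, LinearMap.comp_apply, LinearMap.proj_apply,
    Fintype.linearCombination_apply, map_sum, map_smul, coeff_X_pow, smul_eq_mul]
  rw [Finset.sum_eq_single k (fun j _ hj => by simp [Fin.val_ne_iff.2 hj.symm])
    (fun h => absurd (Finset.mem_univ k) h)]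
  simp

include hΛ in
theorem finitePresentation_quotient [Module.Finite R⟦X⟧ Λ] :
    Module.FinitePresentation R ((Fin n → R⟦X⟧) ⧸ Λ) := by
  classical
  refine Module.finitePresentation_of_surjective _ (pQ_surjective Λ hΛ) ?_
  obtain ⟨G, hG⟩ := (Module.Finite.iff_fg.1 (inferInstance : Module.Finite R⟦X⟧ Λ))
  let gen : ℕ × (Fin n → R⟦X⟧) → (Fin n → Fin M → R) := fun p => tr n M ((X : R⟦X⟧) ^ p.1 • p.2)
  refine Submodule.fg_def.2 ⟨gen '' (Set.Iio M ×ˢ (G : Set (Fin n → R⟦X⟧))),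
    ((Set.finite_Iio M).prod G.finite_toSet).image gen, le_antisymm ?_ fun b hb => ?_⟩
  · rw [Submodule.span_le]
    rintro _ ⟨⟨k, g⟩, ⟨-, hg⟩, rfl⟩
    rw [SetLike.mem_coe, LinearMap.mem_ker, pQ_tr Λ hΛ]
    exact (Submodule.Quotient.mk_eq_zero Λ).2 (Λ.smul_mem _ (hG ▸ Submodule.subset_span hg))
  · set W := Submodule.span R (gen '' (Set.Iio M ×ˢ (G : Set (Fin n → R⟦X⟧))))
    have hmem : poly n M b ∈ Λ := (Submodule.Quotient.mk_eq_zero Λ).1 hb
    have key : ∀ v ∈ Submodule.span R⟦X⟧ (G : Set (Fin n → R⟦X⟧)),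
        ∀ s : R⟦X⟧, tr n M (s • v) ∈ W := by
      intro v hv
      induction hv using Submodule.span_induction with
      | mem g hg =>
        intro s
        obtain ⟨s', hs'⟩ := smul_eq_sum_add (N := Fin n → R⟦X⟧) M s
        rw [hs' g, map_add, tr_X_pow_smul, add_zero, map_sum]
        refine sum_mem fun k hk => ?_
        rw [map_smul]
        exact W.smul_mem _ (Submodule.subset_span
          ⟨(k, g), ⟨Finset.mem_range.1 hk, hg⟩, rfl⟩)
      | zero => intro s; rw [smul_zero, map_zero]; exact zero_mem _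
      | add a b _ _ ha hb => intro s; rw [smul_add, map_add]; exact add_mem (ha s) (hb s)
      | smul c a _ ha => intro s; rw [smul_smul]; exact ha _
    have := key _ (by rwa [hG]) 1
    rwa [one_smul, tr_poly] at this

include hΛ in
/-- A finite projective lattice has a flat quotient. -/
theorem flat_quotient [Module.Finite R⟦X⟧ Λ] [Module.Projective R⟦X⟧ Λ] :
    Module.Flat R ((Fin n → R⟦X⟧) ⧸ Λ) := by
  classical
  refine Module.Flat.of_forall_isTrivialRelation fun {l a x} hx => ?_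
  choose f hf using fun j => Submodule.mkQ_surjective Λ (x j)
  have hv : ∑ j, a j • f j ∈ Λ := by
    rw [← Submodule.Quotient.mk_eq_zero, ← hx]
    show Λ.mkQ.restrictScalars R (∑ j, a j • f j) = _
    rw [map_sum]
    refine Finset.sum_congr rfl fun j _ => ?_
    rw [map_smul]
    exact congrArg _ (hf j)
  obtain ⟨m, r, i, hr, hi, hri⟩ := Module.Finite.exists_comp_eq_id_of_projective R⟦X⟧ Λ
  let w : Λ := ⟨_, hv⟩
  let y : Fin l → Λ := fun j => ⟨_, hΛ (f j)⟩
  have hXw : (X : R⟦X⟧) ^ M • w = ∑ j, a j • y j := by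
    apply Subtype.ext
    rw [Submodule.coe_smul, Submodule.coe_sum, show (w : Fin n → R⟦X⟧) = _ from rfl, Finset.smul_sum]
    exact Finset.sum_congr rfl fun j _ => smul_comm _ _ _
  let z : Fin l → Λ := fun j => r fun c => mk fun d => coeff (d + M) (i (y j) c)
  have hw : w = ∑ j, a j • z j := by
    have h2 : i w = ∑ j, a j • (fun c => mk fun d => coeff (d + M) (i (y j) c)) := by
      funext c
      ext d
      have h3 := congrArg (fun v => coeff (d + M) (i v c)) hXw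
      simp only [map_smul, Pi.smul_apply, smul_eq_mul, map_sum, Finset.sum_apply,
        LinearMap.map_smul_of_tower, coeff_X_pow_mul] at h3 ⊢
      rw [h3]
      refine Finset.sum_congr rfl fun j _ => ?_
      simp [coeff_mk]
    calc w = r (i w) := (LinearMap.congr_fun hri w).symm
      _ = ∑ j, a j • z j := by
        rw [h2, map_sum]
        exact Finset.sum_congr rfl fun j _ => LinearMap.map_smul_of_tower r _ _
  have h4 : ∑ j, a j • tr n M (f j - (z j : Fin n → R⟦X⟧)) = 0 := by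
    simp only [← map_smul, ← map_sum]
    rw [show ∑ j, a j • (f j - (z j : Fin n → R⟦X⟧)) = 0 from ?_, map_zero]
    simp only [smul_sub, Finset.sum_sub_distrib, sub_eq_zero]
    have := congrArg Subtype.val hw
    rw [Submodule.coe_sum] at this
    exact this
  obtain ⟨k, b, y', h5, h6⟩ := Module.Flat.isTrivialRelation_of_sum_smul_eq_zero h4
  refine ⟨k, b, fun c => pQ Λ (y' c), fun j => ?_, h6⟩
  simp only [← map_smul, ← map_sum, ← h5]
  rw [pQ_tr Λ hΛ, map_sub, hf, show Λ.mkQ (z j : Fin n → R⟦X⟧) = 0 from (Submodule.Quotient.mk_eq_zero Λ).2 (z j).2,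
    sub_zero]

include hΛ in
theorem projective_quotient [Module.Finite R⟦X⟧ Λ] [Module.Projective R⟦X⟧ Λ] :
    Module.Projective R ((Fin n → R⟦X⟧) ⧸ Λ) := by
  have := flat_quotient Λ hΛ
  have := finitePresentation_quotient Λ hΛ
  exact Module.Flat.projective_of_finitePresentation

end Groth.Calg8.PSLattice

namespace Groth.Calg8.PSLattice

open PowerSeries TensorProduct
open scoped TensorProduct

section Resolution

variable {R : Type u} [CommRing R] (Q : Type u) [AddCommGroup Q] [Module R Q] [Module R⟦X⟧ Q]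
  [IsScalarTower R R⟦X⟧ Q]

/-- `s ⊗ x ↦ s • x`. -/
noncomputable def ev : R⟦X⟧ ⊗[R] Q →ₗ[R⟦X⟧] Q := LinearMap.liftBaseChange R⟦X⟧ (LinearMap.id : Q →ₗ[R] Q)

theorem ev_tmul (s : R⟦X⟧) (x : Q) : ev Q (s ⊗ₜ[R] x) = s • x := by simp [ev]

/-- Multiplication by the variable on the module. -/
noncomputable def xQ : Q →ₗ[R] Q := ((X : R⟦X⟧) • (LinearMap.id : Q →ₗ[R⟦X⟧] Q)).restrictScalars R

theorem xQ_pow (k : ℕ) : ∀ x : Q, (xQ (R := R) Q ^ k) x = (X : R⟦X⟧) ^ k • x := by
  induction k with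
  | zero => intro x; simp
  | succ k ih => intro x; rw [pow_succ', Module.End.mul_apply, ih, pow_succ', mul_smul]; rfl

/-- The difference of the two actions of the variable. -/
noncomputable def φ : R⟦X⟧ ⊗[R] Q →ₗ[R⟦X⟧] R⟦X⟧ ⊗[R] Q :=
  (X : R⟦X⟧) • LinearMap.id - (xQ Q).baseChange R⟦X⟧

theorem φ_tmul (s : R⟦X⟧) (x : Q) :
    φ Q (s ⊗ₜ[R] x) = (s * X) ⊗ₜ[R] x - s ⊗ₜ[R] ((X : R⟦X⟧) • x) := by
  simp [φ, xQ, TensorProduct.smul_tmul', mul_comm]

theorem ev_φ (t : R⟦X⟧ ⊗[R] Q) : ev Q (φ Q t) = 0 := by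
  induction t using TensorProduct.induction_on with
  | zero => simp
  | add a b ha hb => rw [map_add, map_add, ha, hb, add_zero]
  | tmul s x => rw [φ_tmul, map_sub, ev_tmul, ev_tmul, mul_smul, sub_self]

variable {Q} (M : ℕ) (hQ : ∀ x : Q, (X : R⟦X⟧) ^ M • x = 0)

include hQ in
theorem φ_injective [Module.Projective R Q] : Function.Injective (φ (R := R) Q) := by
  rw [injective_iff_map_eq_zero]
  intro t ht
  have h1 : (X : R⟦X⟧) • t = (xQ Q).baseChange R⟦X⟧ t := sub_eq_zero.1 ht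
  have h2 : ∀ k, (X : R⟦X⟧) ^ k • t = ((xQ Q ^ k).baseChange R⟦X⟧) t := by
    intro k
    induction k with
    | zero =>
      rw [pow_zero, one_smul, pow_zero, show (1 : Module.End R Q) = LinearMap.id from rfl, LinearMap.baseChange_id,
        LinearMap.id_apply]
    | succ k ih =>
      rw [pow_succ, mul_smul, h1, ← map_smul, ih, pow_succ', show xQ (R := R) Q * xQ Q ^ k = xQ Q ∘ₗ (xQ Q ^ k) from rfl,
        LinearMap.baseChange_comp, LinearMap.comp_apply]
  have h3 : (X : R⟦X⟧) ^ M • t = 0 := by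
    rw [h2, show xQ (R := R) Q ^ M = 0 from LinearMap.ext fun x => by rw [xQ_pow, hQ]; rfl,
      LinearMap.baseChange_zero, LinearMap.zero_apply]
  obtain ⟨s, hs⟩ := Module.projective_def'.1
    (inferInstance : Module.Projective R⟦X⟧ (R⟦X⟧ ⊗[R] Q))
  have h4 : s t = 0 := by
    have h5 := congrArg s h3
    rw [map_smul, map_zero] at h5
    ext b d
    have h6 := congrArg (coeff (d + M)) (DFunLike.congr_fun h5 b)
    rw [Finsupp.smul_apply, smul_eq_mul, coeff_X_pow_mul] at h6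
    simpa using h6
  have := LinearMap.congr_fun hs t
  rw [LinearMap.comp_apply, h4, map_zero, LinearMap.id_apply] at this
  exact this.symm

include hQ in
theorem ker_ev : LinearMap.ker (ev (R := R) Q) = LinearMap.range (φ Q) := by
  classical
  have hpow : ∀ (k : ℕ) (x : Q), ((X : R⟦X⟧) ^ k) ⊗ₜ[R] x - (1 : R⟦X⟧) ⊗ₜ[R] ((X : R⟦X⟧) ^ k • x) ∈
      LinearMap.range (φ Q) := by
    intro k
    induction k with
    | zero => intro x; simp
    | succ k ih =>
      intro x
      have h2 := add_mem (LinearMap.mem_range_self (φ Q) (((X : R⟦X⟧) ^ k) ⊗ₜ[R] x)) (ih ((X : R⟦X⟧) • x))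
      rwa [φ_tmul, sub_add_sub_cancel, ← pow_succ, smul_smul, ← pow_succ] at h2
  have hexact : ∀ t, t - (1 : R⟦X⟧) ⊗ₜ[R] ev Q t ∈ LinearMap.range (φ Q) := by
    intro t
    induction t using TensorProduct.induction_on with
    | zero => simp
    | add a b ha hb =>
      have := add_mem ha hb
      rwa [← add_sub_add_comm, ← tmul_add, ← map_add] at this
    | tmul s x =>
      obtain ⟨s', hs'⟩ := exists_eq_sum_add M s
      rw [hs', add_tmul, sum_tmul, map_add, map_sum, tmul_add, tmul_sum, add_sub_add_comm, ← Finset.sum_sub_distrib]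
      refine add_mem (sum_mem fun k _ => ?_) ?_
      · have := Submodule.smul_mem _ (C (coeff k s)) (hpow k x)
        have hC : ∀ y : Q, (C (coeff k s)) ⊗ₜ[R] y = (1 : R⟦X⟧) ⊗ₜ[R] (C (coeff k s) • y) := fun y => by
          rw [show C (coeff k s) = coeff k s • (1 : R⟦X⟧) from Algebra.algebraMap_eq_smul_one _,
            TensorProduct.smul_tmul, smul_assoc, one_smul]
        rw [smul_sub, smul_tmul', smul_eq_mul, smul_tmul', smul_eq_mul, mul_one, hC, smul_smul] at this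
        rwa [ev_tmul]
      · rw [ev_tmul, mul_smul, hQ, tmul_zero, sub_zero, mul_comm, ← smul_eq_mul, ← smul_tmul']
        refine Submodule.smul_mem _ _ ?_
        have := hpow M x
        rwa [hQ, tmul_zero, sub_zero] at this
  refine le_antisymm (fun t ht => ?_) ?_
  · have := hexact t
    rwa [LinearMap.mem_ker.1 ht, tmul_zero, sub_zero] at this
  · rintro _ ⟨t, rfl⟩
    exact ev_φ Q t

/-- The free lift of a section. -/
theorem ev_lift {N : Type u} [AddCommGroup N] [Module R N] [Module R⟦X⟧ N] [IsScalarTower R R⟦X⟧ N]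
    (q : N →ₗ[R⟦X⟧] Q) (σ : Q →ₗ[R] N) (hσ : ∀ x, q (σ x) = x) (p : R⟦X⟧ ⊗[R] Q) :
    q (LinearMap.liftBaseChange R⟦X⟧ σ p) = ev Q p := by
  induction p using TensorProduct.induction_on with
  | zero => simp
  | add a b ha hb => rw [map_add, map_add, map_add, ha, hb]
  | tmul s x => rw [LinearMap.liftBaseChange_tmul, map_smul, hσ, ev_tmul]

include hQ in
/-- The kernel of a surjection from a finite free module onto a killed `R`-projective module. -/
theorem finite_projective_ker [Module.Finite R Q] [Module.Projective R Q] {n : ℕ}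
    (q : (Fin n → R⟦X⟧) →ₗ[R⟦X⟧] Q) (hq : Function.Surjective q) :
    Module.Finite R⟦X⟧ (LinearMap.ker q) ∧ Module.Projective R⟦X⟧ (LinearMap.ker q) := by
  classical
  obtain ⟨σ, hσ⟩ := Module.projective_lifting_property (q.restrictScalars R) LinearMap.id hq
  let ψ := LinearMap.liftBaseChange R⟦X⟧ σ
  have hqψ : ∀ p, q (ψ p) = ev Q p := ev_lift q σ fun x => LinearMap.congr_fun hσ x
  let θ : (Fin n → R⟦X⟧) →ₗ[R⟦X⟧] R⟦X⟧ ⊗[R] Q :=
    (Pi.basisFun R⟦X⟧ (Fin n)).constr R⟦X⟧ fun i => 1 ⊗ₜ[R] q (Pi.single i 1)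
  have hεθ : ∀ f, ev Q (θ f) = q f := fun f => LinearMap.congr_fun
    ((Pi.basisFun R⟦X⟧ (Fin n)).ext (f₁ := ev Q ∘ₗ θ) (f₂ := q) fun i => by
      simp [θ, ev_tmul, Pi.basisFun_apply]) f
  let eK : (R⟦X⟧ ⊗[R] Q) ≃ₗ[R⟦X⟧] LinearMap.ker (ev (R := R) Q) :=
    (LinearEquiv.ofInjective (φ Q) (φ_injective M hQ)).trans (LinearEquiv.ofEq _ _ (ker_ev M hQ).symm)
  have : Module.Projective R⟦X⟧ (LinearMap.ker (ev (R := R) Q)) := Module.Projective.of_equiv eK
  have : Module.Finite R⟦X⟧ (LinearMap.ker (ev (R := R) Q)) := Module.Finite.equiv eK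
  let K := LinearMap.ker q
  let i : K →ₗ[R⟦X⟧] (Fin n → R⟦X⟧) × LinearMap.ker (ev (R := R) Q) :=
    K.subtype.prod ((-(θ ∘ₗ K.subtype)).codRestrict _ fun v => by
      simp [hεθ, LinearMap.mem_ker.1 v.2, K])
  let r : (Fin n → R⟦X⟧) × LinearMap.ker (ev (R := R) Q) →ₗ[R⟦X⟧] K :=
    (LinearMap.fst _ _ _ - ψ ∘ₗ (θ ∘ₗ LinearMap.fst _ _ _ + (LinearMap.ker (ev (R := R) Q)).subtype ∘ₗ
      LinearMap.snd _ _ _)).codRestrict K fun v => by
        rw [LinearMap.mem_ker]
        simp [hqψ, hεθ, LinearMap.mem_ker.1 v.2.2]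
  have hri : r ∘ₗ i = LinearMap.id := LinearMap.ext fun v => Subtype.ext (by simp [r, i])
  exact ⟨Module.Finite.of_surjective r fun v => ⟨i v, LinearMap.congr_fun hri v⟩,
    Module.Projective.of_split i r hri⟩

end Resolution

variable {R : Type u} [CommRing R] {n M : ℕ} (Λ : Submodule R⟦X⟧ (Fin n → R⟦X⟧))
  (hΛ : ∀ v : Fin n → R⟦X⟧, ((X : R⟦X⟧) ^ M) • v ∈ Λ)

include hΛ in
/-- A lattice with projective quotient is finite projective. -/
theorem finite_projective_lattice [Module.Projective R ((Fin n → R⟦X⟧) ⧸ Λ)] :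
    Module.Finite R⟦X⟧ Λ ∧ Module.Projective R⟦X⟧ Λ := by
  have := finite_quotient Λ hΛ
  have h := finite_projective_ker M (fun x => by
    obtain ⟨f, rfl⟩ := Submodule.mkQ_surjective Λ x
    rw [← map_smul]
    exact (Submodule.Quotient.mk_eq_zero Λ).2 (hΛ f)) Λ.mkQ (Submodule.mkQ_surjective Λ)
  rwa [Submodule.ker_mkQ] at h

end Groth.Calg8.PSLattice
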