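import Mathlib

/-!
Right resolutions of bounded below complexes in a class of objects into which every object embeds.
-/

universe v u

open CategoryTheory Limits HomologicalComplex

namespace Groth.Calg8.RightRes

variable {A : Type u} [Category.{v} A] [Abelian A] (I : A → Prop)
  (hI : ∀ X : A, ∃ (Y : A) (ι : X ⟶ Y), I Y ∧ Mono ι) (M : CochainComplex A ℕ)

/-- The data built at each degree. -/
structure Stage (n : ℕ) where
  X : A
  C : A
  f : M.X n ⟶ X
  q : X ⟶ C
  g : M.opcycles n ⟶ C
  hX : I X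
  monoF : Mono f
  monoG : Mono g
  comm : f ≫ q = M.pOpcycles n ≫ g

variable {I M}

/-- A chosen embedding. -/
noncomputable def emb (X : A) : A := (hI X).choose
/-- A chosen embedding. -/
noncomputable def embι (X : A) : X ⟶ emb hI X := (hI X).choose_spec.choose

theorem emb_mem (X : A) : I (emb hI X) := (hI X).choose_spec.choose_spec.1

theorem mono_embι (X : A) : Mono (embι hI X) := (hI X).choose_spec.choose_spec.2

theorem prev_succ (n : ℕ) : (ComplexShape.up ℕ).prev (n + 1) = n := by simp

/-- The differential leaving a stage. -/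
noncomputable def Stage.d {n : ℕ} (s : Stage I M n) :
    s.X ⟶ emb hI (pushout (M.fromOpcycles n (n + 1)) s.g) :=
  s.q ≫ pushout.inr _ _ ≫ embι hI _

theorem Stage.f_d {n : ℕ} (s : Stage I M n) :
    s.f ≫ s.d hI = M.d n (n + 1) ≫ pushout.inl (M.fromOpcycles n (n + 1)) s.g ≫ embι hI _ := by
  rw [Stage.d, reassoc_of% s.comm, ← pushout.condition_assoc, p_fromOpcycles_assoc]

/-- The next stage. -/
noncomputable def Stage.next {n : ℕ} (s : Stage I M n) : Stage I M (n + 1) where
  X := emb hI (pushout (M.fromOpcycles n (n + 1)) s.g)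
  C := cokernel (s.d hI)
  f := pushout.inl _ _ ≫ embι hI _
  q := cokernel.π _
  g := M.descOpcycles ((pushout.inl _ _ ≫ embι hI _) ≫ cokernel.π (s.d hI)) n (prev_succ n) (by
    have h := congrArg (· ≫ cokernel.π (s.d hI)) (s.f_d hI)
    simp only [Category.assoc, cokernel.condition, comp_zero] at h ⊢
    exact h.symm)
  hX := emb_mem hI _
  monoF := by
    have := s.monoG
    have := mono_embι hI (pushout (M.fromOpcycles n (n + 1)) s.g)
    infer_instance
  monoG := by
    have := mono_embι hI (pushout (M.fromOpcycles n (n + 1)) s.g)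
    refine Preadditive.mono_of_cancel_zero _ fun {T} x hx => ?_
    obtain ⟨T', π, hπ, y, hy⟩ := surjective_up_to_refinements_of_epi (M.pOpcycles (n + 1)) x
    have h1 : (y ≫ pushout.inl (M.fromOpcycles n (n + 1)) s.g ≫ embι hI _) ≫ cokernel.π (s.d hI) = 0 := by
      have h := congrArg (π ≫ ·) hx
      simp only [reassoc_of% hy, p_descOpcycles, comp_zero] at h
      simpa only [Category.assoc] using h
    obtain ⟨T'', π', hπ', z, hz⟩ := (ShortComplex.exact_cokernel (s.d hI)).exact_up_to_refinements _ h1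
    have h2 : π' ≫ y ≫ pushout.inl (M.fromOpcycles n (n + 1)) s.g = z ≫ s.q ≫ pushout.inr _ _ := by
      rw [← cancel_mono (embι hI _)]
      simpa [Stage.d] using hz
    let φ : pushout (M.fromOpcycles n (n + 1)) s.g ⟶ M.opcycles (n + 1) :=
      pushout.desc (M.pOpcycles (n + 1)) 0 (by
        rw [← cancel_epi (M.pOpcycles n), p_fromOpcycles_assoc, d_pOpcycles, comp_zero, comp_zero])
    have h3 := congrArg (· ≫ φ) h2
    simp only [Category.assoc, φ, pushout.inl_desc, pushout.inr_desc, comp_zero] at h3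
    rw [← cancel_epi π, comp_zero, hy, ← cancel_epi π', comp_zero]
    exact h3
  comm := (p_descOpcycles _ _ _ _ _).symm

/-- The first stage. -/
noncomputable def stage0 : Stage I M 0 where
  X := emb hI (M.X 0)
  C := emb hI (M.X 0)
  f := embι hI _
  q := 𝟙 _
  g := M.descOpcycles (embι hI _) 0 (by simp) (by simp)
  hX := emb_mem hI _
  monoF := mono_embι hI _
  monoG := by
    have : IsIso (M.pOpcycles 0) := M.isIso_pOpcycles 0 0 (by simp) (by simp)
    have := mono_embι hI (M.X 0)
    have h : M.descOpcycles (embι hI (M.X 0)) 0 (by simp) (by simp) = inv (M.pOpcycles 0) ≫ embι hI _ := by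
      rw [← cancel_epi (M.pOpcycles 0), p_descOpcycles, IsIso.hom_inv_id_assoc]
    rw [h]
    infer_instance
  comm := by rw [p_descOpcycles, Category.comp_id]

variable (M) in
/-- All stages. -/
noncomputable def stages : ∀ n, Stage I M n
  | 0 => stage0 hI
  | n + 1 => (stages n).next hI

variable (M) in
/-- The resolution. -/
noncomputable def res : CochainComplex A ℕ :=
  CochainComplex.of (fun n => (stages hI M n).X) (fun n => (stages hI M n).d hI) fun n => by
    show (stages hI M n).d hI ≫ (cokernel.π ((stages hI M n).d hI) ≫ _) = 0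
    rw [cokernel.condition_assoc, zero_comp]

theorem res_d (n : ℕ) : (res hI M).d n (n + 1) = (stages hI M n).d hI :=
  CochainComplex.of_d (X := fun n => (stages hI M n).X) (d := fun n => (stages hI M n).d hI) n

variable (M) in
/-- The map to the resolution. -/
noncomputable def resMap : M ⟶ res hI M where
  f n := (stages hI M n).f
  comm' i j hij := by
    obtain rfl : i + 1 = j := hij
    rw [res_d]
    exact (stages hI M i).f_d hI

theorem mono_resMap (n : ℕ) : Mono ((resMap hI M).f n) := (stages hI M n).monoF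

theorem exists_eq_d (n : ℕ) {T : A} (z : T ⟶ (res hI M).X n) (hz : z ≫ (stages hI M n).q = 0) :
    ∃ (T' : A) (π : T' ⟶ T) (_ : Epi π) (y : T' ⟶ (res hI M).X ((ComplexShape.up ℕ).prev n)),
      π ≫ z = y ≫ (res hI M).d _ n := by
  rcases n with _ | m
  · refine ⟨T, 𝟙 _, inferInstance, 0, ?_⟩
    have h : z = 0 := (Category.comp_id z).symm.trans hz
    rw [h, comp_zero, zero_comp]
  · rw [prev_succ, res_d]
    obtain ⟨T', π, hπ, y, hy⟩ := (ShortComplex.exact_cokernel ((stages hI M m).d hI)).exact_up_to_refinements z hz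
    exact ⟨T', π, hπ, y, hy⟩

theorem quasiIso_resMap : QuasiIso (resMap hI M) := by
  refine ⟨fun n => ?_⟩
  rw [quasiIsoAt_iff_isIso_homologyMap]
  have hmono : Mono (homologyMap (resMap hI M) n) := by
    rw [mono_homologyMap_iff_up_to_refinements _ _ n (n + 1) rfl (by simp)]
    intro T x _ y hy
    rw [← comp_pOpcycles_eq_zero_iff_up_to_refinements M x _ rfl]
    have := (stages hI M n).monoG
    rw [← cancel_mono (stages hI M n).g, zero_comp, Category.assoc, ← (stages hI M n).comm, ← Category.assoc]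
    show (x ≫ (resMap hI M).f n) ≫ _ = 0
    rw [hy, Category.assoc]
    rcases n with _ | m
    · rw [(res hI M).shape _ _ (by simp), zero_comp, comp_zero]
    · have h0 : (res hI M).d ((ComplexShape.up ℕ).prev (m + 1)) (m + 1) ≫ (stages hI M (m + 1)).q = 0 := by
        rw [prev_succ, res_d]; exact cokernel.condition _
      rw [h0, comp_zero]
  have hepi : Epi (homologyMap (resMap hI M) n) := by
    rw [epi_homologyMap_iff_up_to_refinements _ _ n (n + 1) rfl (by simp)]
    intro T z hz
    let s := stages hI M n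
    rw [res_d] at hz
    obtain ⟨zr, hzr⟩ : ∃ zr : T ⟶ s.X, zr = z := ⟨_, rfl⟩
    obtain ⟨zs, hzs⟩ : ∃ zs : T ⟶ s.C, zs = z ≫ s.q := ⟨_, rfl⟩
    have hz' : zs ≫ pushout.inr (M.fromOpcycles n (n + 1)) s.g = 0 := by
      have := mono_embι hI (pushout (M.fromOpcycles n (n + 1)) s.g)
      rw [← cancel_mono (embι hI _), zero_comp, Category.assoc, hzs]
      exact (Category.assoc _ _ _).trans hz
    have sq := IsPushout.of_hasPushout (M.fromOpcycles n (n + 1)) s.g
    let S : ShortComplex A := ShortComplex.mk (X₂ := M.X (n + 1) ⊞ s.C) (biprod.lift (M.fromOpcycles n (n + 1)) (-s.g))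
      (biprod.desc (pushout.inl (M.fromOpcycles n (n + 1)) s.g) (pushout.inr (M.fromOpcycles n (n + 1)) s.g))
      (by simp [pushout.condition])
    have hS : S.Exact := sq.exact_shortComplex
    have h0 : (zs ≫ biprod.inr : T ⟶ M.X (n + 1) ⊞ s.C) ≫
        biprod.desc (pushout.inl (M.fromOpcycles n (n + 1)) s.g) (pushout.inr (M.fromOpcycles n (n + 1)) s.g) = 0 := by
      rw [Category.assoc, biprod.inr_desc, hz']
    obtain ⟨T', π, hπ, w, hw⟩ : ∃ (T' : A) (π : T' ⟶ T) (_ : Epi π) (w : T' ⟶ M.opcycles n),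
        π ≫ zs ≫ (biprod.inr : s.C ⟶ M.X (n + 1) ⊞ s.C) = w ≫ biprod.lift (M.fromOpcycles n (n + 1)) (-s.g) :=
      hS.exact_up_to_refinements (zs ≫ biprod.inr) h0
    have hw1 : w ≫ M.fromOpcycles n (n + 1) = 0 := by
      have := congrArg (· ≫ biprod.fst) hw
      simpa using this.symm
    have hw2 : -(w ≫ s.g) = π ≫ zs := by
      have := congrArg (· ≫ biprod.snd) hw
      simpa using this.symm
    obtain ⟨T'', π', hπ', x, hx⟩ := surjective_up_to_refinements_of_epi (M.pOpcycles n) (-w)
    have hxd : x ≫ M.d n (n + 1) = 0 := by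
      rw [← p_fromOpcycles, ← reassoc_of% hx, Preadditive.neg_comp, hw1, neg_zero, comp_zero]
    have hdiff : (π' ≫ π ≫ zr - x ≫ s.f) ≫ s.q = 0 := by
      rw [Preadditive.sub_comp, Category.assoc, Category.assoc, Category.assoc, s.comm, ← reassoc_of% hx,
        Preadditive.neg_comp, hw2, hzs, hzr]
      exact sub_self _
    obtain ⟨T₃, π'', hπ'', y, hy⟩ := exists_eq_d hI n _ hdiff
    refine ⟨T₃, π'' ≫ π' ≫ π, inferInstance, π'' ≫ x, by rw [Category.assoc, hxd, comp_zero], y, ?_⟩
    rw [← hy]
    show (π'' ≫ π' ≫ π) ≫ z = (π'' ≫ x) ≫ s.f + π'' ≫ (π' ≫ π ≫ zr - x ≫ s.f)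
    rw [← hzr]
    simp
    rfl
  exact isIso_of_mono_of_epi _

/-- Replace the objects of a complex by isomorphic ones. -/
theorem exists_of_iso {ι : Type*} {c : ComplexShape ι} (L : HomologicalComplex A c) (Y : ι → A) (e : ∀ n, L.X n ≅ Y n) :
    ∃ (L' : HomologicalComplex A c) (i : L ≅ L'), L'.X = Y := by
  let L' : HomologicalComplex A c :=
    { X := Y
      d := fun i j => (e i).inv ≫ L.d i j ≫ (e j).hom
      shape := fun i j h => by rw [L.shape _ _ h, zero_comp, comp_zero] }
  exact ⟨L', Hom.isoOfComponents (fun n => e n) (fun i j _ => by simp [L']), rfl⟩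

include hI in
theorem exists_resolution_aux (hI0 : ∃ Z : A, IsZero Z ∧ I Z) (a : ℤ) (N : CochainComplex A ℕ) :
    ∃ (L : CochainComplex A ℤ) (α : N.extend (ComplexShape.embeddingUpIntGE a) ⟶ L),
      L.IsStrictlyGE a ∧ (∀ n, I (L.X n)) ∧ (∀ n, Mono (α.f n)) ∧ QuasiIso α := by
  classical
  obtain ⟨Z, hZ, hIZ⟩ := hI0
  let e := ComplexShape.embeddingUpIntGE a
  let L₀ := (res hI N).extend e
  let Y : ℤ → A := fun n => if h : ∃ j, e.f j = n then (res hI N).X h.choose else Z
  have hY : ∀ n, Nonempty (L₀.X n ≅ Y n) := fun n => by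
    by_cases h : ∃ j, e.f j = n
    · simp only [Y, dif_pos h]
      exact ⟨(res hI N).extendXIso e h.choose_spec⟩
    · simp only [Y, dif_neg h]
      exact ⟨((res hI N).isZero_extend_X e n (by simpa using h)).iso hZ⟩
  obtain ⟨L, i, hL⟩ := exists_of_iso L₀ Y fun n => (hY n).some
  refine ⟨L, extendMap (resMap hI N) e ≫ i.hom, ?_, fun n => ?_, fun n => ?_, ?_⟩
  · refine ⟨fun n hn => ?_⟩
    exact ((res hI N).isZero_extend_X e n hn).of_iso ((eval A _ n).mapIso i).symm
  · rw [hL]
    by_cases h : ∃ j, e.f j = n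
    · simp only [Y, dif_pos h]
      exact (stages hI N h.choose).hX
    · simp only [Y, dif_neg h]
      exact hIZ
  · have : IsIso (i.hom.f n) := inferInstanceAs (IsIso ((eval A _ n).map i.hom))
    rw [comp_f]
    by_cases h : ∃ j, e.f j = n
    · obtain ⟨j, hj⟩ := h
      have := mono_resMap hI (M := N) j
      rw [extendMap_f _ _ hj]
      infer_instance
    · have : Mono ((extendMap (resMap hI N) e).f n) :=
        ⟨fun _ _ _ => (N.isZero_extend_X e n (by simpa using h)).eq_of_tgt _ _⟩
      infer_instance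
  · have := quasiIso_resMap hI (M := N)
    infer_instance

include hI in
theorem exists_resolution (hI0 : ∃ Z : A, IsZero Z ∧ I Z) (K : CochainComplex A ℤ) (a : ℤ) [K.IsGE a] :
    ∃ (L : CochainComplex A ℤ) (α : K.truncGE a ⟶ L),
      L.IsStrictlyGE a ∧ (∀ n, I (L.X n)) ∧ (∀ n, Mono (α.f n)) ∧ QuasiIso α :=
  exists_resolution_aux hI hI0 a (HomologicalComplex.truncGE' K (ComplexShape.embeddingUpIntGE a))

end Groth.Calg8.RightRes
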