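import Groth.Agent.Sga3.SubHopfFlat
import Groth.Agent.Misc13.CauchyBinet
import Groth.Prelude.Def_CAlgX
import Mathlib

/-!
Matrices with a unit minor and vanishing larger minors: the image is a free direct summand.
-/

universe u

namespace Groth.Calg8.SplitMatrix

open Matrix

variable {R : Type u} [CommRing R] {n m r : ℕ} (A : Matrix (Fin n) (Fin m) R)

/-- Columns as vectors. -/
theorem minorIdeal_range_le (s : ℕ) :
    Groth.Sga3.SubHopfFlat.minorIdeal (LinearMap.range A.mulVecLin) s ≤ CAlgX.minorIdeal A s := by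
  classical
  rw [Groth.Sga3.SubHopfFlat.minorIdeal, Ideal.span_le]
  rintro _ ⟨x, f, hx, rfl⟩
  choose z hz using hx
  let D : MultilinearMap R (fun _ : Fin s => Fin m → R) R :=
    ((Matrix.detRowAlternating (R := R) (n := Fin s)).toMultilinearMap).compLinearMap
      fun _ => (LinearMap.funLeft R R f).comp A.mulVecLin
  have h : D z ∈ CAlgX.minorIdeal A s := by
    refine Groth.Sga3.SubHopfFlat.multilinear_mem D (L := Set.range fun j : Fin m => Pi.single j (1 : R))
      (fun g hg => ?_) fun i => ?_
    · choose j hj using hg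
      have : D g = (A.submatrix f j).det := by
        rw [← Matrix.det_transpose (A.submatrix f j)]
        show Matrix.det (fun i k => (A *ᵥ g i) (f k)) = _
        congr 1
        funext i k
        simp [← hj i]
      rw [this]
      exact Ideal.subset_span ⟨(f, j), rfl⟩
    · rw [pi_eq_sum_univ' (z i)]
      exact sum_mem fun j _ => Submodule.smul_mem _ _ (Submodule.subset_span ⟨j, rfl⟩)
  convert! h using 1
  show Matrix.det (fun i j => x i (f j)) = Matrix.det (fun i j => (A *ᵥ z i) (f j))
  congr 1
  funext i j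
  rw [← hz i]
  rfl

/-- The `r` columns of a unit minor form a basis of the image and the image is a direct summand. -/
theorem exists_proj_and_basis (hb : CAlgX.minorIdeal A (r + 1) = ⊥) (f : Fin r → Fin n) (g : Fin r → Fin m)
    (hu : IsUnit (A.submatrix f g).det) :
    (∃ π : (Fin n → R) →ₗ[R] (Fin n → R),
      (∀ v, π v ∈ LinearMap.range A.mulVecLin) ∧ ∀ y ∈ LinearMap.range A.mulVecLin, π y = y) ∧
    Nonempty (Module.Basis (Fin r) R (LinearMap.range A.mulVecLin)) := by
  classical
  let K := LinearMap.range A.mulVecLin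
  let x : Fin r → Fin n → R := fun i => A.col (g i)
  have hx : ∀ i, x i ∈ K := fun i => ⟨Pi.single (g i) 1, by rw [Matrix.mulVecLin_apply, Matrix.mulVec_single_one]⟩
  have hdet : Matrix.det (fun i j => x i (f j)) = (A.submatrix f g).det := by
    rw [← Matrix.det_transpose]; rfl
  have hK : Groth.Sga3.SubHopfFlat.minorIdeal K (r + 1) = ⊥ :=
    le_bot_iff.1 (hb ▸ minorIdeal_range_le A (r + 1))
  obtain ⟨π, hπK, hπ⟩ := Groth.Sga3.SubHopfFlat.exists_partial_projection hK x f hx
  rw [hdet] at hπ
  obtain ⟨u, hu⟩ := hu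
  let π' : (Fin n → R) →ₗ[R] (Fin n → R) := ((↑u⁻¹ : R) ^ 2) • π
  have hπ' : ∀ y ∈ K, π' y = y := fun y hy => by
    rw [LinearMap.smul_apply, hπ y hy, ← hu, smul_smul, ← mul_pow, Units.inv_mul, one_pow, one_smul]
  let Mx : Matrix (Fin r) (Fin r) R := Matrix.of fun i j => x i (f j)
  have hM : IsUnit Mx := by
    rw [Matrix.isUnit_iff_isUnit_det, show Mx.det = _ from hdet, ← hu]
    exact u.isUnit
  have hli : LinearIndependent R x := by
    refine LinearIndependent.of_comp (LinearMap.funLeft R R f) ?_
    exact Matrix.linearIndependent_rows_of_isUnit hM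
  have hspan : K ≤ Submodule.span R (Set.range x) := by
    intro y hy
    let c : Fin r → R := fun i => (Matrix.vecMul (fun j => y (f j)) Mx⁻¹) i
    let z := y - ∑ i, c i • x i
    have hz : z ∈ K := sub_mem hy (sum_mem fun i _ => K.smul_mem _ (hx i))
    have hzf : ∀ j, z (f j) = 0 := fun j => by
      have h1 : Matrix.vecMul c Mx = fun j => y (f j) := by
        show Matrix.vecMul (Matrix.vecMul _ _) _ = _
        rw [Matrix.vecMul_vecMul, Matrix.nonsing_inv_mul _ ((Matrix.isUnit_iff_isUnit_det _).1 hM), Matrix.vecMul_one]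
      have h2 := congrFun h1 j
      simp only [Matrix.vecMul, dotProduct, Mx, Matrix.of_apply] at h2
      simp only [z, Pi.sub_apply, Finset.sum_apply, Pi.smul_apply, smul_eq_mul, h2, sub_self]
    have hz0 : z = 0 := by
      funext l
      -- expand the bordered minor
      let x' : Fin (r + 1) → Fin n → R := Fin.cons z x
      let f' : Fin (r + 1) → Fin n := Fin.cons l f
      have hmem : Matrix.det (fun i j => x' i (f' j)) ∈ Groth.Sga3.SubHopfFlat.minorIdeal K (r + 1) :=
        Groth.Sga3.SubHopfFlat.det_mem x' f' fun i => Fin.cases hz hx i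
      rw [hK, Ideal.mem_bot, Matrix.det_succ_row_zero, Fin.sum_univ_succ] at hmem
      simp only [x', f', Fin.cons_zero, Fin.cons_succ, hzf, mul_zero, zero_mul, Finset.sum_const_zero, add_zero,
        Fin.val_zero, pow_zero, one_mul, Fin.succAbove_zero] at hmem
      have : Matrix.submatrix (fun i j => x' i (f' j) : Matrix (Fin (r + 1)) (Fin (r + 1)) R) Fin.succ Fin.succ =
          Mx := by
        funext i j; rfl
      rw [this] at hmem
      exact ((Matrix.isUnit_iff_isUnit_det _).1 hM).mul_left_eq_zero.1 hmem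
    rw [show y = ∑ i, c i • x i from sub_eq_zero.1 hz0]
    exact sum_mem fun i _ => Submodule.smul_mem _ _ (Submodule.subset_span ⟨i, rfl⟩)
  have hspaneq : Submodule.span R (Set.range x) = K :=
    le_antisymm (Submodule.span_le.2 (Set.range_subset_iff.2 hx)) hspan
  exact ⟨⟨π', fun v => K.smul_mem _ (hπK v), hπ'⟩,
    ⟨(Module.Basis.span hli).map (LinearEquiv.ofEq _ _ hspaneq)⟩⟩

variable [IsLocalRing R]

theorem exists_unit_minor (ht : CAlgX.minorIdeal A r = ⊤) :
    ∃ (f : Fin r → Fin n) (g : Fin r → Fin m), IsUnit (A.submatrix f g).det := by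
  by_contra! h
  refine (IsLocalRing.maximalIdeal.isMaximal R).ne_top (top_le_iff.1 (ht ▸ Ideal.span_le.2 ?_))
  rintro _ ⟨⟨f, g⟩, rfl⟩
  exact h f g

/-- A matrix of constant rank `r`. -/
theorem constantRank (hb : CAlgX.minorIdeal A (r + 1) = ⊥) (ht : CAlgX.minorIdeal A r = ⊤) :
    (∃ π : (Fin n → R) →ₗ[R] (Fin n → R),
      (∀ v, π v ∈ LinearMap.range A.mulVecLin) ∧ ∀ y ∈ LinearMap.range A.mulVecLin, π y = y) ∧
    Nonempty (LinearMap.range A.mulVecLin ≃ₗ[R] (Fin r → R)) ∧
    Module.Free R (LinearMap.ker A.mulVecLin) ∧ Module.Finite R (LinearMap.ker A.mulVecLin) ∧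
    Module.finrank R (LinearMap.ker A.mulVecLin) + r = m := by
  classical
  obtain ⟨f, g, hu⟩ := exists_unit_minor A ht
  obtain ⟨hπ, ⟨b⟩⟩ := exists_proj_and_basis A hb f g hu
  have : Module.Free R (LinearMap.range A.mulVecLin) := Module.Free.of_basis b
  have : Module.Finite R (LinearMap.range A.mulVecLin) := Module.Finite.of_basis b
  obtain ⟨s, hs⟩ := Module.projective_lifting_property A.mulVecLin.rangeRestrict LinearMap.id
    A.mulVecLin.surjective_rangeRestrict
  have hss : ∀ y, A.mulVecLin (s y) = y := fun y => congrArg Subtype.val (LinearMap.congr_fun hs y)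
  let i : LinearMap.ker A.mulVecLin →ₗ[R] (Fin m → R) := (LinearMap.ker A.mulVecLin).subtype
  let p : (Fin m → R) →ₗ[R] LinearMap.ker A.mulVecLin :=
    (LinearMap.id - s ∘ₗ A.mulVecLin.rangeRestrict).codRestrict _ fun v => by
      rw [LinearMap.mem_ker, LinearMap.sub_apply, map_sub, LinearMap.id_apply, LinearMap.comp_apply, hss]
      exact sub_self _
  have hpi : p ∘ₗ i = LinearMap.id := LinearMap.ext fun v => Subtype.ext (by
    show (v : Fin m → R) - s (A.mulVecLin.rangeRestrict v) = v
    rw [show A.mulVecLin.rangeRestrict (v : Fin m → R) = 0 from Subtype.ext (LinearMap.mem_ker.1 v.2), map_zero,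
      sub_zero])
  have : Module.Finite R (LinearMap.ker A.mulVecLin) :=
    Module.Finite.of_surjective p fun v => ⟨i v, LinearMap.congr_fun hpi v⟩
  have : Module.Projective R (LinearMap.ker A.mulVecLin) := Module.Projective.of_split i p hpi
  have : Module.Free R (LinearMap.ker A.mulVecLin) := Module.free_of_flat_of_isLocalRing
  refine ⟨hπ, ⟨b.equivFun⟩, inferInstance, inferInstance, ?_⟩
  let e : (Fin m → R) ≃ₗ[R] LinearMap.ker A.mulVecLin × LinearMap.range A.mulVecLin :=
    LinearEquiv.ofLinearMap (p.prod A.mulVecLin.rangeRestrict) (i.coprod s)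
      (LinearMap.ext fun v => Prod.ext (Subtype.ext (by
        have h1 : A.mulVecLin.rangeRestrict ((v.1 : Fin m → R) + s v.2) = v.2 := Subtype.ext (by
          show A.mulVecLin _ = _
          rw [map_add, LinearMap.mem_ker.1 v.1.2, zero_add, hss])
        show (v.1 : Fin m → R) + s v.2 - s (A.mulVecLin.rangeRestrict ((v.1 : Fin m → R) + s v.2)) = v.1
        rw [h1, add_sub_cancel_right])) (Subtype.ext (by
          show A.mulVecLin ((v.1 : Fin m → R) + s v.2) = _
          rw [map_add, LinearMap.mem_ker.1 v.1.2, zero_add, hss]; rfl)))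
      (LinearMap.ext fun v => by
        show v - s (A.mulVecLin.rangeRestrict v) + s (A.mulVecLin.rangeRestrict v) = v
        rw [sub_add_cancel])
  have := e.finrank_eq
  rw [Module.finrank_fin_fun, Module.finrank_prod, Module.finrank_eq_card_basis b, Fintype.card_fin] at this
  exact this.symm

omit [IsLocalRing R] in
/-- Minors of a product. -/
theorem det_mul_mem {s t : ℕ} (P : Matrix (Fin s) (Fin t) R) (Q : Matrix (Fin t) (Fin s) R) (J : Ideal R)
    (h : ∀ f : Fin s → Fin t, (Q.submatrix f id).det ∈ J) : (P * Q).det ∈ J := by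
  rw [Groth.Misc13.CauchyBinet.det_mul_eq_sum]
  exact sum_mem fun S _ => Ideal.mul_mem_left _ _ (h _)

omit [IsLocalRing R] in
/-- A matrix with a direct summand image of rank `r`. -/
theorem minorIdeal_of_split (N : Submodule R (Fin n → R)) (hc : IsCompl (LinearMap.range A.mulVecLin) N)
    (b : Module.Basis (Fin r) R (LinearMap.range A.mulVecLin)) :
    CAlgX.minorIdeal A (r + 1) = ⊥ ∧ CAlgX.minorIdeal A r = ⊤ := by
  classical
  let K := LinearMap.range A.mulVecLin
  let B : Matrix (Fin n) (Fin r) R := Matrix.of fun i j => (b j : Fin n → R) i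
  let C : Matrix (Fin r) (Fin m) R := Matrix.of fun j l => b.repr (A.mulVecLin.rangeRestrict (Pi.single l 1)) j
  have hBC : A = B * C := by
    ext i l
    rw [Matrix.mul_apply]
    have h1 := congrArg (fun y : K => (y : Fin n → R) i) (b.sum_repr (A.mulVecLin.rangeRestrict (Pi.single l 1)))
    simp only [AddSubmonoidClass.coe_finsetSum, Finset.sum_apply, Submodule.coe_smul, Pi.smul_apply, smul_eq_mul] at h1
    rw [show A i l = (A.mulVecLin.rangeRestrict (Pi.single l 1) : Fin n → R) i from
      (congrFun (Matrix.mulVec_single_one A l) i).symm, ← h1]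
    exact Finset.sum_congr rfl fun j _ => mul_comm _ _
  constructor
  · rw [CAlgX.minorIdeal, Ideal.span_eq_bot]
    rintro _ ⟨⟨f, g⟩, rfl⟩
    show (A.submatrix f g).det = 0
    rw [hBC, Matrix.submatrix_mul B C f id g Function.bijective_id, Groth.Misc13.CauchyBinet.det_mul_eq_sum]
    refine Finset.sum_eq_zero fun S _ => absurd S.2 ?_
    have := S.1.card_le_univ
    rw [Fintype.card_fin] at this
    omega
  · let P : Matrix (Fin r) (Fin n) R := LinearMap.toMatrix'
      (b.equivFun.toLinearMap ∘ₗ K.projectionOnto N hc)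
    choose q hq using fun j => (b j).2
    let Q : Matrix (Fin m) (Fin r) R := Matrix.of fun l j => q j l
    have h1 : P * (A * Q) = 1 := by
      ext a j
      have : P.mulVec (b j : Fin n → R) = b.equivFun (b j) := by
        show (Matrix.toLin' P) _ = _
        rw [Matrix.toLin'_toMatrix', LinearMap.comp_apply, Submodule.projectionOnto_apply_left]
        rfl
      rw [Matrix.mul_apply]
      have h2 : ∀ i, (A * Q) i j = (b j : Fin n → R) i := fun i => by
        rw [Matrix.mul_apply]; exact congrFun (hq j) i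
      simp only [h2]
      rw [show ∑ i, P a i * (b j : Fin n → R) i = P.mulVec (b j : Fin n → R) a from rfl, this,
        Module.Basis.equivFun_self, Matrix.one_apply]
      exact if_congr eq_comm rfl rfl
    rw [Ideal.eq_top_iff_one, ← Matrix.det_one (n := Fin r), ← h1]
    refine det_mul_mem P (A * Q) _ fun f => ?_
    rw [Matrix.submatrix_mul A Q f id id Function.bijective_id, ← Matrix.det_transpose, Matrix.transpose_mul]
    refine det_mul_mem _ _ _ fun g => ?_
    refine (Ideal.mem_span_range_iff_exists_fun).2 ⟨Pi.single (f, g) 1, ?_⟩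
    rw [Finset.sum_eq_single (f, g) (fun p _ hp => by simp [hp]) (fun hh => absurd (Finset.mem_univ _) hh),
      Pi.single_eq_same, one_mul, ← Matrix.det_transpose]
    rfl

end Groth.Calg8.SplitMatrix
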