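import Groth.Agent.Calg8.WittScaling

/-!
Decompositions of Witt vectors along module generators.
-/

namespace Groth.Calg8

variable {p : ℕ} [hp : Fact p.Prime] {B : Type*} [CommRing B]

set_option quotPrecheck false in
local notation "V" => (⇑(WittVector.verschiebung : WittVector p B →+ WittVector p B))

theorem iterate_verschiebung_shift (w : WittVector p B) (m : ℕ)
    (h : ∀ k < m, w.coeff k = 0) : V^[m] (WittVector.mk p fun k => w.coeff (k + m)) = w := by
  ext k
  rcases lt_or_ge k m with hk | hk
  · rw [WittVector.iterate_verschiebung_coeff_eq_zero _ hk, h k hk]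
  · obtain ⟨l, rfl⟩ := Nat.exists_eq_add_of_le' hk
    rw [WittVector.iterate_verschiebung_coeff]
    rfl

theorem iterate_verschiebung_sum {J : Type*} (s : Finset J) (g : J → WittVector p B) (m : ℕ) :
    V^[m] (∑ j ∈ s, g j) = ∑ j ∈ s, V^[m] (g j) := by
  induction m with
  | zero => rfl
  | succ m ih => simp only [Function.iterate_succ_apply', ih, map_sum]

theorem iterate_verschiebung_teichmuller_coeff (c : B) (m k : ℕ) :
    (V^[m] (WittVector.teichmuller p c)).coeff k = if k = m then c else 0 := by
  rcases lt_trichotomy k m with hk | rfl | hk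
  · rw [WittVector.iterate_verschiebung_coeff_eq_zero _ hk, if_neg hk.ne]
  · rw [if_pos rfl]
    simpa using WittVector.iterate_verschiebung_coeff (WittVector.teichmuller p c) k 0
  · obtain ⟨l, rfl⟩ := Nat.exists_eq_add_of_lt hk
    rw [show m + l + 1 = (l + 1) + m by omega, WittVector.iterate_verschiebung_coeff,
      WittVector.teichmuller_coeff_pos _ _ _ (Nat.succ_pos l), if_neg (by omega)]

/-- `T(r) V^m(x) = V^m (T(r^(p^m)) x)`. -/
theorem teichmuller_mul_iterate_verschiebung (r : B) (x : WittVector p B) (m : ℕ) :
    WittVector.teichmuller p r * V^[m] x = V^[m] (WittVector.teichmuller p (r ^ p ^ m) * x) := by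
  ext k
  rw [teichmuller_mul_coeff]
  rcases lt_or_ge k m with hk | hk
  · rw [WittVector.iterate_verschiebung_coeff_eq_zero _ hk,
      WittVector.iterate_verschiebung_coeff_eq_zero _ hk, mul_zero]
  · obtain ⟨l, rfl⟩ := Nat.exists_eq_add_of_le' hk
    rw [WittVector.iterate_verschiebung_coeff, WittVector.iterate_verschiebung_coeff,
      teichmuller_mul_coeff, ← pow_mul, ← pow_add, add_comm m l]

/-- A finite sum of Witt vectors with pairwise disjoint coefficient supports. -/
theorem coeff_sum_of_disjoint {J : Type*} (s : Finset J) (g : J → WittVector p B)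
    (h : ∀ k, ∀ i ∈ s, ∀ j ∈ s, i ≠ j → (g i).coeff k = 0 ∨ (g j).coeff k = 0) (k : ℕ) :
    (∑ j ∈ s, g j).coeff k = ∑ j ∈ s, (g j).coeff k := by
  classical
  induction s using Finset.induction_on generalizing k with
  | empty => simp
  | insert a s ha ih =>
    have ih' := ih (fun l i hi j hj => h l i (Finset.mem_insert_of_mem hi) j (Finset.mem_insert_of_mem hj))
    rw [Finset.sum_insert ha, Finset.sum_insert ha, WittVector.coeff_add_of_disjoint, ih']
    intro l
    rw [ih']
    by_cases hal : (g a).coeff l = 0
    · exact Or.inl hal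
    · refine Or.inr (Finset.sum_eq_zero fun j hj => ?_)
      exact (h l a (Finset.mem_insert_self a s) j (Finset.mem_insert_of_mem hj)
        (fun e => ha (e ▸ hj))).resolve_left hal

/-- Every Witt vector is a finite sum of Witt vectors along given module generators. -/
theorem exists_sum_mk {A J : Type*} [CommRing A] [Algebra A B] [Fintype J] (y : J → B)
    (hy : ∀ b : B, ∃ α : J → A, ∑ j, algebraMap A B (α j) * y j = b) (η : WittVector p B) :
    ∃ α : ℕ → J → A, ∑ j, (WittVector.mk p fun i => algebraMap A B (α i j) * y j) = η := by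
  classical
  choose f hf using hy
  let next : WittVector p B → WittVector p B := fun ρ => WittVector.mk p fun k =>
    (ρ - ∑ j, WittVector.teichmuller p (algebraMap A B (f (ρ.coeff 0) j) * y j)).coeff (k + 1)
  let ρ : ℕ → WittVector p B := fun i => next^[i] η
  let c : ℕ → J → B := fun i j => algebraMap A B (f ((ρ i).coeff 0) j) * y j
  have hnext : ∀ i, ρ i = ∑ j, WittVector.teichmuller p (c i j) + V (ρ (i + 1)) := by
    intro i
    have h0 : (ρ i - ∑ j, WittVector.teichmuller p (c i j)).coeff 0 = 0 := by
      rw [show ∀ w : WittVector p B, w.coeff 0 = WittVector.constantCoeff w from fun w => rfl, map_sub,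
        map_sum]
      simp only [show ∀ w : WittVector p B, WittVector.constantCoeff w = w.coeff 0 from fun w => rfl,
        WittVector.teichmuller_coeff_zero]
      rw [show ∑ j, c i j = (ρ i).coeff 0 from hf _, sub_self]
    have hs := iterate_verschiebung_shift (ρ i - ∑ j, WittVector.teichmuller p (c i j)) 1
      (fun k hk => by rw [Nat.lt_one_iff.1 hk]; exact h0)
    have h1 : ρ (i + 1) = next (ρ i) := Function.iterate_succ_apply' _ _ _
    rw [h1]
    rw [Function.iterate_one] at hs
    show _ = _ + V (next (ρ i))
    rw [show next (ρ i) = WittVector.mk p fun k =>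
      (ρ i - ∑ j, WittVector.teichmuller p (c i j)).coeff (k + 1) from rfl, hs]
    abel
  have hsum : ∀ i, η = ∑ j, ∑ k ∈ Finset.range i, V^[k] (WittVector.teichmuller p (c k j)) + V^[i] (ρ i) := by
    intro i
    induction i with
    | zero => simp [ρ]
    | succ i ih =>
      rw [ih, hnext i, iterate_map_add, iterate_verschiebung_sum, ← Function.iterate_succ_apply]
      simp only [Finset.sum_range_succ, Finset.sum_add_distrib]
      abel
  refine ⟨fun i j => f ((ρ i).coeff 0) j, ?_⟩
  have hsplit : ∀ (i : ℕ) (j : J), WittVector.mk p (fun k => c k j) =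
      (∑ k ∈ Finset.range i, V^[k] (WittVector.teichmuller p (c k j))) +
        V^[i] (WittVector.mk p fun k => c (k + i) j) := by
    intro i j
    have hl : ∀ l, (∑ k ∈ Finset.range i, V^[k] (WittVector.teichmuller p (c k j))).coeff l =
        if l < i then c l j else 0 := by
      intro l
      rw [coeff_sum_of_disjoint]
      · simp [iterate_verschiebung_teichmuller_coeff]
      · intro m a _ b _ hab
        rw [iterate_verschiebung_teichmuller_coeff, iterate_verschiebung_teichmuller_coeff]
        by_cases hm : m = a
        · exact Or.inr (if_neg (hm ▸ hab))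
        · exact Or.inl (if_neg hm)
    have hr : ∀ l, (V^[i] (WittVector.mk p fun k => c (k + i) j)).coeff l = if l < i then 0 else c l j := by
      intro l
      split_ifs with h
      · exact WittVector.iterate_verschiebung_coeff_eq_zero _ h
      · obtain ⟨m, rfl⟩ := Nat.exists_eq_add_of_le' (not_lt.1 h)
        rw [WittVector.iterate_verschiebung_coeff]
        rfl
    ext l
    rw [WittVector.coeff_add_of_disjoint, hl, hr]
    · split_ifs <;> simp
    · intro m
      rw [hl, hr]
      split_ifs <;> simp
  ext l
  have h1 : ∑ j, WittVector.mk p (fun k => c k j) =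
      η + V^[l + 1] (∑ j, WittVector.mk p (fun k => c (k + (l + 1)) j) + (-(ρ (l + 1)))) := by
    rw [Finset.sum_congr rfl fun j _ => hsplit (l + 1) j, Finset.sum_add_distrib, iterate_map_add,
      iterate_verschiebung_sum, iterate_map_neg]
    conv_rhs => rw [hsum (l + 1)]
    abel
  show (∑ j, WittVector.mk p (fun k => c k j)).coeff l = η.coeff l
  rw [h1]
  set q : WittVector p B := ∑ j, WittVector.mk p (fun k => c (k + (l + 1)) j) + (-(ρ (l + 1)))
  have h3 : (η + V^[l + 1] q).coeff l = η.coeff l := by
    have e : WittVector.init (l + 1) (η + V^[l + 1] q) = WittVector.init (l + 1) η := by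
      rw [WittVector.init_add, show WittVector.init (l + 1) (V^[l + 1] q) = 0 from by
        ext k
        simp only [WittVector.init, WittVector.select, WittVector.coeff_mk, WittVector.zero_coeff]
        split_ifs with hk
        · exact WittVector.iterate_verschiebung_coeff_eq_zero _ hk
        · rfl, add_zero, WittVector.init_init]
    simpa [WittVector.init, WittVector.select] using congrArg (fun w => w.coeff l) e
  exact h3

end Groth.Calg8
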