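import Mathlib

/-!
Multiplication by Teichmüller representatives and weighted homogeneity of Witt polynomials.
-/

namespace Groth.Calg8

open MvPolynomial

variable {p : ℕ} [hp : Fact p.Prime]

theorem ghostComponent_eq_sum {R : Type*} [CommRing R] (n : ℕ) (x : WittVector p R) :
    WittVector.ghostComponent n x =
      ∑ i ∈ Finset.range (n + 1), (p : R) ^ i * x.coeff i ^ p ^ (n - i) := by
  rw [WittVector.ghostComponent_apply, aeval_wittPolynomial]

private theorem teichmuller_mul_coeff_aux {σ : Type*} (r : MvPolynomial σ ℚ)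
    (x : WittVector p (MvPolynomial σ ℚ)) :
    WittVector.teichmuller p r * x = WittVector.mk p fun i => r ^ p ^ i * x.coeff i := by
  apply (WittVector.ghostMap.bijective_of_invertible p (MvPolynomial σ ℚ)).1
  rw [map_mul]
  ext1 n
  simp only [Pi.mul_apply, WittVector.ghostMap_apply, WittVector.ghostComponent_teichmuller]
  rw [ghostComponent_eq_sum, ghostComponent_eq_sum, Finset.mul_sum]
  refine Finset.sum_congr rfl fun i hi => ?_
  rw [Finset.mem_range] at hi
  rw [show (WittVector.mk p fun i => r ^ p ^ i * x.coeff i).coeff i = r ^ p ^ i * x.coeff i from rfl,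
    mul_pow, ← pow_mul, ← pow_add, Nat.add_sub_cancel' (by omega)]
  ring

private theorem teichmuller_mul_coeff_aux' {σ : Type*} (r : MvPolynomial σ ℤ)
    (x : WittVector p (MvPolynomial σ ℤ)) :
    WittVector.teichmuller p r * x = WittVector.mk p fun i => r ^ p ^ i * x.coeff i := by
  refine WittVector.map_injective (MvPolynomial.map (Int.castRingHom ℚ))
    (MvPolynomial.map_injective _ Int.cast_injective) ?_
  rw [map_mul, WittVector.map_teichmuller, teichmuller_mul_coeff_aux]
  ext i
  simp [WittVector.map_coeff]

/-- Multiplying by a Teichmüller representative scales the `n`-th coordinate by the `p ^ n`-th power. -/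
theorem teichmuller_mul_coeff {R : Type*} [CommRing R] (r : R) (x : WittVector p R) (n : ℕ) :
    (WittVector.teichmuller p r * x).coeff n = r ^ p ^ n * x.coeff n := by
  obtain ⟨r, rfl⟩ := MvPolynomial.counit_surjective R r
  choose y hy using fun i => MvPolynomial.counit_surjective R (x.coeff i)
  have hx : x = WittVector.map (MvPolynomial.counit R) (WittVector.mk p y) := by
    ext i
    rw [WittVector.map_coeff]
    exact (hy i).symm
  rw [hx, ← WittVector.map_teichmuller, ← map_mul, teichmuller_mul_coeff_aux']
  simp [WittVector.map_coeff]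

/-- A polynomial whose values scale with degree `N` is weighted homogeneous. -/
theorem isWeightedHomogeneous_of_scaling {σ : Type*} (w : σ → ℕ) (N : ℕ) (P : MvPolynomial σ ℤ)
    (h : aeval (fun v => Polynomial.C (X v : MvPolynomial σ ℤ) * Polynomial.X ^ w v) P =
      Polynomial.C P * Polynomial.X ^ N) :
    IsWeightedHomogeneous w P N := by
  classical
  intro d hd
  by_contra hne
  let Φ : MvPolynomial σ ℤ →ₐ[ℤ] Polynomial (MvPolynomial σ ℤ) :=
    aeval (fun v => Polynomial.C (X v : MvPolynomial σ ℤ) * Polynomial.X ^ w v)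
  have hmon : ∀ (e : σ →₀ ℕ) (a : ℤ), Φ (monomial e a) =
      Polynomial.C (monomial e a) * Polynomial.X ^ Finsupp.weight w e := by
    intro e a
    have hX : Φ (monomial e 1) =
        Polynomial.C (monomial e 1) * Polynomial.X ^ Finsupp.weight w e := by
      induction e using Finsupp.induction with
      | zero => simp [show (monomial (0 : σ →₀ ℕ)) (1 : ℤ) = 1 from rfl]
      | single_add v k e _ _ ih =>
        rw [monomial_single_add, map_mul, ih, map_pow, show Φ (X v) =
          Polynomial.C (X v : MvPolynomial σ ℤ) * Polynomial.X ^ w v from aeval_X _ _, map_add,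
          Finsupp.weight_single, smul_eq_mul, map_mul, map_pow, pow_add, mul_pow, ← pow_mul]
        ring
    have ha : monomial e a = a • monomial e (1 : ℤ) := by simp [smul_monomial]
    rw [ha, map_zsmul, hX]
    simp [mul_assoc]
  have h' := congrArg (fun q => Polynomial.coeff q (Finsupp.weight w d)) h
  have h2 : ∀ Q : MvPolynomial σ ℤ, coeff d (Polynomial.coeff (Φ Q) (Finsupp.weight w d)) = coeff d Q := by
    intro Q
    induction Q using MvPolynomial.induction_on' with
    | monomial e a =>
      rw [hmon, Polynomial.coeff_C_mul, Polynomial.coeff_X_pow]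
      rcases eq_or_ne e d with rfl | he
      · simp
      · split_ifs <;> simp [coeff_monomial, he]
    | add a b ha hb => simp only [map_add, Polynomial.coeff_add, coeff_add, ha, hb]
  have h3 : coeff d (Polynomial.coeff (Φ P) (Finsupp.weight w d)) =
      coeff d (Polynomial.coeff (Polynomial.C P * Polynomial.X ^ N) (Finsupp.weight w d)) :=
    congrArg (coeff d) h'
  rw [h2, Polynomial.coeff_C_mul, Polynomial.coeff_X_pow, if_neg hne] at h3
  simp at h3
  exact hd h3

theorem wittAdd_isWeightedHomogeneous (n : ℕ) :
    IsWeightedHomogeneous (fun i : Fin 2 × ℕ => p ^ i.2) (WittVector.wittAdd p n) (p ^ n) := by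
  refine isWeightedHomogeneous_of_scaling _ _ _ ?_
  let R := Polynomial (MvPolynomial (Fin 2 × ℕ) ℤ)
  let g : Fin 2 → WittVector p R := fun a => WittVector.mk p fun i => Polynomial.C (X (a, i))
  let T : WittVector p R := WittVector.teichmuller p Polynomial.X
  have h : (T * g 0 + T * g 1).coeff n = (T * (g 0 + g 1)).coeff n := by rw [mul_add]
  rw [teichmuller_mul_coeff, WittVector.add_coeff, WittVector.add_coeff] at h
  have e1 : ∀ v : Fin 2 × ℕ, Function.uncurry ![(T * g 0).coeff, (T * g 1).coeff] v =
      Polynomial.C (X v : MvPolynomial (Fin 2 × ℕ) ℤ) * Polynomial.X ^ (p ^ v.2) := by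
    rintro ⟨a, i⟩
    fin_cases a <;> simp [T, teichmuller_mul_coeff] <;> simp [g] <;> exact mul_comm _ _
  have e2 : ∀ v : Fin 2 × ℕ, Function.uncurry ![(g 0).coeff, (g 1).coeff] v =
      Polynomial.C (X v : MvPolynomial (Fin 2 × ℕ) ℤ) := by
    rintro ⟨a, i⟩
    fin_cases a <;> simp [g]
  simp only [WittVector.peval] at h
  rw [funext e1, funext e2] at h
  refine h.trans ?_
  rw [mul_comm]
  congr 1
  rw [← Function.comp_def Polynomial.C X]
  induction WittVector.wittAdd p n using MvPolynomial.induction_on with
  | C a => simp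
  | add a b ha hb => simp [ha, hb]
  | mul_X a v ha => simp [ha]

theorem wittMul_isWeightedHomogeneous_snd (n : ℕ) :
    IsWeightedHomogeneous (fun i : Fin 2 × ℕ => if i.1 = 0 then 0 else p ^ i.2)
      (WittVector.wittMul p n) (p ^ n) := by
  refine isWeightedHomogeneous_of_scaling _ _ _ ?_
  let R := Polynomial (MvPolynomial (Fin 2 × ℕ) ℤ)
  let g : Fin 2 → WittVector p R := fun a => WittVector.mk p fun i => Polynomial.C (X (a, i))
  let T : WittVector p R := WittVector.teichmuller p Polynomial.X
  have h : (g 0 * (T * g 1)).coeff n = (T * (g 0 * g 1)).coeff n := by rw [mul_left_comm]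
  rw [teichmuller_mul_coeff, WittVector.mul_coeff, WittVector.mul_coeff] at h
  have e1 : ∀ v : Fin 2 × ℕ, Function.uncurry ![(g 0).coeff, (T * g 1).coeff] v =
      Polynomial.C (X v : MvPolynomial (Fin 2 × ℕ) ℤ) *
        Polynomial.X ^ (if v.1 = 0 then 0 else p ^ v.2) := by
    rintro ⟨a, i⟩
    fin_cases a <;> simp [T, teichmuller_mul_coeff] <;> simp [g] <;> exact mul_comm _ _
  have e2 : ∀ v : Fin 2 × ℕ, Function.uncurry ![(g 0).coeff, (g 1).coeff] v =
      Polynomial.C (X v : MvPolynomial (Fin 2 × ℕ) ℤ) := by
    rintro ⟨a, i⟩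
    fin_cases a <;> simp [g]
  simp only [WittVector.peval] at h
  rw [funext e1, funext e2] at h
  refine h.trans ?_
  rw [mul_comm]
  congr 1
  rw [← Function.comp_def Polynomial.C X]
  induction WittVector.wittMul p n using MvPolynomial.induction_on with
  | C a => simp
  | add a b ha hb => simp [ha, hb]
  | mul_X a v ha => simp [ha]

/-- Evaluation of a weighted homogeneous polynomial respects a multiplicative family of submodules. -/
theorem aeval_mem_of_isWeightedHomogeneous {A K σ : Type*} [CommRing A] [CommRing K] [Algebra A K]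
    (M : ℕ → Submodule A K) (hmul : ∀ (i j : ℕ) (a b : K), a ∈ M i → b ∈ M j → a * b ∈ M (i + j))
    (w : σ → ℕ) (v : σ → K)
    (hv : ∀ s, (w s = 0 → v s ∈ (algebraMap A K).range) ∧ (0 < w s → v s ∈ M (w s)))
    (P : MvPolynomial σ ℤ) (N : ℕ) (hN : 0 < N) (hP : IsWeightedHomogeneous w P N) :
    aeval v P ∈ M N := by
  classical
  have key : ∀ d : σ →₀ ℕ, (Finsupp.weight w d = 0 → d.prod (fun s k => v s ^ k) ∈ (algebraMap A K).range) ∧
      (0 < Finsupp.weight w d → d.prod (fun s k => v s ^ k) ∈ M (Finsupp.weight w d)) := by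
    suffices H : ∀ m : Multiset σ, ((m.map w).sum = 0 → (m.map v).prod ∈ (algebraMap A K).range) ∧
        (0 < (m.map w).sum → (m.map v).prod ∈ M (m.map w).sum) by
      intro d
      have h1 : ((Finsupp.toMultiset d).map w).sum = Finsupp.weight w d := by
        rw [Finsupp.toMultiset_map, Finsupp.sum_toMultiset, Finsupp.sum_mapDomain_index (by simp) (by intros; ring)]
        simp [Finsupp.weight_apply, mul_comm]
      have h2 : ((Finsupp.toMultiset d).map v).prod = d.prod (fun s k => v s ^ k) := by
        rw [Finsupp.toMultiset_map, Finsupp.prod_toMultiset, Finsupp.prod_mapDomain_index (by simp) (by simp [pow_add])]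
      rw [← h1, ← h2]
      exact H _
    intro m
    induction m using Multiset.induction_on with
    | empty => simp
    | cons s m ih =>
      simp only [Multiset.map_cons, Multiset.sum_cons, Multiset.prod_cons]
      rcases Nat.eq_zero_or_pos (w s) with hs | hs
      · obtain ⟨a, ha⟩ := (hv s).1 hs
        rw [hs, zero_add]
        refine ⟨fun h => ?_, fun h => ?_⟩
        · exact Subring.mul_mem _ ((hv s).1 hs) (ih.1 h)
        · rw [← ha, ← Algebra.smul_def]
          exact Submodule.smul_mem _ _ (ih.2 h)
      · refine ⟨fun h => absurd h (by omega), fun _ => ?_⟩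
        rcases Nat.eq_zero_or_pos (m.map w).sum with hm | hm
        · obtain ⟨a, ha⟩ := ih.1 hm
          rw [hm, add_zero, ← ha, mul_comm, ← Algebra.smul_def]
          exact Submodule.smul_mem _ _ ((hv s).2 hs)
        · exact hmul _ _ _ _ ((hv s).2 hs) (ih.2 hm)
  rw [P.as_sum, map_sum]
  refine Submodule.sum_mem _ fun d hd => ?_
  have hw := hP (mem_support_iff.1 hd)
  rw [aeval_monomial]
  have : d.prod (fun s k => v s ^ k) ∈ M N := hw ▸ (key d).2 (hw ▸ hN)
  simpa using zsmul_mem this (coeff d P)

end Groth.Calg8
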